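import Groth.Agent.SkDesc.Basic
import Groth.Agent.FlatLoc6.RegCM
import Mathlib.RingTheory.KrullDimension.Module
import Mathlib.RingTheory.Ideal.GoingUp
import Mathlib.RingTheory.Flat.Stability
import Mathlib.RingTheory.Flat.Localization
import Mathlib.RingTheory.RegularLocalRing.Polynomial

/-! A finite flat algebra over a Cohen–Macaulay ring is Cohen–Macaulay. -/

universe u

namespace Groth.Agent.PlLib

theorem isCM_of_finite_flat (P R : Type u) [CommRing P] [CommRing R] [Algebra P R]
    [hP : LocCoh.IsCohenMacaulayRing P] [Module.Finite P R] [Module.Flat P R] :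
    LocCoh.IsCohenMacaulayRing R := by
  haveI : IsNoetherianRing R := isNoetherian_of_isNoetherianRing_of_finite P R |> fun h => isNoetherian_of_tower P h
  refine ⟨fun q _ => ?_⟩
  set p := q.under P with hp
  haveI : q.LiesOver p := ⟨hp⟩
  have hmin : q ∈ (p.map (algebraMap P R)).minimalPrimes := by
    refine ⟨⟨inferInstance, Ideal.map_le_iff_le_comap.2 le_rfl⟩, fun Q hQ hle => ?_⟩
    obtain ⟨hQp, hQmap⟩ := hQ
    haveI : Algebra.IsIntegral P R := Algebra.IsIntegral.of_finite P R
    by_contra hne
    have hlt : Q < q := lt_of_le_of_ne hle fun e => hne e.ge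
    have := Ideal.IsIntegral.comap_lt_comap (R := P) (I := Q) (J := q) hlt
    exact absurd (Ideal.map_le_iff_le_comap.1 hQmap) (not_le_of_gt this)
  haveI hCMp := hP.isCohenMacaulayLocalRing_localization p
  letI : Algebra (Localization.AtPrime p) (Localization.AtPrime q) :=
    (Localization.localRingHom p q (algebraMap P R) (q.over_def p)).toAlgebra
  haveI : IsScalarTower P (Localization.AtPrime p) (Localization.AtPrime q) :=
    IsScalarTower.of_algebraMap_eq fun x => (Localization.localRingHom_to_map p q (algebraMap P R) (q.over_def p) x).symm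
  haveI : Localization.AtPrime.IsLiesOverAlgebra p q := ⟨rfl⟩
  haveI : IsLocalHom (algebraMap (Localization.AtPrime p) (Localization.AtPrime q)) :=
    Localization.isLocalHom_localRingHom p q (algebraMap P R) (q.over_def p)
  haveI : Module.Flat P (Localization.AtPrime q) := Module.Flat.trans P R _
  haveI : Module.Flat (Localization.AtPrime p) (Localization.AtPrime q) :=
    (Module.flat_iff_of_isLocalization (Localization.AtPrime p) p.primeCompl _).2 inferInstance
  haveI : IsNoetherianRing (Localization.AtPrime q) := IsLocalization.isNoetherianRing q.primeCompl _ inferInstance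
  have hdepth := SkDesc.depth_eq (R := Localization.AtPrime p) (Localization.AtPrime q)
    fun Q hQ hle => SkDesc.eq_maximalIdeal_of_minimal R p q hmin Q hQ hle
  have hdim : ringKrullDim (Localization.AtPrime q) = ringKrullDim (Localization.AtPrime p) := by
    rw [IsLocalization.AtPrime.ringKrullDim_eq_height q, IsLocalization.AtPrime.ringKrullDim_eq_height p,
      SkDesc.height_eq_of_minimal R p q hmin]
  have h := hCMp.supportDim_eq_depth
  rw [Module.supportDim_self_eq_ringKrullDim] at h
  exact { supportDim_eq_depth := by rw [Module.supportDim_self_eq_ringKrullDim, hdim, h, hdepth] }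

theorem isCM_mvPolynomial (K : Type u) [Field K] (N : ℕ) :
    LocCoh.IsCohenMacaulayRing (MvPolynomial (Fin N) K) :=
  FlatLoc6.isCM_of_isRegularRing _

end Groth.Agent.PlLib
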