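import Groth.Prelude.Def_W4bk4grassmannianPl
import Mathlib

/-! Elementary facts on Plücker indices and minors. -/

universe u

namespace Groth.Agent.PlLib

open W4bk4grassmannian Matrix

theorem val_le_idx {d n : ℕ} (a : Idx d n) (t : Fin d) : (t : ℕ) ≤ (a.1 t : ℕ) := by
  obtain ⟨t, ht⟩ := t
  induction t with
  | zero => simp
  | succ t ih =>
    have h1 := ih (by omega)
    have h2 : a.1 ⟨t, by omega⟩ < a.1 ⟨t + 1, ht⟩ := a.2 (by simp)
    rw [Fin.lt_def] at h2
    simp only at h1 ⊢
    omega

theorem exists_divisor_ge {d n : ℕ} {τ w : Idx d n} (h : τ < w) : ∃ φ ∈ divisors w, τ ≤ φ := by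
  classical
  have hle : ∀ t, τ.1 t ≤ w.1 t := fun t => h.le t
  have hne : ∃ t, τ.1 t < w.1 t := by
    by_contra! hh
    exact h.ne (Subtype.ext (funext fun t => le_antisymm (hle t) (hh t)))
  obtain ⟨t, ht, hmin⟩ := Finset.exists_min_image
    (Finset.univ.filter fun t => τ.1 t < w.1 t) id (by simpa [Finset.Nonempty] using hne)
  simp only [Finset.mem_filter, Finset.mem_univ, true_and, id_eq] at ht hmin
  have heq : ∀ s, s < t → τ.1 s = w.1 s := fun s hs => le_antisymm (hle s)
    (not_lt.mp fun h' => absurd (hmin s h') (not_le.mpr hs))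
  have ht' : (τ.1 t : ℕ) < (w.1 t : ℕ) := ht
  let v : Fin n := ⟨(w.1 t : ℕ) - 1, by omega⟩
  have hv : (v : ℕ) = (w.1 t : ℕ) - 1 := rfl
  have hmono : StrictMono (Function.update w.1 t v) := by
    intro r s hrs
    have hw : (w.1 r : ℕ) < (w.1 s : ℕ) := w.2 hrs
    rcases eq_or_ne r t with rfl | hr
    · rw [Function.update_self, Function.update_of_ne hrs.ne', Fin.lt_def]
      omega
    · rw [Function.update_of_ne hr]
      rcases eq_or_ne s t with rfl | hs
      · have h1 : (τ.1 r : ℕ) < (τ.1 s : ℕ) := τ.2 hrs
        rw [heq r hrs] at h1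
        rw [Function.update_self, Fin.lt_def]
        omega
      · rw [Function.update_of_ne hs]
        exact w.2 hrs
  refine ⟨⟨_, hmono⟩, ⟨?_, ?_⟩, ?_⟩
  · refine lt_of_le_of_ne (fun s => ?_) fun heq' => ?_
    · rcases eq_or_ne s t with rfl | hs
      · simp only [Function.update_self, Fin.le_def]; omega
      · simp [Function.update_of_ne hs]
    · have := congrArg (fun z : Idx d n => (z.1 t : ℕ)) heq'
      simp only [Function.update_self] at this
      omega
  · simp only [codeg]
    rw [← Finset.add_sum_erase _ _ (Finset.mem_univ t),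
      ← Finset.add_sum_erase _ (fun s => ((w.1 s : ℕ) - (s : ℕ))) (Finset.mem_univ t),
      Finset.sum_congr rfl (fun s hs => by rw [Function.update_of_ne (Finset.ne_of_mem_erase hs)])]
    rw [Function.update_self]
    have := val_le_idx τ t
    omega
  · intro s
    rcases eq_or_ne s t with rfl | hs
    · simp only [Function.update_self, Fin.le_def]; omega
    · simp only [Function.update_of_ne hs]
      exact hle s

variable {K : Type u} [Field K] {d n : ℕ}

theorem det_submatrix_eq_of_idx (A A' : Matrix (Fin n) (Fin d) K) (c : K)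
    (h : ∀ θ : Idx d n, (A.submatrix θ.1 id).det = c * (A'.submatrix θ.1 id).det)
    (a : Fin d → Fin n) : (A.submatrix a id).det = c * (A'.submatrix a id).det := by
  by_cases ha : Function.Injective a
  · let σ := Tuple.sort a
    have hσ : StrictMono (a ∘ σ) :=
      (Tuple.monotone_sort a).strictMono_of_injective (ha.comp σ.injective)
    have h1 := h ⟨a ∘ σ, hσ⟩
    have h2 : ∀ B : Matrix (Fin n) (Fin d) K,
        B.submatrix (a ∘ σ) id = (B.submatrix a id).submatrix σ id := fun _ => rfl
    rw [h2, h2, det_permute, det_permute, mul_left_comm] at h1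
    have hs : ((Equiv.Perm.sign σ : ℤ) : K) ≠ 0 := by
      rcases Int.units_eq_one_or (Equiv.Perm.sign σ) with hu | hu <;> simp [hu]
    exact mul_left_cancel₀ hs h1
  · obtain ⟨i, j, hij, hne⟩ := Function.not_injective_iff.mp ha
    rw [Matrix.det_zero_of_row_eq (M := A.submatrix a id) hne (by funext k; simp [hij]),
      Matrix.det_zero_of_row_eq (M := A'.submatrix a id) hne (by funext k; simp [hij]), mul_zero]

theorem exists_minor_ne_zero (A : Matrix (Fin n) (Fin d) K)
    (hA : LinearIndependent K A.transpose) :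
    ∃ a : Fin d → Fin n, (A.submatrix a id).det ≠ 0 := by
  classical
  have hspan : Submodule.span K (Set.range A.row) = ⊤ := by
    apply Submodule.eq_top_of_finrank_eq
    rw [← A.rank_eq_finrank_span_row, ← A.rank_transpose]
    refine (LinearIndependent.rank_matrix (M := A.transpose) hA).trans ?_
    simp
  obtain ⟨κ, a, ha, hsp, hli⟩ := exists_linearIndependent' K A.row
  rw [hspan] at hsp
  haveI : Finite κ := Finite.of_injective a ha
  cases nonempty_fintype κ
  have hcard : Fintype.card κ = d := by
    have := Module.finrank_eq_card_basis (Module.Basis.mk hli hsp.ge)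
    simpa using this.symm
  let e : Fin d ≃ κ := (finCongr hcard.symm).trans (Fintype.equivFin κ).symm
  refine ⟨a ∘ e, fun h0 => ?_⟩
  have hli' : LinearIndependent K (A.submatrix (a ∘ e) id).row := hli.comp e e.injective
  rw [Matrix.linearIndependent_rows_iff_isUnit, Matrix.isUnit_iff_isUnit_det, h0] at hli'
  exact not_isUnit_zero hli'

theorem span_columns_eq (A A' : Matrix (Fin n) (Fin d) K)
    (hA : LinearIndependent K A.transpose) (c : K) (hc : c ≠ 0)
    (h : ∀ θ : Idx d n, (A.submatrix θ.1 id).det = c * (A'.submatrix θ.1 id).det) :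
    Submodule.span K (Set.range A.transpose) = Submodule.span K (Set.range A'.transpose) := by
  classical
  obtain ⟨a, ha⟩ := exists_minor_ne_zero A hA
  have hall := det_submatrix_eq_of_idx A A' c h
  set P := A.submatrix a id with hP
  set P' := A'.submatrix a id with hP'
  have ha' : P'.det ≠ 0 := fun h0 => ha (by rw [hP, hall, ← hP', h0, mul_zero])
  let B := A * P⁻¹
  let B' := A' * P'⁻¹
  have hB : ∀ (M : Matrix (Fin n) (Fin d) K) (Q : Matrix (Fin d) (Fin d) K) (i : Fin n) (t : Fin d),
      Q = M.submatrix a id → IsUnit Q.det →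
        (M * Q⁻¹) i t * Q.det = (M.submatrix (Function.update a t i) id).det := by
    intro M Q i t hQ hu
    have h1 : (M * Q⁻¹).submatrix (Function.update a t i) id =
        Matrix.updateRow 1 t ((M * Q⁻¹) i) := by
      ext r s
      by_cases hr : r = t
      · subst hr; simp
      · rw [Matrix.updateRow_ne hr, Matrix.submatrix_apply, Function.update_of_ne hr, id_eq,
          ← Matrix.mul_nonsing_inv Q hu, hQ]
        rfl
    have h2 : M.submatrix (Function.update a t i) id =
        (M * Q⁻¹).submatrix (Function.update a t i) id * Q := by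
      conv_lhs => rw [← Matrix.mul_one M, ← Matrix.nonsing_inv_mul Q hu, ← Matrix.mul_assoc]
      rfl
    rw [h2, Matrix.det_mul, h1]
    congr 1
    have h3 := Matrix.cramer_transpose_apply (1 : Matrix (Fin d) (Fin d) K) ((M * Q⁻¹) i) t
    rw [← h3]
    simp
  have hBB : B = B' := by
    ext i t
    have e1 := hB A P i t rfl (Ne.isUnit ha)
    have e2 := hB A' P' i t rfl (Ne.isUnit ha')
    rw [hall (Function.update a t i), ← e2, hP, hall a, ← hP'] at e1
    refine mul_right_cancel₀ (mul_ne_zero hc ha') ?_
    rw [e1]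
    ring
  have hcols : ∀ (M : Matrix (Fin n) (Fin d) K) (Q : Matrix (Fin d) (Fin d) K), IsUnit Q.det →
      Submodule.span K (Set.range M.transpose) = LinearMap.range (M * Q⁻¹).mulVecLin := by
    intro M Q hu
    have hs : Function.Surjective (Q⁻¹).mulVecLin := fun v => ⟨Q *ᵥ v, by
      simp [Matrix.mulVecLin_apply, Matrix.mulVec_mulVec, Matrix.nonsing_inv_mul Q hu]⟩
    rw [Matrix.mulVecLin_mul, LinearMap.range_comp_of_range_eq_top _ (LinearMap.range_eq_top.mpr hs),
      Matrix.range_mulVecLin]
    rfl
  rw [hcols A P (Ne.isUnit ha), hcols A' P' (Ne.isUnit ha')]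
  show LinearMap.range B.mulVecLin = LinearMap.range B'.mulVecLin
  rw [hBB]

end Groth.Agent.PlLib
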