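import Groth.Agent.PlLib.CellBasis

/-! Bitableaux of minors and standard monomials on the cell. -/

universe u

namespace Groth.Agent.PlLib

open W4bk4grassmannian MvPolynomial

variable {m n : ℕ}

/-- The Plücker index attached to a minor `[A | B]`: the row indices are reversed. -/
noncomputable def minorTheta (M : MinorIdx m n) : Idx n (n + m) :=
  cellIdx (Fin.rev ∘ M.2.1.1) M.2.2.1 (Fin.rev_injective.comp M.2.1.2.injective) M.2.2.2.injective

theorem upperSize_minorTheta (M : MinorIdx m n) : upperSize (minorTheta M) = M.1 + 1 :=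
  upperSize_cellIdx _ _ _ _

theorem minorTheta_ne_cbot (M : MinorIdx m n) : minorTheta M ≠ cbot n m := fun h => by
  have := upperSize_minorTheta M
  rw [(upperSize_eq_zero_iff _).2 h] at this
  omega

theorem cnt_rev (M : MinorIdx m n) (i : Fin m) :
    cnt (Fin.rev ∘ M.2.1.1) i + (Finset.univ.filter fun j => M.2.1.1 j < i.rev).card = M.1 + 1 := by
  classical
  rw [cnt_eq_card]
  have h : (Finset.univ.filter fun j => (Fin.rev ∘ M.2.1.1) j ≤ i) =
      Finset.univ.filter fun j => ¬ M.2.1.1 j < i.rev :=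
    Finset.filter_congr fun j _ => by rw [Function.comp_apply, Fin.rev_le_iff, not_lt]
  rw [h, add_comm, Finset.card_filter_add_card_filter_not, Finset.card_univ, Fintype.card_fin]

theorem cnt_le_self {s N : ℕ} (b : Fin s → Fin N) (v : Fin N) : cnt b v ≤ s := by
  rw [cnt_eq_card]; exact (Finset.card_le_univ _).trans (le_of_eq (Fintype.card_fin s))

theorem le_cnt_of_le {s N : ℕ} {b : Fin s → Fin N} (hb : StrictMono b) (j : Fin s) :
    j.val + 1 ≤ cnt b (b j) := by
  rw [cnt_eq_card]
  have : (Finset.Iic j).card ≤ (Finset.univ.filter fun k => b k ≤ b j).card :=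
    Finset.card_le_card fun k hk => by simpa using hb.monotone (Finset.mem_Iic.1 hk)
  rwa [Fin.card_Iic] at this

theorem minorTheta_le_iff (M M' : MinorIdx m n) : minorTheta M ≤ minorTheta M' ↔ MinorGE M M' := by
  classical
  obtain ⟨s, A, B⟩ := M
  obtain ⟨s', A', B'⟩ := M'
  rw [le_iff_cnt]
  constructor
  · intro h
    have hB : ∀ v, cnt B.1 v ≤ cnt B'.1 v := by
      intro v
      have h0 := h (Fin.castAdd m v)
      have e1 := cnt_cellIdx_lower (Fin.rev ∘ A.1) B.1 (Fin.rev_injective.comp A.2.injective) B.2.injective v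
      have e2 := cnt_cellIdx_lower (Fin.rev ∘ A'.1) B'.1 (Fin.rev_injective.comp A'.2.injective) B'.2.injective v
      simp only [minorTheta] at h0
      omega
    have hA : ∀ u : Fin m, (Finset.univ.filter fun j => A.1 j < u).card ≤
        (Finset.univ.filter fun j => A'.1 j < u).card := by
      intro u
      have h0 := h (Fin.natAdd n u.rev)
      have e1 := cnt_cellIdx_upper (Fin.rev ∘ A.1) B.1 (Fin.rev_injective.comp A.2.injective) B.2.injective u.rev
      have e2 := cnt_cellIdx_upper (Fin.rev ∘ A'.1) B'.1 (Fin.rev_injective.comp A'.2.injective) B'.2.injective u.rev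
      have r1 := cnt_rev ⟨s, A, B⟩ u.rev
      have r2 := cnt_rev ⟨s', A', B'⟩ u.rev
      simp only [Fin.rev_rev] at r1 r2
      simp only [minorTheta] at h0
      omega
    refine ⟨?_, fun j j' hj => ⟨?_, ?_⟩⟩
    · show s ≤ s'
      have h1 := (le_cnt_of_le B.2 (Fin.last s)).trans ((hB _).trans (cnt_le_self B'.1 _))
      simp only [Fin.val_last] at h1
      omega
    · show A'.1 j' ≤ A.1 j
      by_contra hlt
      have h1 : (Finset.Iic j).card ≤ (Finset.univ.filter fun k => A.1 k < A'.1 j').card :=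
        Finset.card_le_card fun k hk => by
          simpa using (A.2.monotone (Finset.mem_Iic.1 hk)).trans_lt (not_le.1 hlt)
      have h2 : (Finset.univ.filter fun k => A'.1 k < A'.1 j').card ≤ (Finset.Iio j').card :=
        Finset.card_le_card fun k hk => by
          simp only [Finset.mem_filter, Finset.mem_univ, true_and] at hk
          exact Finset.mem_Iio.2 (A'.2.lt_iff_lt.1 hk)
      rw [Fin.card_Iic] at h1
      rw [Fin.card_Iio] at h2
      have := hA (A'.1 j')
      omega
    · show B'.1 j' ≤ B.1 j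
      rw [entry_le_iff B' j' (B.1 j)]
      have := (le_cnt_of_le B.2 j).trans (hB _)
      omega
  · rintro ⟨hs, hord⟩ v
    have hs' : s ≤ s' := hs
    refine Fin.addCases (fun v => ?_) (fun v => ?_) v
    · have e1 := cnt_cellIdx_lower (Fin.rev ∘ A.1) B.1 (Fin.rev_injective.comp A.2.injective) B.2.injective v
      have e2 := cnt_cellIdx_lower (Fin.rev ∘ A'.1) B'.1 (Fin.rev_injective.comp A'.2.injective) B'.2.injective v
      have hc : cnt B.1 v ≤ cnt B'.1 v := by
        rw [cnt_eq_card, cnt_eq_card]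
        refine Finset.card_le_card_of_injOn (Fin.castLE (Nat.add_le_add_right hs' 1)) (fun j hj => ?_)
          (Fin.castLE_injective _).injOn
        simp only [Finset.coe_filter, Finset.mem_univ, true_and, Set.mem_ofPred_eq] at hj ⊢
        exact ((hord j _ rfl).2).trans hj
      simp only [minorTheta]
      omega
    · have e1 := cnt_cellIdx_upper (Fin.rev ∘ A.1) B.1 (Fin.rev_injective.comp A.2.injective) B.2.injective v
      have e2 := cnt_cellIdx_upper (Fin.rev ∘ A'.1) B'.1 (Fin.rev_injective.comp A'.2.injective) B'.2.injective v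
      have r1 := cnt_rev ⟨s, A, B⟩ v
      have r2 := cnt_rev ⟨s', A', B'⟩ v
      have hc : (Finset.univ.filter fun j => A.1 j < v.rev).card ≤
          (Finset.univ.filter fun j => A'.1 j < v.rev).card := by
        refine Finset.card_le_card_of_injOn (Fin.castLE (Nat.add_le_add_right hs' 1)) (fun j hj => ?_)
          (Fin.castLE_injective _).injOn
        simp only [Finset.coe_filter, Finset.mem_univ, true_and, Set.mem_ofPred_eq] at hj ⊢
        exact ((hord j _ rfl).1).trans_lt hj
      simp only [minorTheta]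
      simp only at r1 r2
      omega

theorem minorTheta_injective : Function.Injective (minorTheta (m := m) (n := n)) := by
  intro M M' h
  obtain ⟨h1, h2⟩ := (minorTheta_le_iff M M').1 h.le
  obtain ⟨h3, h4⟩ := (minorTheta_le_iff M' M).1 h.ge
  obtain ⟨s, A, B⟩ := M
  obtain ⟨s', A', B'⟩ := M'
  obtain rfl : s = s' := le_antisymm h1 h3
  have eA : A = A' := Subtype.ext (funext fun j => le_antisymm (h4 j j rfl).1 (h2 j j rfl).1)
  have eB : B = B' := Subtype.ext (funext fun j => le_antisymm (h4 j j rfl).2 (h2 j j rfl).2)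
  rw [eA, eB]

theorem exists_minorTheta {θ : Idx n (n + m)} (h : θ ≠ cbot n m) : ∃ M : MinorIdx m n, minorTheta M = θ := by
  obtain ⟨s, a, b, ha, hb, rfl⟩ := exists_cellIdx θ
  cases s with
  | zero => exact absurd ((upperSize_eq_zero_iff _).1 (upperSize_cellIdx a b ha.injective hb.injective)) h
  | succ s =>
    refine ⟨⟨s, ⟨Fin.rev ∘ a ∘ Fin.rev, fun x y hxy => ?_⟩, ⟨b, hb⟩⟩, eq_of_cnt_eq (funext fun v => ?_)⟩
    · exact Fin.rev_lt_rev.2 (ha (Fin.rev_lt_rev.2 hxy))
    · have e1 := cnt_cellIdx (Fin.rev ∘ Fin.rev ∘ a ∘ Fin.rev) b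
        (Fin.rev_injective.comp (Fin.rev_injective.comp (ha.injective.comp Fin.rev_injective))) hb.injective v
      have e2 := cnt_cellIdx a b ha.injective hb.injective v
      have e3 : (∑ j, if Fin.natAdd n ((Fin.rev ∘ Fin.rev ∘ a ∘ Fin.rev) j) ≤ v then 1 else 0) =
          ∑ j, if Fin.natAdd n (a j) ≤ v then 1 else 0 := by
        simp only [Function.comp_apply, Fin.rev_rev]
        exact Equiv.sum_comp Fin.revPerm fun j => if Fin.natAdd n (a j) ≤ v then 1 else 0
      simp only [minorTheta]
      omega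

variable (K : Type u) [CommRing K]

/-- Reversal of the rows of the generic matrix. -/
noncomputable def revRows (m n : ℕ) : MvPolynomial (Fin m × Fin n) K →ₐ[K] MvPolynomial (Fin m × Fin n) K :=
  aeval fun p => X (Fin.rev p.1, p.2)

theorem revRows_revRows (f : MvPolynomial (Fin m × Fin n) K) : revRows K m n (revRows K m n f) = f := by
  refine AlgHom.congr_fun (φ₁ := (revRows K m n).comp (revRows K m n)) (φ₂ := AlgHom.id K _)
    (MvPolynomial.algHom_ext fun p => ?_) f
  simp [revRows]

theorem revRows_det {s : ℕ} (a : Fin s → Fin m) (b : Fin s → Fin n) :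
    revRows K m n ((genMatrix K m n).submatrix a b).det = ((genMatrix K m n).submatrix (Fin.rev ∘ a) b).det := by
  rw [AlgHom.map_det]
  congr 1
  ext x y : 1
  simp [revRows, genMatrix]

theorem revRows_mem_minorIdeal (t : ℕ) {f : MvPolynomial (Fin m × Fin n) K}
    (hf : f ∈ CAlgX.minorIdeal (genMatrix K m n) t) : revRows K m n f ∈ CAlgX.minorIdeal (genMatrix K m n) t := by
  refine (Ideal.span_le (I := (CAlgX.minorIdeal (genMatrix K m n) t).comap (revRows K m n).toRingHom)).2 ?_ hf
  rintro _ ⟨⟨a, b⟩, rfl⟩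
  show revRows K m n ((genMatrix K m n).submatrix a b).det ∈ CAlgX.minorIdeal (genMatrix K m n) t
  rw [revRows_det]
  exact Ideal.subset_span ⟨(Fin.rev ∘ a, b), rfl⟩

/-- The sign of a minor against its Plücker coordinate. -/
noncomputable def minorSign (M : MinorIdx m n) : ℤ := cellSign (Fin.rev ∘ M.2.1.1) M.2.2.1

theorem revRows_minorOf (M : MinorIdx m n) :
    revRows K m n (minorOf K M) = (minorSign M : K) • dehom K n m (X (minorTheta M)) := by
  rw [minorOf, revRows_det, dehom_X, Int.cast_smul_eq_zsmul, zsmul_eq_mul]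
  exact minor_eq_sign_mul_cellMinor K _ _ _ _

theorem isUnit_minorSign (M : MinorIdx m n) : IsUnit ((minorSign M : ℤ) : K) :=
  IsUnit.of_mul_eq_one _ (by rw [← Int.cast_mul, minorSign, cellSign_mul_self, Int.cast_one])

theorem revRows_prod_minorOf {k : ℕ} (c : Fin k → MinorIdx m n) :
    revRows K m n (∏ i, minorOf K (c i)) =
      (∏ i, (minorSign (c i) : K)) • dehom K n m (chainMon K fun i => minorTheta (c i.rev)) := by
  rw [map_prod, chainMon, map_prod]
  simp only [revRows_minorOf]
  rw [Finset.prod_smul]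
  congr 1
  exact (Equiv.prod_comp Fin.revPerm fun i => dehom K n m (X (minorTheta (c i)))).symm

theorem cellIdeal_cellPhi {σ t : ℕ} (hn : σ ≤ n) (hm : σ ≤ m)
    (h : ∀ s, s ≤ m → s ≤ n → (s ≤ σ ↔ s < t)) :
    cellIdeal K (cellPhi n m σ hn hm) = CAlgX.minorIdeal (genMatrix K m n) t := by
  rw [minorIdeal_eq_span_cellMinor, cellIdeal]
  congr 1
  ext f
  refine exists_congr fun θ => and_congr_left' ?_
  rw [le_cellPhi_iff]
  have hb : upperSize θ ≤ n := (Finset.card_le_univ _).trans (le_of_eq (Fintype.card_fin n))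
  have ha : upperSize θ ≤ m := by
    obtain ⟨s, a, b, ha, hb, rfl⟩ := exists_cellIdx θ
    rw [upperSize_cellIdx]
    simpa using Fintype.card_le_of_injective a ha.injective
  rw [h _ ha hb, not_lt]

/-- Bitableaux of minors of size less than `t`. -/
abbrev Bitab (m n t : ℕ) : Type :=
  Σ k : ℕ, {c : Fin k → MinorIdx m n // (∀ i, (c i).1 + 1 ≤ t - 1) ∧ ∀ i j, i < j → MinorGE (c i) (c j)}

/-- The chain of indices attached to a bitableau. -/
noncomputable def Bitab.chain {t : ℕ} (c : Bitab m n t) : Fin c.1 → Idx n (n + m) :=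
  fun i => minorTheta (c.2.1 i.rev)

theorem Bitab.antitone_chain {t : ℕ} (c : Bitab m n t) : Antitone c.chain := by
  intro i j hij
  rcases eq_or_lt_of_le hij with rfl | h
  · exact le_rfl
  · exact (minorTheta_le_iff _ _).2 (c.2.2.2 _ _ (Fin.rev_lt_rev.2 h))

theorem Bitab.chain_injective {t : ℕ} :
    Function.Injective fun c : Bitab m n t => (⟨c.1, c.chain⟩ : Σ k : ℕ, Fin k → Idx n (n + m)) := by
  rintro ⟨k, c, hc⟩ ⟨k', c', hc'⟩ h
  simp only [Sigma.mk.injEq] at h
  obtain ⟨rfl, h⟩ := h
  have : c = c' := funext fun i => minorTheta_injective (by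
    simpa [Bitab.chain] using congrFun (eq_of_heq h) i.rev)
  subst this
  rfl

theorem span_bitab {σ t : ℕ} (hn : σ ≤ n) (hm : σ ≤ m) (h : ∀ s, s ≤ m → s ≤ n → (s ≤ σ ↔ s < t)) :
    Submodule.span K (Set.range fun c : Bitab m n t =>
      Ideal.Quotient.mk (CAlgX.minorIdeal (genMatrix K m n) t) (∏ i, minorOf K (c.2.1 i))) = ⊤ := by
  rw [eq_top_iff]
  rintro z -
  obtain ⟨g, rfl⟩ := Ideal.Quotient.mk_surjective z
  rw [← revRows_revRows K g]
  have hm' := span_cell_std (K := K) (cellPhi n m σ hn hm)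
  have hg : Ideal.Quotient.mk (cellIdeal K (cellPhi n m σ hn hm)) (revRows K m n g) ∈ (⊤ : Submodule K _) :=
    Submodule.mem_top
  rw [← hm'] at hg
  obtain ⟨l, hl⟩ := Finsupp.mem_span_range_iff_exists_finsupp.1 hg
  have hmem : revRows K m n g - ∑ x ∈ l.support, l x • dehom K n m (chainMon K x.2.1) ∈
      CAlgX.minorIdeal (genMatrix K m n) t := by
    rw [← cellIdeal_cellPhi K hn hm h, ← Ideal.Quotient.eq, map_sum, ← hl]
    exact Finset.sum_congr rfl fun x _ => (map_smul (Ideal.Quotient.mkₐ K _) (l x) _).symm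
  rw [(Ideal.Quotient.eq (I := CAlgX.minorIdeal (genMatrix K m n) t)).2
    (show revRows K m n (revRows K m n g) - revRows K m n (∑ x ∈ l.support, l x • dehom K n m (chainMon K x.2.1)) ∈ _ by
      rw [← map_sub]; exact revRows_mem_minorIdeal K t hmem)]
  rw [map_sum, map_sum]
  refine Submodule.sum_mem _ fun x _ => ?_
  rw [map_smul]
  show (Ideal.Quotient.mkₐ K _) (l x • _) ∈ _
  rw [map_smul]
  refine Submodule.smul_mem _ _ ?_
  obtain ⟨k, c, hc, hw⟩ := x
  choose M hM using fun i => exists_minorTheta (hw i).2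
  have hsize : ∀ i, (M i).1 + 1 ≤ t - 1 := by
    intro i
    have h1 := (le_cellPhi_iff hn hm _).1 (hw i).1
    rw [← hM i, upperSize_minorTheta] at h1
    have := (h ((M i).1 + 1) (by simpa using Fintype.card_le_of_injective _ (M i).2.1.2.injective)
      (by simpa using Fintype.card_le_of_injective _ (M i).2.2.2.injective)).1 h1
    omega
  let bt : Bitab m n t := ⟨k, fun i => M i.rev, fun i => hsize _, fun i j hij => by
    rw [← minorTheta_le_iff, hM, hM]
    exact hc (Fin.rev_le_rev.2 hij.le)⟩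
  have hkey := revRows_prod_minorOf K bt.2.1
  have hchain : (fun i => minorTheta (bt.2.1 i.rev)) = c := funext fun i => by simp [bt, hM]
  rw [hchain] at hkey
  set u := ∏ i, ((minorSign (bt.2.1 i) : ℤ) : K)
  have hu : u * u = 1 := by
    rw [← Finset.prod_mul_distrib]
    exact Finset.prod_eq_one fun i _ => by rw [← Int.cast_mul, minorSign, cellSign_mul_self, Int.cast_one]
  have hval : revRows K m n (dehom K n m (chainMon K c)) = u • ∏ i, minorOf K (bt.2.1 i) := by
    have := congrArg (revRows K m n) hkey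
    rw [revRows_revRows, map_smul] at this
    rw [this, smul_smul, hu, one_smul]
  rw [hval, map_smul]
  exact Submodule.smul_mem _ _ (Submodule.subset_span ⟨bt, rfl⟩)

/-- Points of the determinantal variety. -/
def minorsVanish {F : Type*} [CommRing F] {m n : ℕ} (t : ℕ) (Z : Matrix (Fin m) (Fin n) F) : Prop :=
  ∀ (a : Fin t → Fin m) (b : Fin t → Fin n), (Z.submatrix a b).det = 0

theorem eval_mem_minorIdeal {t : ℕ} {Z : Matrix (Fin m) (Fin n) K} (hZ : minorsVanish t Z)
    {f : MvPolynomial (Fin m × Fin n) K} (hf : f ∈ CAlgX.minorIdeal (genMatrix K m n) t) :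
    eval (fun p => Z p.1 p.2) f = 0 := by
  refine (Ideal.span_le (I := RingHom.ker (eval fun p : Fin m × Fin n => Z p.1 p.2))).2 ?_ hf
  rintro _ ⟨⟨a, b⟩, rfl⟩
  show eval _ _ = 0
  rw [RingHom.map_det, ← hZ a b]
  congr 1
  ext x y
  simp [genMatrix]

/-- A combination of bitableaux vanishing at the points of the cell of `w` involves only bitableaux outside. -/
theorem coeff_eq_zero_bitab {F : Type u} [Field F] [Infinite F] (hn : 0 < n) {t : ℕ} {w : Idx n (n + m)}
    (s : Finset (Bitab m n t)) (a : Bitab m n t → F)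
    (h : ∀ Z : Matrix (Fin m) (Fin n) F,
      (∀ θ : Idx n (n + m), ¬ θ ≤ w → ((blockMat Z).submatrix θ.1 id).det = 0) →
        eval (fun p => Z p.1 p.2) (revRows F m n (∑ x ∈ s, a x • ∏ i, minorOf F (x.2.1 i))) = 0)
    (x : Bitab m n t) (hx : x ∈ s) (hxw : ∀ i, minorTheta (x.2.1 i) ≤ w) : a x = 0 := by
  have key := coeff_eq_zero_of_cell (F := F) hn (w := w) (fun y : Bitab m n t => y.chain)
    (fun y => y.antitone_chain) (fun y k => minorTheta_ne_cbot _) Bitab.chain_injective s
    (fun y => a y * ∏ i, (minorSign (y.2.1 i) : F)) ?_ x hx (fun k => hxw _)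
  · refine (mul_eq_zero.1 key).resolve_right ?_
    exact Finset.prod_ne_zero_iff.2 fun i _ => (isUnit_minorSign F _).ne_zero
  · intro Z hZ
    rw [← h Z hZ]
    simp only [map_sum, map_smul]
    refine Finset.sum_congr rfl fun y _ => ?_
    rw [revRows_prod_minorOf, smul_smul]
    show _ • ev (K := F) (blockMat Z) (chainMon F y.chain) = _
    rw [smul_eval, eval_dehom]
    rfl

end Groth.Agent.PlLib
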