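import Groth.Agent.PlLib.Smt
import Mathlib.LinearAlgebra.Matrix.NonsingularInverse
import Mathlib.LinearAlgebra.Matrix.Adjugate
import Mathlib.FieldTheory.IsAlgClosed.Basic

/-! The first fundamental theorem for `SL_d` acting on `n × d` matrices from the right. -/

universe u

namespace Groth.Agent.PlLib

open W4bk4grassmannian MvPolynomial

variable {d n : ℕ}

/-- The largest index. -/
def topIdx (h : d ≤ n) : Idx d n :=
  ⟨fun t => ⟨n - d + t.val, by have := t.isLt; omega⟩, fun s t hst => by
    rw [Fin.lt_def] at hst ⊢; dsimp only; omega⟩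

/-- The smallest index. -/
def botIdx (h : d ≤ n) : Idx d n :=
  ⟨fun t => ⟨t.val, by have := t.isLt; omega⟩, fun _ _ hst => hst⟩

theorem le_topIdx (h : d ≤ n) (θ : Idx d n) : θ ≤ topIdx h := by
  intro t
  have key : ∀ k (t : Fin d), t.val + k + 1 = d → (θ.1 t).val ≤ n - d + t.val := by
    intro k
    induction k with
    | zero => intro t ht; have := (θ.1 t).isLt; omega
    | succ k ih =>
      intro t ht
      have h1 := ih ⟨t.val + 1, by omega⟩ (by dsimp only; omega)
      have h2 : θ.1 t < θ.1 ⟨t.val + 1, by omega⟩ := θ.2 (by simp [Fin.lt_def])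
      rw [Fin.lt_def] at h2
      dsimp only at h1
      omega
  exact Fin.le_def.2 (key (d - t.val - 1) t (by omega))

theorem botIdx_lt_topIdx (hd : 0 < d) (hdn : d < n) : botIdx hdn.le < topIdx (d := d) hdn.le := by
  refine lt_of_le_of_ne (le_topIdx hdn.le _) fun he => ?_
  have := congrArg (fun θ : Idx d n => (θ.1 ⟨0, hd⟩).val) he
  simp [botIdx, topIdx] at this
  omega

theorem mul_inv_apply {F : Type*} [Field F] (A : Matrix (Fin n) (Fin d) F) (a : Fin d → Fin n)
    (ha : (A.submatrix a id).det ≠ 0) (i : Fin n) (t : Fin d) :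
    (A * (A.submatrix a id)⁻¹) i t * (A.submatrix a id).det =
      (A.submatrix (Function.update a t i) id).det := by
  set Q := A.submatrix a id with hQ
  have hu : IsUnit Q.det := Ne.isUnit ha
  have h1 : (A * Q⁻¹).submatrix (Function.update a t i) id = Matrix.updateRow 1 t ((A * Q⁻¹) i) := by
    ext r s
    by_cases hr : r = t
    · subst hr; simp
    · rw [Matrix.updateRow_ne hr, Matrix.submatrix_apply, Function.update_of_ne hr, id_eq,
        ← Matrix.mul_nonsing_inv Q hu, hQ]
      rfl
  have h2 : A.submatrix (Function.update a t i) id =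
      (A * Q⁻¹).submatrix (Function.update a t i) id * Q := by
    conv_lhs => rw [← Matrix.mul_one A, ← Matrix.nonsing_inv_mul Q hu, ← Matrix.mul_assoc]
    rfl
  rw [h2, Matrix.det_mul, h1]
  congr 1
  have h3 := Matrix.cramer_transpose_apply (1 : Matrix (Fin d) (Fin d) F) ((A * Q⁻¹) i) t
  rw [← h3]
  simp

variable {K : Type u} [Field K] [Infinite K]

theorem eval_rightTranslate (g : Matrix.SpecialLinearGroup (Fin d) K) (f : MatRing K d n)
    (A : Matrix (Fin n) (Fin d) K) :
    eval (fun p : Fin n × Fin d => A p.1 p.2) (rightTranslate K d n g f) =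
      eval (fun p : Fin n × Fin d => (A * (g : Matrix (Fin d) (Fin d) K)) p.1 p.2) f := by
  show ((aeval fun p : Fin n × Fin d => A p.1 p.2).comp (rightTranslate K d n g)) f = _
  rw [rightTranslate, comp_aeval]
  simp [Matrix.mul_apply, aeval_eq_eval]

theorem eval_pluckerMap (A : Matrix (Fin n) (Fin d) K) (P : PlRing K d n) :
    eval (fun p : Fin n × Fin d => A p.1 p.2) (pluckerMap K d n P) = ev (K := K) A P := by
  show (aeval (fun p : Fin n × Fin d => A p.1 p.2) : MatRing K d n →ₐ[K] K) (pluckerMap K d n P) = _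
  rw [pluckerMap_eq_ev, map_ev_apply]
  congr 2
  ext i t
  simp

theorem exists_pluckerMap_eq_pow_mul (hd : 0 < d) (hdn : d ≤ n) {f : MatRing K d n}
    (hf : ∀ g : Matrix.SpecialLinearGroup (Fin d) K, rightTranslate K d n g f = f) :
    ∃ (N : ℕ) (P : PlRing K d n),
      pluckerMap K d n P = pluckerMap K d n (X (topIdx hdn)) ^ N * f := by
  classical
  set N := f.totalDegree
  let z : Fin d := ⟨0, hd⟩
  let exc : ((Fin n × Fin d) →₀ ℕ) → ℕ := fun e => ∑ p ∈ e.support, if p.2 = z then 0 else e p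
  refine ⟨N, ∑ e ∈ f.support, f.coeff e • ((∏ p ∈ e.support,
    coord K d n (Function.update (topIdx hdn).1 p.2 p.1) ^ e p) * X (topIdx hdn) ^ (N - exc e)), ?_⟩
  refine mul_left_cancel₀ (a := pluckerMap K d n (X (topIdx hdn))) ?_ ?_
  · intro h0
    have := congrArg (mask K (topIdx hdn)) h0
    rw [map_zero, pluckerMap_eq_ev, map_ev_apply] at this
    have h1 : psi K (topIdx hdn) (X (topIdx hdn)) = 0 := by
      rw [← this, psi]
      congr 2
      ext i t : 1
      simp [stair, mask]
    rw [psi_X_self] at h1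
    exact Finset.prod_ne_zero_iff.2 (fun t _ => X_ne_zero _) h1
  refine MvPolynomial.funext fun x => ?_
  let A : Matrix (Fin n) (Fin d) K := Matrix.of fun i t => x (i, t)
  have hx : x = fun p => A p.1 p.2 := rfl
  rw [map_mul, map_mul (eval x), map_mul, map_pow, hx, eval_pluckerMap, eval_pluckerMap, ev_X]
  set Δ := (A.submatrix (topIdx hdn).1 id).det with hΔ
  by_cases h0 : Δ = 0
  · rw [h0, zero_mul, zero_mul]
  congr 1
  let Dg : Matrix (Fin d) (Fin d) K := Matrix.diagonal fun k => if k = z then Δ else 1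
  let g : Matrix.SpecialLinearGroup (Fin d) K := ⟨(A.submatrix (topIdx hdn).1 id)⁻¹ * Dg, by
    rw [Matrix.det_mul, Matrix.det_nonsing_inv, Matrix.det_diagonal, Finset.prod_ite_eq' Finset.univ z,
      if_pos (Finset.mem_univ _), ← hΔ, Ring.inverse_eq_inv', inv_mul_cancel₀ h0]⟩
  have hB : ∀ p : Fin n × Fin d, (A * (g : Matrix (Fin d) (Fin d) K)) p.1 p.2 =
      (A.submatrix (Function.update (topIdx hdn).1 p.2 p.1) id).det * (if p.2 = z then 1 else Δ⁻¹) := by
    intro p
    show (A * ((A.submatrix (topIdx hdn).1 id)⁻¹ * Dg)) p.1 p.2 = _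
    rw [← Matrix.mul_assoc, Matrix.mul_diagonal, ← mul_inv_apply A _ h0 p.1 p.2]
    split_ifs <;> field_simp <;> rfl
  have hfA : eval (fun p : Fin n × Fin d => A p.1 p.2) f =
      eval (fun p : Fin n × Fin d => (A * (g : Matrix (Fin d) (Fin d) K)) p.1 p.2) f := by
    rw [← eval_rightTranslate, hf g]
  rw [hfA, map_sum, eval_eq, Finset.mul_sum]
  refine Finset.sum_congr rfl fun e he => ?_
  have hexc : exc e ≤ N := by
    refine le_trans (Finset.sum_le_sum fun p _ => ?_) (le_totalDegree he)
    split_ifs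
    · exact Nat.zero_le _
    · exact le_rfl
  rw [map_smul, map_mul, map_prod, map_pow, ev_X, ← hΔ, smul_eq_mul]
  simp only [map_pow, ev_coord, hB, mul_pow, Finset.prod_mul_distrib]
  have hinv : (∏ p ∈ e.support, (if p.2 = z then (1 : K) else Δ⁻¹) ^ e p) = (Δ ^ exc e)⁻¹ := by
    rw [← inv_pow, ← Finset.prod_pow_eq_pow_sum]
    refine Finset.prod_congr rfl fun p _ => ?_
    split_ifs <;> simp
  rw [hinv, pow_sub₀ Δ h0 hexc]
  ring

theorem exists_pluckerMap_eq_of_mul (hd : 0 < d) (hdn : d < n) {h : MatRing K d n} {P : PlRing K d n}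
    (hP : pluckerMap K d n P = pluckerMap K d n (X (topIdx hdn.le)) * h) :
    ∃ P', pluckerMap K d n P' = h := by
  classical
  obtain ⟨l, hl⟩ := exists_std_decomp P
  have hsum : ∀ θ, θ < topIdx (d := d) hdn.le →
      psi K θ (∑ y ∈ l.support, l y • chainMon K y.2.1) = 0 := by
    intro θ hθ
    have h1 : psi K θ (P - l.sum (fun x a => a • chainMon K x.2.1)) = 0 := plIdealTop_le_ker_ev (stair K θ) hl
    have hmask : ∀ F, mask K θ (pluckerMap K d n F) = psi K θ F := fun F => by
      rw [pluckerMap_eq_ev, map_ev_apply, psi]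
      congr 2
      ext i t : 1
      simp [stair, mask]
    have h2 : psi K θ P = 0 := by
      rw [← hmask, hP, map_mul, hmask, psi_X_eq_zero K (not_le_of_gt hθ), zero_mul]
    rw [map_sub, h2, zero_sub, neg_eq_zero] at h1
    exact h1
  have hzero : ∀ x ∈ l.support, (∀ k, x.2.1 k ≠ topIdx hdn.le) → l x = 0 := by
    rintro ⟨m, c, hc⟩ hx hne
    obtain ⟨θ, hθ, hle⟩ : ∃ θ, θ < topIdx (d := d) hdn.le ∧ ∀ k, c k ≤ θ := by
      cases m with
      | zero => exact ⟨botIdx hdn.le, botIdx_lt_topIdx hd hdn, fun k => k.elim0⟩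
      | succ m => exact ⟨c 0, lt_of_le_of_ne (le_topIdx _ _) (hne 0), fun k => hc (Fin.zero_le k)⟩
    refine coeff_eq_zero_of_psi hd (fun y : AllStd d n => y.2.1) (fun y => y.2.2) ?_ l.support l θ
      (hsum θ hθ) _ hx hle
    rintro ⟨m, c, hc⟩ ⟨m', c', hc'⟩ he
    simp only [Sigma.mk.injEq] at he
    obtain ⟨rfl, he⟩ := he
    obtain rfl := eq_of_heq he
    rfl
  have hdvd : (X (topIdx hdn.le) : PlRing K d n) ∣ ∑ x ∈ l.support, l x • chainMon K x.2.1 := by
    refine Finset.dvd_sum fun x hx => ?_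
    by_cases hk : ∃ k, x.2.1 k = topIdx hdn.le
    · obtain ⟨k, hk⟩ := hk
      rw [smul_eq_C_mul]
      refine Dvd.dvd.mul_left ?_ _
      rw [← hk]
      exact Finset.dvd_prod_of_mem _ (Finset.mem_univ k)
    · push Not at hk
      rw [hzero x hx hk, zero_smul]
      exact dvd_zero _
  obtain ⟨P', hP'⟩ := hdvd
  refine ⟨P', mul_left_cancel₀ (a := pluckerMap K d n (X (topIdx hdn.le))) ?_ ?_⟩
  · intro h0
    have := congrArg (mask K (topIdx hdn.le)) h0
    rw [map_zero, pluckerMap_eq_ev, map_ev_apply] at this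
    have h1 : psi K (topIdx hdn.le) (X (topIdx hdn.le)) = 0 := by
      rw [← this, psi]
      congr 2
      ext i t : 1
      simp [stair, mask]
    rw [psi_X_self] at h1
    exact Finset.prod_ne_zero_iff.2 (fun t _ => X_ne_zero _) h1
  · rw [← map_mul, ← hP', ← hP]
    have h1 : pluckerMap K d n (P - l.sum (fun x a => a • chainMon K x.2.1)) = 0 :=
      plIdealTop_le_ker_ev (Matrix.of fun i t => (X (i, t) : MatRing K d n)) hl
    rw [map_sub, sub_eq_zero] at h1
    exact h1.symm

theorem mem_range_pluckerMap_of_invariant (hd : 0 < d) (hdn : d < n) {f : MatRing K d n}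
    (hf : ∀ g : Matrix.SpecialLinearGroup (Fin d) K, rightTranslate K d n g f = f) :
    f ∈ (pluckerMap K d n).range := by
  obtain ⟨N, P, hP⟩ := exists_pluckerMap_eq_pow_mul hd hdn.le hf
  induction N generalizing P with
  | zero => exact ⟨P, by simpa using hP⟩
  | succ N ih =>
    rw [pow_succ', mul_assoc] at hP
    obtain ⟨P', hP'⟩ := exists_pluckerMap_eq_of_mul hd hdn hP
    exact ih P' hP'

theorem rightTranslate_pluckerMap (g : Matrix.SpecialLinearGroup (Fin d) K) (P : PlRing K d n) :
    rightTranslate K d n g (pluckerMap K d n P) = pluckerMap K d n P := by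
  refine AlgHom.congr_fun (φ₁ := (rightTranslate K d n g).comp (pluckerMap K d n))
    (MvPolynomial.algHom_ext fun θ => ?_) P
  rw [AlgHom.comp_apply, pluckerMap, aeval_X, minor, AlgHom.map_det]
  rw [show (rightTranslate K d n g).mapMatrix (Matrix.of fun s t : Fin d => (X (θ.1 s, t) : MatRing K d n)) =
    (Matrix.of fun s t : Fin d => (X (θ.1 s, t) : MatRing K d n)) *
      (g : Matrix (Fin d) (Fin d) K).map C by
        ext s t : 1
        simp [rightTranslate, Matrix.mul_apply]]
  rw [Matrix.det_mul]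
  have hC : ((g : Matrix (Fin d) (Fin d) K).map (C : K →+* MatRing K d n)).det =
      C (g : Matrix (Fin d) (Fin d) K).det := (RingHom.map_det _ _).symm
  rw [hC, g.2, map_one, mul_one]

end Groth.Agent.PlLib
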