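import Groth.Agent.PlLib.Coord
import Mathlib.LinearAlgebra.Span.Basic

/-! The straightening algorithm: standard monomials span modulo the shuffle relations, preserving the
content, over every commutative ring. -/

universe u

namespace Groth.Agent.PlLib

open W4bk4grassmannian MvPolynomial

variable {d n : ℕ}

/-- `cnt a v` is the number of entries of `a` which are `≤ v`. -/
def cnt (a : Fin d → Fin n) (v : Fin n) : ℕ := ∑ t, if a t ≤ v then 1 else 0

/-- The sum of the entries of a tuple. -/
def size (a : Fin d → Fin n) : ℕ := ∑ t, (a t).val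

theorem cnt_comp_perm (a : Fin d → Fin n) (σ : Equiv.Perm (Fin d)) : cnt (a ∘ σ) = cnt a := by
  funext v
  exact Equiv.sum_comp σ fun t => if a t ≤ v then 1 else 0

theorem size_comp_perm (a : Fin d → Fin n) (σ : Equiv.Perm (Fin d)) : size (a ∘ σ) = size a :=
  Equiv.sum_comp σ fun t => (a t).val

theorem cnt_eq_card (a : Fin d → Fin n) (v : Fin n) :
    cnt a v = (Finset.univ.filter fun t => a t ≤ v).card := by
  rw [Finset.card_filter]; rfl

theorem le_iff_cnt {θ φ : Idx d n} : θ ≤ φ ↔ ∀ v, cnt φ.1 v ≤ cnt θ.1 v := by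
  constructor
  · intro h v
    refine Finset.sum_le_sum fun t _ => ?_
    by_cases h' : φ.1 t ≤ v
    · rw [if_pos h', if_pos ((h t).trans h')]
    · rw [if_neg h']; exact Nat.zero_le _
  · intro h t
    by_contra ht
    rw [not_le] at ht
    have h1 := h (φ.1 t)
    rw [cnt_eq_card, cnt_eq_card] at h1
    have h2 : (Finset.Iic t).card ≤ (Finset.univ.filter fun s => φ.1 s ≤ φ.1 t).card :=
      Finset.card_le_card fun s hs => by
        simpa using φ.2.monotone (Finset.mem_Iic.1 hs)
    have h3 : (Finset.univ.filter fun s => θ.1 s ≤ φ.1 t).card ≤ (Finset.Iio t).card :=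
      Finset.card_le_card fun s hs => by
        simp only [Finset.mem_filter, Finset.mem_univ, true_and] at hs
        exact Finset.mem_Iio.2 (θ.2.lt_iff_lt.1 (hs.trans_lt ht))
    rw [Fin.card_Iic] at h2
    rw [Fin.card_Iio] at h3
    omega

theorem eq_of_cnt_eq {θ φ : Idx d n} (h : cnt θ.1 = cnt φ.1) : θ = φ :=
  le_antisymm (le_iff_cnt.2 fun v => by rw [h]) (le_iff_cnt.2 fun v => by rw [h])

theorem size_lt_of_lt {θ φ : Idx d n} (h : θ < φ) : size θ.1 < size φ.1 := by
  obtain ⟨hle, hne⟩ := lt_iff_le_and_ne.1 h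
  refine Finset.sum_lt_sum (fun t _ => hle t) ?_
  by_contra! hh
  exact hne (Subtype.ext (funext fun t => le_antisymm (hle t) (hh t (Finset.mem_univ t))))

theorem size_le (a : Fin d → Fin n) : size a ≤ d * n := by
  calc size a ≤ ∑ _t : Fin d, n := Finset.sum_le_sum fun t _ => (a t).isLt.le
    _ = d * n := by simp

/-- The content of a tuple of indices. -/
def content {m : ℕ} (c : Fin m → Idx d n) (v : Fin n) : ℕ := ∑ k, cnt (c k).1 v

/-! ### The combinatorics of one shuffle -/

theorem sum_dite_le {M : Type*} [AddCommMonoid M] (r : Fin d) (g : Fin (r.val + 1) → M) (h : Fin d → M) :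
    (∑ t : Fin d, if ht : t.val ≤ r.val then g ⟨t.val, by omega⟩ else h t) =
      (∑ s, g s) + ∑ t ∈ Finset.univ.filter (fun t : Fin d => ¬ t.val ≤ r.val), h t := by
  rw [← Finset.sum_filter_add_sum_filter_not Finset.univ (fun t : Fin d => t.val ≤ r.val)]
  congr 1
  · refine Finset.sum_bij' (fun t ht => ⟨t.val, Nat.lt_succ_of_le (Finset.mem_filter.1 ht).2⟩)
      (fun s _ => ⟨s.val, by omega⟩) (fun _ _ => Finset.mem_univ _)
      (fun s _ => Finset.mem_filter.2 ⟨Finset.mem_univ _, Nat.lt_succ_iff.1 s.isLt⟩) (fun _ _ => rfl)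
      (fun _ _ => rfl) fun t ht => ?_
    rw [dif_pos (Finset.mem_filter.1 ht).2]
  · exact Finset.sum_congr rfl fun t ht => dif_neg (Finset.mem_filter.1 ht).2

theorem sum_dite_lt {M : Type*} [AddCommMonoid M] (r : Fin d) (g : Fin (d - r.val) → M) (h : Fin d → M) :
    (∑ t : Fin d, if ht : t.val < r.val then h t else g ⟨t.val - r.val, by have := t.isLt; omega⟩) =
      (∑ s, g s) + ∑ t ∈ Finset.univ.filter (fun t : Fin d => t.val < r.val), h t := by
  rw [← Finset.sum_filter_add_sum_filter_not Finset.univ (fun t : Fin d => t.val < r.val), add_comm]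
  congr 1
  · refine Finset.sum_bij' (fun t _ => ⟨t.val - r.val, by have := t.isLt; have := r.isLt; omega⟩)
      (fun s _ => ⟨r.val + s.val, by omega⟩) (fun _ _ => Finset.mem_univ _)
      (fun s _ => Finset.mem_filter.2 ⟨Finset.mem_univ _, by simp⟩) ?_ ?_ fun t ht => ?_
    · intro t ht
      have := (Finset.mem_filter.1 ht).2
      exact Fin.ext (show r.val + (t.val - r.val) = t.val by omega)
    · intro s _
      exact Fin.ext (show r.val + s.val - r.val = s.val by omega)
    · rw [dif_neg (Finset.mem_filter.1 ht).2]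
  · exact Finset.sum_congr rfl fun t ht => dif_pos (Finset.mem_filter.1 ht).2

theorem sum_shuffle {M : Type*} [AddCommMonoid M] (f : Fin n → M) (i j : Idx d n) (r : Fin d)
    (A : Finset (Fin (d + 1))) (hA : A.card = r.val + 1) :
    (∑ t, f (shuffleI i j r A hA t)) + ∑ t, f (shuffleJ i j r A hA t) =
      (∑ k, f (movingRows i j r k)) +
        ((∑ t ∈ Finset.univ.filter (fun t : Fin d => ¬ t.val ≤ r.val), f (i.1 t)) +
          ∑ t ∈ Finset.univ.filter (fun t : Fin d => t.val < r.val), f (j.1 t)) := by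
  have hC : Aᶜ.card = d - r.val := by rw [Finset.card_compl, hA, Fintype.card_fin]; omega
  have h1 : (∑ t, f (shuffleI i j r A hA t)) =
      (∑ k ∈ A, f (movingRows i j r k)) +
        ∑ t ∈ Finset.univ.filter (fun t : Fin d => ¬ t.val ≤ r.val), f (i.1 t) := by
    conv_rhs => arg 1; rw [← Finset.map_orderEmbOfFin_univ A hA, Finset.sum_map]
    rw [← sum_dite_le r]
    refine Finset.sum_congr rfl fun t _ => ?_
    unfold shuffleI
    split_ifs <;> rfl
  have h2 : (∑ t, f (shuffleJ i j r A hA t)) =
      (∑ k ∈ Aᶜ, f (movingRows i j r k)) +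
        ∑ t ∈ Finset.univ.filter (fun t : Fin d => t.val < r.val), f (j.1 t) := by
    conv_rhs => arg 1; rw [← Finset.map_orderEmbOfFin_univ Aᶜ hC, Finset.sum_map]
    rw [← sum_dite_lt r]
    refine Finset.sum_congr rfl fun t _ => ?_
    unfold shuffleJ
    split_ifs <;> rfl
  rw [h1, h2, ← Finset.sum_add_sum_compl A fun k => f (movingRows i j r k)]
  exact add_add_add_comm _ _ _ _

/-- The positions of the identity shuffle. -/
def idSet (r : Fin d) : Finset (Fin (d + 1)) := Finset.univ.filter fun k => k.val ≤ r.val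

theorem card_idSet (r : Fin d) : (idSet r).card = r.val + 1 := by
  have : idSet r = Finset.Iic (Fin.castSucc r) := by
    ext k
    simp [idSet, Fin.le_def]
  rw [this, Fin.card_Iic]
  rfl

theorem shuffleI_idSet (i j : Idx d n) (r : Fin d) : shuffleI i j r (idSet r) (card_idSet r) = i.1 := by
  funext t
  unfold shuffleI
  split_ifs with h
  · have hu := congrFun (Finset.orderEmbOfFin_unique (card_idSet r)
      (f := fun s : Fin (r.val + 1) => (⟨s.val, by omega⟩ : Fin (d + 1)))
      (fun s => Finset.mem_filter.2 ⟨Finset.mem_univ _, Nat.lt_succ_iff.1 s.isLt⟩) fun _ _ hst => hst)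
      ⟨t.val, by omega⟩
    rw [← hu]
    unfold movingRows
    rw [dif_pos h]
  · rfl

theorem shuffleJ_idSet (i j : Idx d n) (r : Fin d) : shuffleJ i j r (idSet r) (card_idSet r) = j.1 := by
  funext t
  unfold shuffleJ
  split_ifs with h
  · rfl
  · have hC : (idSet r)ᶜ.card = d - r.val := by
      rw [Finset.card_compl, card_idSet, Fintype.card_fin]; omega
    have hu := congrFun (Finset.orderEmbOfFin_unique hC
      (f := fun s : Fin (d - r.val) => (⟨r.val + 1 + s.val, by omega⟩ : Fin (d + 1)))
      (fun s => by simp [idSet]; omega) fun s s' hss => by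
        rw [Fin.lt_def] at hss ⊢
        dsimp only
        omega)
      ⟨t.val - r.val, by omega⟩
    rw [← hu]
    unfold movingRows
    rw [dif_neg (by dsimp only; omega)]
    exact congrArg j.1 (Fin.ext (show r.val + 1 + (t.val - r.val) - 1 = t.val by omega))

theorem shuffleSign_idSet (r : Fin d) : shuffleSign r (idSet r) = 0 := by
  have hu := Finset.orderEmbOfFin_unique (card_idSet r)
      (f := fun s : Fin (r.val + 1) => (⟨s.val, by omega⟩ : Fin (d + 1)))
      (fun s => Finset.mem_filter.2 ⟨Finset.mem_univ _, Nat.lt_succ_iff.1 s.isLt⟩) fun _ _ hst => hst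
  have : ((idSet r).sum fun a => a.val) = r.val * (r.val + 1) / 2 := by
    conv_lhs => rw [← Finset.map_orderEmbOfFin_univ (idSet r) (card_idSet r), Finset.sum_map]
    have he : ∀ s, ((idSet r).orderEmbOfFin (card_idSet r) s).val = s.val := fun s => by rw [← hu]
    simp only [RelEmbedding.coe_toEmbedding, he]
    rw [Fin.sum_univ_eq_sum_range (fun i => i) (r.val + 1), Finset.sum_range_id, Nat.add_sub_cancel,
      mul_comm]
  unfold shuffleSign
  omega

theorem val_le_emb {k N : ℕ} {f : Fin k → Fin N} (hf : StrictMono f) (i : Fin k) : i.val ≤ (f i).val := by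
  obtain ⟨i, hi⟩ := i
  induction i with
  | zero => exact Nat.zero_le _
  | succ i ih =>
    have h1 := ih (by omega)
    have h2 : f ⟨i, by omega⟩ < f ⟨i + 1, hi⟩ := hf (by simp)
    rw [Fin.lt_def] at h2
    dsimp only at h1 ⊢
    omega

theorem size_lt_shuffleI {i j : Idx d n} {r : Fin d} (hr : i.1 r < j.1 r) {A : Finset (Fin (d + 1))}
    (hA : A.card = r.val + 1) (hne : A ≠ idSet r) : size i.1 < size (shuffleI i j r A hA) := by
  have hle : ∀ (t : Fin d) (k : Fin (d + 1)), t.val ≤ r.val → t.val ≤ k.val →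
      i.1 t ≤ movingRows i j r k := by
    intro t k ht hk
    unfold movingRows
    split_ifs with hkr
    · exact i.2.monotone (Fin.le_def.2 hk)
    · exact (i.2.monotone (Fin.le_def.2 ht)).trans
        (hr.le.trans (j.2.monotone (Fin.le_def.2 (by dsimp only; omega))))
  refine Finset.sum_lt_sum (fun t _ => ?_) ⟨r, Finset.mem_univ _, ?_⟩
  · unfold shuffleI
    split_ifs with ht
    · exact Fin.le_def.1 (hle t _ ht (val_le_emb (A.orderEmbOfFin hA).strictMono ⟨t.val, by omega⟩))
    · exact le_rfl
  · unfold shuffleI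
    rw [dif_pos le_rfl]
    have hlast : r.val < (A.orderEmbOfFin hA ⟨r.val, by omega⟩).val := by
      by_contra! hh
      refine hne (Finset.eq_of_subset_of_card_le (fun x hx => ?_) (by rw [hA, card_idSet]))
      rw [← Finset.map_orderEmbOfFin_univ A hA] at hx
      obtain ⟨s, -, rfl⟩ := Finset.mem_map.1 hx
      refine Finset.mem_filter.2 ⟨Finset.mem_univ _, le_trans (Fin.le_def.1 ?_) hh⟩
      exact (A.orderEmbOfFin hA).monotone (Fin.le_def.2 (Nat.lt_succ_iff.1 s.isLt))
    unfold movingRows
    rw [dif_neg (by omega)]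
    exact Fin.lt_def.1 (hr.trans_le (j.2.monotone (Fin.le_def.2 (by dsimp only; omega))))

variable (K : Type u) [CommRing K]

theorem shuffleRel_sub_mem (i j : Idx d n) (r : Fin d) (hr : i.1 r < j.1 r) :
    shuffleRel K i j r - X i * X j ∈ Submodule.span K {f : PlRing K d n | ∃ a b : Idx d n,
      size i.1 < size a.1 ∧ (∀ v, cnt a.1 v + cnt b.1 v = cnt i.1 v + cnt j.1 v) ∧ f = X a * X b} := by
  classical
  rw [shuffleRel, ← Finset.sum_erase_add _ _ (Finset.mem_univ (idSet r))]
  have hid : shuffleTerm K i j r (idSet r) = X i * X j := by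
    rw [shuffleTerm, dif_pos (card_idSet r), shuffleI_idSet, shuffleJ_idSet, shuffleSign_idSet, pow_zero,
      one_mul, coord_idx, coord_idx]
  rw [hid, add_sub_cancel_right]
  refine Submodule.sum_mem _ fun A hA => ?_
  unfold shuffleTerm
  split_ifs with hc
  swap
  · exact Submodule.zero_mem _
  by_cases h1 : Function.Injective (shuffleI i j r A hc)
  swap
  · rw [coord_of_not_injective h1, mul_zero, zero_mul]; exact Submodule.zero_mem _
  by_cases h2 : Function.Injective (shuffleJ i j r A hc)
  swap
  · rw [coord_of_not_injective h2, mul_zero]; exact Submodule.zero_mem _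
  obtain ⟨σ, a, ha⟩ := exists_eq_sortIdx_comp h1
  obtain ⟨π, b, hb⟩ := exists_eq_sortIdx_comp h2
  rw [ha, hb, coord_comp, coord_comp]
  have hmem : (X a * X b : PlRing K d n) ∈ {f : PlRing K d n | ∃ a b : Idx d n,
      size i.1 < size a.1 ∧ (∀ v, cnt a.1 v + cnt b.1 v = cnt i.1 v + cnt j.1 v) ∧ f = X a * X b} := by
    refine ⟨a, b, ?_, fun v => ?_, rfl⟩
    · rw [← size_comp_perm a.1 σ, ← ha]
      exact size_lt_shuffleI hr hc (Finset.ne_of_mem_erase hA)
    · rw [← cnt_comp_perm a.1 σ, ← cnt_comp_perm b.1 π, ← ha, ← hb]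
      have e1 := sum_shuffle (fun x => if x ≤ v then 1 else 0) i j r A hc
      have e2 := sum_shuffle (fun x => if x ≤ v then 1 else 0) i j r (idSet r) (card_idSet r)
      rw [shuffleI_idSet, shuffleJ_idSet] at e2
      exact e1.trans e2.symm
  have hsm : ∀ (e : ℤ) (x : PlRing K d n),
      x ∈ Submodule.span K {f : PlRing K d n | ∃ a b : Idx d n,
        size i.1 < size a.1 ∧ (∀ v, cnt a.1 v + cnt b.1 v = cnt i.1 v + cnt j.1 v) ∧ f = X a * X b} →
      (e : PlRing K d n) * x ∈ Submodule.span K {f : PlRing K d n | ∃ a b : Idx d n,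
        size i.1 < size a.1 ∧ (∀ v, cnt a.1 v + cnt b.1 v = cnt i.1 v + cnt j.1 v) ∧ f = X a * X b} :=
    fun e x hx => by rw [← zsmul_eq_mul]; exact Submodule.smul_of_tower_mem _ e hx
  have : ((-1 : PlRing K d n) ^ shuffleSign r A * (((Equiv.Perm.sign σ : ℤ) : PlRing K d n) * X a) *
      (((Equiv.Perm.sign π : ℤ) : PlRing K d n) * X b)) =
      (((-1 : ℤ) ^ shuffleSign r A * (Equiv.Perm.sign σ : ℤ) * (Equiv.Perm.sign π : ℤ) : ℤ) : PlRing K d n) *
        (X a * X b) := by
    push_cast; ring
  rw [this]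
  exact hsm _ _ (Submodule.subset_span hmem)

/-! ### Induction on tuples -/

theorem chain_or_incomparable {m : ℕ} (c : Fin m → Idx d n) :
    (∃ π : Equiv.Perm (Fin m), Antitone (c ∘ π)) ∨
      ∃ k l, k ≠ l ∧ ¬ c k ≤ c l ∧ ¬ c l ≤ c k ∧ size (c l).1 ≤ size (c k).1 := by
  by_cases h : ∀ k l, c k ≤ c l ∨ c l ≤ c k
  · left
    refine ⟨Tuple.sort fun k => d * n - size (c k).1, fun s t hst => ?_⟩
    have hm := Tuple.monotone_sort (fun k => d * n - size (c k).1) hst
    rcases h ((Tuple.sort fun k => d * n - size (c k).1) t)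
      ((Tuple.sort fun k => d * n - size (c k).1) s) with h' | h'
    · exact h'
    · rcases eq_or_lt_of_le h' with h'' | h''
      · exact h''.ge
      · exfalso
        have := size_lt_of_lt h''
        have := size_le (c ((Tuple.sort fun k => d * n - size (c k).1) t)).1
        simp only [Function.comp_apply] at hm
        omega
  · push Not at h
    obtain ⟨k, l, h1, h2⟩ := h
    have hne : k ≠ l := fun e => h1 (e ▸ le_rfl)
    right
    rcases le_total (size (c l).1) (size (c k).1) with h3 | h3
    · exact ⟨k, l, hne, h1, h2, h3⟩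
    · exact ⟨l, k, hne.symm, h2, h1, h3⟩

theorem sum_update₂ {m : ℕ} {M : Type*} [AddCommMonoid M] {α : Type*} (f : α → M) (c : Fin m → α)
    {k l : Fin m} (hkl : k ≠ l) (a b : α) :
    ∑ s, f (Function.update (Function.update c k a) l b s) =
      f a + f b + ∑ s ∈ (Finset.univ.erase k).erase l, f (c s) := by
  rw [← Finset.add_sum_erase _ _ (Finset.mem_univ k),
    ← Finset.add_sum_erase (Finset.univ.erase k) _ (Finset.mem_erase.2 ⟨hkl.symm, Finset.mem_univ l⟩),
    Function.update_of_ne hkl, Function.update_self, Function.update_self, add_assoc]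
  congr 2
  refine Finset.sum_congr rfl fun s hs => ?_
  rw [Function.update_of_ne (Finset.ne_of_mem_erase hs),
    Function.update_of_ne (Finset.ne_of_mem_erase (Finset.mem_of_mem_erase hs))]

theorem sum_eq_pair_add {m : ℕ} {M : Type*} [AddCommMonoid M] {α : Type*} (f : α → M) (c : Fin m → α)
    {k l : Fin m} (hkl : k ≠ l) :
    ∑ s, f (c s) = f (c k) + f (c l) + ∑ s ∈ (Finset.univ.erase k).erase l, f (c s) := by
  rw [← sum_update₂ f c hkl (c k) (c l), Function.update_eq_self, Function.update_eq_self]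

theorem chainMon_update₂ {m : ℕ} (c : Fin m → Idx d n) {k l : Fin m} (hkl : k ≠ l) (a b : Idx d n) :
    chainMon K (Function.update (Function.update c k a) l b) =
      X a * X b * ∏ s ∈ (Finset.univ.erase k).erase l, (X (c s) : PlRing K d n) := by
  rw [chainMon, ← Finset.mul_prod_erase _ _ (Finset.mem_univ k),
    ← Finset.mul_prod_erase (Finset.univ.erase k) _ (Finset.mem_erase.2 ⟨hkl.symm, Finset.mem_univ l⟩),
    Function.update_of_ne hkl, Function.update_self, Function.update_self, mul_assoc]
  congr 2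
  refine Finset.prod_congr rfl fun s hs => ?_
  rw [Function.update_of_ne (Finset.ne_of_mem_erase hs),
    Function.update_of_ne (Finset.ne_of_mem_erase (Finset.mem_of_mem_erase hs))]

theorem chainMon_eq_pair_mul {m : ℕ} (c : Fin m → Idx d n) {k l : Fin m} (hkl : k ≠ l) :
    chainMon K c = X (c k) * X (c l) * ∏ s ∈ (Finset.univ.erase k).erase l, (X (c s) : PlRing K d n) := by
  rw [← chainMon_update₂ K c hkl (c k) (c l), Function.update_eq_self, Function.update_eq_self]

theorem chainMon_comp_perm {m : ℕ} (c : Fin m → Idx d n) (π : Equiv.Perm (Fin m)) :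
    chainMon K (c ∘ π) = chainMon K c :=
  Equiv.prod_comp π fun k => (X (c k) : PlRing K d n)

theorem content_comp_perm {m : ℕ} (c : Fin m → Idx d n) (π : Equiv.Perm (Fin m)) :
    content (c ∘ π) = content c := by
  funext v
  exact Equiv.sum_comp π fun k => cnt (c k).1 v

/-- Induction over tuples of indices: it is enough to treat chains, and incomparable pairs under the
assumption that the statement holds whenever the pair is replaced by one with a larger member. -/
theorem tuple_induction {m : ℕ} (P : (Fin m → Idx d n) → Prop)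
    (hchain : ∀ (c : Fin m → Idx d n) (π : Equiv.Perm (Fin m)), Antitone (c ∘ π) → P c)
    (hstep : ∀ (c : Fin m → Idx d n) (k l : Fin m), k ≠ l → ¬ c k ≤ c l → ¬ c l ≤ c k →
      size (c l).1 ≤ size (c k).1 →
      (∀ a b, size (c k).1 < size a.1 → P (Function.update (Function.update c k a) l b)) → P c)
    (c : Fin m → Idx d n) : P c := by
  suffices H : ∀ (g : ℕ) (c : Fin m → Idx d n), m * 3 ^ (d * n) - (∑ k, 3 ^ size (c k).1) = g → P c from
    H _ c rfl
  intro g
  induction g using Nat.strong_induction_on with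
  | _ g ih =>
    intro c hg
    rcases chain_or_incomparable c with ⟨π, hπ⟩ | ⟨k, l, hkl, h1, h2, h3⟩
    · exact hchain c π hπ
    refine hstep c k l hkl h1 h2 h3 fun a b ha => ih _ ?_ _ rfl
    have hb : ∀ e : Fin m → Idx d n, (∑ s, 3 ^ size (e s).1) ≤ m * 3 ^ (d * n) := fun e => by
      calc (∑ s, 3 ^ size (e s).1) ≤ ∑ _s : Fin m, 3 ^ (d * n) :=
            Finset.sum_le_sum fun s _ => Nat.pow_le_pow_right (by omega) (size_le _)
        _ = m * 3 ^ (d * n) := by simp
    have e1 : (∑ s, 3 ^ size (c s).1) = 3 ^ size (c k).1 + 3 ^ size (c l).1 +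
        ∑ s ∈ (Finset.univ.erase k).erase l, 3 ^ size (c s).1 :=
      sum_eq_pair_add (fun θ : Idx d n => 3 ^ size θ.1) c hkl
    have e2 : (∑ s, 3 ^ size (Function.update (Function.update c k a) l b s).1) =
        3 ^ size a.1 + 3 ^ size b.1 + ∑ s ∈ (Finset.univ.erase k).erase l, 3 ^ size (c s).1 :=
      sum_update₂ (fun θ : Idx d n => 3 ^ size θ.1) c hkl a b
    have h4 : 3 * 3 ^ size (c k).1 ≤ 3 ^ size a.1 := by
      rw [← pow_succ']
      exact Nat.pow_le_pow_right (by omega) ha
    have h5 : 3 ^ size (c l).1 ≤ 3 ^ size (c k).1 := Nat.pow_le_pow_right (by omega) h3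
    have h6 : 0 < 3 ^ size (c k).1 := Nat.pow_pos (by omega)
    have h7 : (∑ s, 3 ^ size (c s).1) < ∑ s, 3 ^ size (Function.update (Function.update c k a) l b s).1 := by
      rw [e1, e2]
      generalize 3 ^ size (c k).1 = x, 3 ^ size (c l).1 = y, 3 ^ size a.1 = z, 3 ^ size b.1 = z' at *
      omega
    exact lt_of_lt_of_eq
      (Nat.sub_lt_sub_left (h7.trans_le (hb _)) h7) hg

/-- The span of the standard monomials of given degree and content. -/
noncomputable def stdSpan (m : ℕ) (κ : Fin n → ℕ) : Submodule K (PlRing K d n) :=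
  Submodule.span K {f | ∃ c : Fin m → Idx d n, Antitone c ∧ content c = κ ∧ f = chainMon K c}

theorem exists_pivot {i j : Idx d n} (h : ¬ j ≤ i) : ∃ r, IsPivot i j r := by
  classical
  have hne : (Finset.univ.filter fun t => i.1 t < j.1 t).Nonempty := by
    by_contra hh
    rw [Finset.not_nonempty_iff_eq_empty, Finset.filter_eq_empty_iff] at hh
    exact h fun t => not_lt.1 (hh (Finset.mem_univ t))
  refine ⟨Finset.min' _ hne, fun t ht => not_lt.1 fun hlt => absurd ht (not_lt.2 ?_), ?_⟩
  · exact Finset.min'_le _ _ (by simpa using hlt)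
  · exact (Finset.mem_filter.1 (Finset.min'_mem _ hne)).2

theorem chainMon_mem_sup {m : ℕ} (c : Fin m → Idx d n) :
    chainMon K c ∈ Submodule.restrictScalars K (plIdealTop (d := d) (n := n) K) ⊔ stdSpan K m (content c) := by
  induction c using tuple_induction with
  | hchain c π hπ =>
    refine Submodule.mem_sup_right (Submodule.subset_span ⟨c ∘ π, hπ, content_comp_perm c π, ?_⟩)
    exact (chainMon_comp_perm K c π).symm
  | hstep c k l hkl h1 h2 h3 ih =>
    obtain ⟨r, hr⟩ := exists_pivot h2
    set rest : PlRing K d n := ∏ s ∈ (Finset.univ.erase k).erase l, X (c s) with hrest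
    have hspl : chainMon K c = shuffleRel K (c k) (c l) r * rest -
        (shuffleRel K (c k) (c l) r - X (c k) * X (c l)) * rest := by
      rw [chainMon_eq_pair_mul K c hkl]; ring
    rw [hspl]
    refine Submodule.sub_mem _ (Submodule.mem_sup_left ?_) ?_
    · exact Ideal.mul_mem_right _ _ (Ideal.subset_span ⟨_, _, _, hr, rfl⟩)
    refine Submodule.span_induction (p := fun x _ => x * rest ∈ _) ?_ ?_ ?_ ?_
      (shuffleRel_sub_mem K (c k) (c l) r hr.2)
    · rintro f ⟨a, b, ha, hab, rfl⟩
      rw [hrest, ← chainMon_update₂ K c hkl a b]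
      have hcont : content (Function.update (Function.update c k a) l b) = content c := by
        funext v
        rw [content, content, sum_update₂ (fun θ : Idx d n => cnt θ.1 v) c hkl,
          sum_eq_pair_add (fun θ : Idx d n => cnt θ.1 v) c hkl, hab v]
      rw [← hcont]
      exact ih a b ha
    · rw [zero_mul]; exact Submodule.zero_mem _
    · intro x y _ _ hx hy; rw [add_mul]; exact Submodule.add_mem _ hx hy
    · intro s x _ hx; rw [smul_mul_assoc]; exact Submodule.smul_mem _ s hx

/-- Every product of two variables is, modulo the shuffle relations, a combination of standard ones of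
the same content. -/
theorem pair_mem_sup (i j : Idx d n) :
    (X i * X j : PlRing K d n) ∈ Submodule.restrictScalars K (plIdealTop (d := d) (n := n) K) ⊔
      Submodule.span K {f | ∃ a b : Idx d n, b ≤ a ∧
        (∀ v, cnt a.1 v + cnt b.1 v = cnt i.1 v + cnt j.1 v) ∧ f = X a * X b} := by
  have h := chainMon_mem_sup K ![i, j]
  have hij : chainMon K ![i, j] = X i * X j := by rw [chainMon, Fin.prod_univ_two]; rfl
  rw [hij] at h
  have hle : stdSpan K 2 (content ![i, j]) ≤ Submodule.span K {f | ∃ a b : Idx d n, b ≤ a ∧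
      (∀ v, cnt a.1 v + cnt b.1 v = cnt i.1 v + cnt j.1 v) ∧ f = X a * X b} := by
    refine Submodule.span_mono ?_
    rintro f ⟨c, hc, hcont, rfl⟩
    refine ⟨c 0, c 1, hc (Fin.zero_le 1), fun v => ?_, Fin.prod_univ_two _⟩
    have := congrFun hcont v
    simpa [content, Fin.sum_univ_two] using this
  exact (sup_le_sup_left hle _ : _) h

theorem span_std_eq_top :
    Submodule.span K (Set.range fun c : (Σ m : ℕ, {c : Fin m → Idx d n // Antitone c}) =>
        Ideal.Quotient.mk (plIdealTop (d := d) (n := n) K) (chainMon K c.2.1)) = ⊤ := by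
  rw [eq_top_iff]
  rintro x -
  obtain ⟨p, rfl⟩ := Ideal.Quotient.mk_surjective x
  let q := (Ideal.Quotient.mkₐ K (plIdealTop (d := d) (n := n) K)).toLinearMap
  show q p ∈ _
  induction p using MvPolynomial.induction_on' with
  | add a b ha hb => rw [map_add]; exact Submodule.add_mem _ ha hb
  | monomial e s =>
    obtain ⟨m, c, hc⟩ : ∃ (m : ℕ) (c : Fin m → Idx d n), monomial e (1 : K) = chainMon K c := by
      induction e using Finsupp.induction_linear with
      | zero => exact ⟨0, Fin.elim0, by simp [chainMon]⟩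
      | add f g hf hg =>
        obtain ⟨m₁, c₁, h₁⟩ := hf
        obtain ⟨m₂, c₂, h₂⟩ := hg
        refine ⟨m₁ + m₂, Fin.append c₁ c₂, ?_⟩
        rw [show (monomial (f + g) (1 : K)) = monomial f (1 : K) * monomial g 1 by
          rw [monomial_mul, one_mul], h₁, h₂, chainMon, chainMon, chainMon, Fin.prod_univ_add]
        simp
      | single a b =>
        exact ⟨b, fun _ => a, by simp [chainMon, X_pow_eq_monomial]⟩
    rw [show monomial e s = s • monomial e (1 : K) by rw [smul_monomial, smul_eq_mul, mul_one], map_smul, hc]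
    refine Submodule.smul_mem _ s ?_
    obtain ⟨y, hy, z, hz, hyz⟩ := Submodule.mem_sup.1 (chainMon_mem_sup K c)
    rw [← hyz, map_add, show q y = 0 from Ideal.Quotient.eq_zero_iff_mem.2 hy, zero_add]
    have hmap : (stdSpan K m (content c)).map q ≤ Submodule.span K (Set.range
        fun c : (Σ m : ℕ, {c : Fin m → Idx d n // Antitone c}) =>
          Ideal.Quotient.mk (plIdealTop (d := d) (n := n) K) (chainMon K c.2.1)) := by
      rw [stdSpan, Submodule.map_span, Submodule.span_le]
      rintro _ ⟨f, ⟨c', hc', -, rfl⟩, rfl⟩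
      exact Submodule.subset_span ⟨⟨m, c', hc'⟩, rfl⟩
    exact hmap (Submodule.mem_map_of_mem hz)

end Groth.Agent.PlLib
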