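import Groth.Agent.PlLib.Shuffle
import Groth.Agent.PlLib.Straighten
import Mathlib.LinearAlgebra.Matrix.Block
import Mathlib.LinearAlgebra.LinearIndependent.Defs
import Mathlib.RingTheory.MvPolynomial.Basic

/-! Independence of the standard monomials on the staircase parametrisation of a Schubert variety. -/

universe u

namespace Groth.Agent.PlLib

open W4bk4grassmannian MvPolynomial

variable (K : Type u) [CommRing K] {d n : ℕ}

/-- The generic matrix of the staircase shape of `w`. -/
noncomputable def stair (w : Idx d n) : Matrix (Fin n) (Fin d) (MatRing K d n) :=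
  Matrix.of fun i t => if i ≤ w.1 t then X (i, t) else 0

/-- The staircase parametrisation of the Schubert variety of `w`. -/
noncomputable def psi (w : Idx d n) : PlRing K d n →ₐ[K] MatRing K d n := ev (K := K) (stair K w)

theorem psi_X_eq_zero {w φ : Idx d n} (h : ¬ φ ≤ w) : psi K w (X φ) = 0 := by
  classical
  obtain ⟨s, hs⟩ : ∃ s, w.1 s < φ.1 s := by
    by_contra! hh
    exact h hh
  rw [psi, ev_X, Matrix.det_apply]
  refine Finset.sum_eq_zero fun σ _ => ?_
  have hex : ∃ t, t ≤ s ∧ s ≤ σ t := by
    by_contra! hh
    have := Finset.card_le_card_of_injOn σ (s := Finset.Iic s) (t := Finset.Iio s)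
      (fun t ht => Finset.mem_coe.2 (Finset.mem_Iio.2 (hh t (Finset.mem_Iic.1 (Finset.mem_coe.1 ht)))))
      σ.injective.injOn
    simp [Fin.card_Iic, Fin.card_Iio] at this
  obtain ⟨t, ht, hst⟩ := hex
  rw [Finset.prod_eq_zero (Finset.mem_univ t), smul_zero]
  simp only [Matrix.submatrix_apply, id_eq, stair, Matrix.of_apply]
  rw [if_neg]
  exact not_le.2 (((w.2.monotone ht).trans_lt hs).trans_le (φ.2.monotone hst))

theorem psi_X_self (w : Idx d n) : psi K w (X w) = ∏ t, X (w.1 t, t) := by
  rw [psi, ev_X, Matrix.det_of_isUpperTriangular]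
  · refine Finset.prod_congr rfl fun t _ => ?_
    simp [stair]
  · intro s t hst
    simp only [Matrix.submatrix_apply, id_eq, stair, Matrix.of_apply]
    rw [if_neg]
    exact not_le.2 (w.2 hst)

variable {K}

theorem monomial_mul_left_cancel {σ : Type*} {e : σ →₀ ℕ} {f : MvPolynomial σ K}
    (h : monomial e (1 : K) * f = 0) : f = 0 := by
  ext s
  have := congrArg (coeff (e + s)) h
  rw [coeff_monomial_mul, one_mul, coeff_zero] at this
  rw [this, coeff_zero]

theorem psi_X_self_mul_cancel {w : Idx d n} {f : MatRing K d n} (h : psi K w (X w) * f = 0) : f = 0 := by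
  rw [psi_X_self, show (∏ t, (X (w.1 t, t) : MatRing K d n)) =
    monomial (∑ t, Finsupp.single (w.1 t, t) 1) (1 : K) from (monomial_sum_one _ _).symm] at h
  exact monomial_mul_left_cancel h

variable (K)

/-- Restriction from the staircase of a larger index to that of a smaller one. -/
noncomputable def mask (θ : Idx d n) : MatRing K d n →ₐ[K] MatRing K d n :=
  aeval fun p : Fin n × Fin d => if p.1 ≤ θ.1 p.2 then X p else 0

theorem mask_psi {θ w : Idx d n} (h : θ ≤ w) (f : PlRing K d n) : mask K θ (psi K w f) = psi K θ f := by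
  rw [psi, map_ev_apply]
  congr 2
  ext i t
  simp only [Matrix.map_apply, stair, Matrix.of_apply]
  split_ifs with h1 h2 h2
  · simp [mask, h2]
  · simp [mask, h2]
  · exact absurd (h2.trans (h t)) h1
  · simp

variable {K}

theorem psi_chainMon_eq_zero {w : Idx d n} {m : ℕ} {c : Fin m → Idx d n} (h : ¬ ∀ k, c k ≤ w) :
    psi K w (chainMon K c) = 0 := by
  push Not at h
  obtain ⟨k, hk⟩ := h
  rw [chainMon, map_prod]
  exact Finset.prod_eq_zero (Finset.mem_univ k) (psi_X_eq_zero K hk)

theorem constantCoeff_psi_X (hd : 0 < d) (w θ : Idx d n) :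
    constantCoeff (psi K w (X θ)) = 0 := by
  rw [psi, ev_X, RingHom.map_det]
  refine Matrix.det_eq_zero_of_row_eq_zero ⟨0, hd⟩ fun t => ?_
  simp only [RingHom.mapMatrix_apply, Matrix.map_apply, Matrix.submatrix_apply, id_eq, stair,
    Matrix.of_apply]
  split_ifs <;> simp

theorem chainMon_succ {m : ℕ} (c : Fin (m + 1) → Idx d n) :
    chainMon K c = X (c 0) * chainMon K (Fin.tail c) := by
  rw [chainMon, Fin.prod_univ_succ]; rfl

/-- Standard monomials of degree `m` below `w`. -/
abbrev Std (w : Idx d n) : Type := Σ m : ℕ, {c : Fin m → Idx d n // Antitone c ∧ ∀ k, c k ≤ w}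

variable (K) in
theorem sum_psi_eq_zero (hd : 0 < d) : ∀ (w : Idx d n) (D : ℕ) (s : Finset (Std w)) (a : Std w → K),
    (∀ x ∈ s, x.1 ≤ D) → ∑ x ∈ s, a x • psi K w (chainMon K x.2.1) = 0 → ∀ x ∈ s, a x = 0 := by
  classical
  intro w
  induction w using (IsWellFounded.wf (r := ((· < ·) : Idx d n → Idx d n → Prop))).induction with
  | _ w ihw =>
  intro D
  induction D with
  | zero =>
    intro s a hD hsum x hx
    have h0 := congrArg constantCoeff hsum
    rw [map_sum, map_zero, Finset.sum_eq_single x] at h0
    · obtain ⟨m, c, hc⟩ := x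
      obtain rfl : m = 0 := Nat.le_zero.1 (hD _ hx)
      simpa [chainMon] using h0
    · intro y hy hyx
      exfalso
      apply hyx
      obtain ⟨m, c, hc⟩ := x
      obtain ⟨m', c', hc'⟩ := y
      obtain rfl : m = 0 := Nat.le_zero.1 (hD _ hx)
      obtain rfl : m' = 0 := Nat.le_zero.1 (hD _ hy)
      exact Sigma.ext rfl (heq_of_eq (Subtype.ext (funext fun k => k.elim0)))
    · exact fun h => absurd hx h
  | succ D ihD =>
    intro s a hD hsum
    -- the monomials lying below some `θ < w`
    have hsmall : ∀ (θ : Idx d n), θ < w → ∀ x ∈ s, (∀ k, x.2.1 k ≤ θ) → a x = 0 := by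
      intro θ hθ x hx hxθ
      have hsum' : ∑ y ∈ s, a y • psi K θ (chainMon K y.2.1) = 0 := by
        have := congrArg (mask K θ) hsum
        simpa [map_sum, map_smul, mask_psi K hθ.le] using this
      let incl : Std θ → Std w := fun y => ⟨y.1, y.2.1, y.2.2.1, fun k => (y.2.2.2 k).trans hθ.le⟩
      have hincl : Function.Injective incl := by
        rintro ⟨m, c, hc⟩ ⟨m', c', hc'⟩ he
        simp only [incl, Sigma.mk.injEq] at he
        obtain ⟨rfl, he⟩ := he
        have := congrArg Subtype.val (eq_of_heq he)
        dsimp only at this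
        subst this
        rfl
      have key := ihw θ hθ ((s.preimage incl hincl.injOn).sup fun y => y.1) (s.preimage incl hincl.injOn)
        (a ∘ incl) (fun y hy => Finset.le_sup (f := fun y : Std θ => y.1) hy) ?_
      · exact key ⟨x.1, x.2.1, x.2.2.1, hxθ⟩ (Finset.mem_preimage.2 (by exact hx))
      · rw [← hsum']
        refine (Finset.sum_preimage incl s hincl.injOn (fun y => a y • psi K θ (chainMon K y.2.1)) ?_)
        intro y _ hy
        rw [psi_chainMon_eq_zero (fun h => hy ⟨⟨y.1, y.2.1, y.2.2.1, h⟩, rfl⟩), smul_zero]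
    -- the empty monomial
    have hempty : ∀ x ∈ s, x.1 = 0 → a x = 0 := by
      intro x hx hx0
      have h0 := congrArg constantCoeff hsum
      rw [map_sum, map_zero, Finset.sum_eq_single x] at h0
      · obtain ⟨m, c, hc⟩ := x
        obtain rfl : m = 0 := hx0
        simpa [chainMon] using h0
      · intro y _ hyx
        obtain ⟨m', c', hc'⟩ := y
        cases m' with
        | zero =>
          exfalso
          apply hyx
          obtain ⟨m, c, hc⟩ := x
          obtain rfl : m = 0 := hx0
          exact Sigma.ext rfl (heq_of_eq (Subtype.ext (funext fun k => k.elim0)))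
        | succ m' => simp [chainMon_succ, constantCoeff_psi_X hd, smul_eq_C_mul]
      · exact fun h => absurd hx h
    -- strip the leading `w`
    let cons : Std w → Std w := fun y => ⟨y.1 + 1, Fin.cons w y.2.1, by
      intro i j hij
      cases j using Fin.cases with
      | zero => rw [Fin.le_zero_iff.1 hij]
      | succ j =>
        cases i using Fin.cases with
        | zero => simpa using y.2.2.2 j
        | succ i => simpa using y.2.2.1 (Fin.succ_le_succ_iff.1 hij), fun k => by
      cases k using Fin.cases with
      | zero => simp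
      | succ k => simpa using y.2.2.2 k⟩
    have hcons : Function.Injective cons := by
      rintro ⟨m, c, hc⟩ ⟨m', c', hc'⟩ he
      simp only [cons, Sigma.mk.injEq, Nat.add_right_cancel_iff] at he
      obtain ⟨rfl, he⟩ := he
      have := (Fin.cons_right_injective (α := fun _ : Fin (m + 1) => Idx d n) w)
        (congrArg Subtype.val (eq_of_heq he))
      subst this
      rfl
    have hrange : ∀ x ∈ s, x ∉ Set.range cons → a x = 0 := by
      rintro ⟨m, c, hc⟩ hx hnot
      cases m with
      | zero => exact hempty _ hx rfl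
      | succ m =>
        have htop : c 0 < w := lt_of_le_of_ne (hc.2 0) fun e =>
          hnot ⟨⟨m, Fin.tail c, fun i j h => hc.1 (Fin.succ_le_succ_iff.2 h), fun k => hc.2 _⟩,
            Sigma.ext rfl (heq_of_eq (Subtype.ext (by
              show Fin.cons w (Fin.tail c) = c
              rw [← e, Fin.cons_self_tail])))⟩
        exact hsmall _ htop _ hx fun k => hc.1 (Fin.zero_le k)
    have hs' : ∑ y ∈ s.preimage cons hcons.injOn, a (cons y) • psi K w (chainMon K y.2.1) = 0 := by
      refine psi_X_self_mul_cancel (w := w) ?_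
      rw [Finset.mul_sum, ← hsum, ← Finset.sum_preimage cons s hcons.injOn
        (fun y => a y • psi K w (chainMon K y.2.1)) fun y hy hy' => by rw [hrange y hy hy', zero_smul]]
      refine Finset.sum_congr rfl fun y _ => ?_
      rw [mul_smul_comm, ← map_mul]
      show _ = a (cons y) • psi K w (chainMon K (Fin.cons w y.2.1))
      rw [chainMon_succ (Fin.cons w y.2.1)]
      simp
    have hkey := ihD _ (a ∘ cons) (fun y hy => by
      have := hD _ (Finset.mem_preimage.1 hy)
      simp only [cons] at this
      omega) hs'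
    intro x hx
    by_cases hr : x ∈ Set.range cons
    · obtain ⟨y, rfl⟩ := hr
      exact hkey y (Finset.mem_preimage.2 hx)
    · exact hrange x hx hr

variable (K) in
theorem linearIndependent_psi (hd : 0 < d) (w : Idx d n) :
    LinearIndependent K fun x : Std w => psi K w (chainMon K x.2.1) :=
  linearIndependent_iff'.2 fun s a h => sum_psi_eq_zero K hd w (s.sup fun x => x.1) s a
    (fun x hx => Finset.le_sup (f := fun y : Std w => y.1) hx) h

/-- A combination of standard monomials killed by the parametrisations of several Schubert varieties only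
involves monomials lying below none of them. -/
theorem coeff_eq_zero_of_psi (hd : 0 < d) {ι : Type*} [DecidableEq ι] {m : ι → ℕ}
    (c : (x : ι) → Fin (m x) → Idx d n) (hanti : ∀ x, Antitone (c x))
    (hinj : Function.Injective fun x => (⟨m x, c x⟩ : Σ m : ℕ, Fin m → Idx d n))
    (s : Finset ι) (a : ι → K) (w : Idx d n)
    (h : psi K w (∑ x ∈ s, a x • chainMon K (c x)) = 0) (x : ι) (hx : x ∈ s) (hxw : ∀ k, c x k ≤ w) :
    a x = 0 := by
  classical
  let g : {x // ∀ k, c x k ≤ w} → Std w := fun x => ⟨m x.1, c x.1, hanti _, x.2⟩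
  have hg : Function.Injective g := by
    intro x y he
    refine Subtype.ext (hinj ?_)
    exact congrArg (fun z : Std w => (⟨z.1, z.2.1⟩ : Σ m : ℕ, Fin m → Idx d n)) he
  have hli := (linearIndependent_psi K hd w).comp g hg
  refine linearIndependent_iff'.1 hli (s.subtype fun x => ∀ k, c x k ≤ w) (fun x => a x.1) ?_ ⟨x, hxw⟩
    (by simpa using hx)
  rw [← h, map_sum]
  simp only [map_smul, Function.comp_apply, g]
  rw [Finset.sum_subtype_eq_sum_filter (p := fun x => ∀ k, c x k ≤ w)
    (fun x => a x • psi K w (chainMon K (c x)))]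
  refine (Finset.sum_filter_of_ne ?_)
  intro y _ hy
  by_contra hh
  exact hy (by rw [psi_chainMon_eq_zero hh, smul_zero])

end Groth.Agent.PlLib
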