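import Groth.Agent.PlLib.FreeUnion
import Groth.Agent.PlLib.CMFinite
import Groth.Agent.PlLib.FftSL
import Groth.Agent.PlLib.Basic
import Groth.Agent.PlLib.Indep

/-! Schubert varieties and unions of Schubert divisors are arithmetically Cohen–Macaulay. -/

universe u

namespace Groth.Agent.PlLib

open W4bk4grassmannian MvPolynomial

variable {K : Type u} [Field K] {d n : ℕ}

theorem unionIdeal_empty : unionIdeal K (∅ : Finset (Idx d n)) = ⊤ := by simp [unionIdeal]

theorem unionIdeal_insert (s : Idx d n) (S : Finset (Idx d n)) :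
    unionIdeal K (insert s S) = unionIdeal K S ⊓ plIdeal K s := by
  ext f; simp [mem_unionIdeal, and_comm]

theorem freeRel_union_of (hd : 0 < d) {N : ℕ} {w : Idx d n}
    (hP : ∀ φ ∈ divisors w, ∀ S : Finset (Idx d n), (∀ s ∈ S, s ∈ divisors φ) →
      FreeRel N (rankForm K d n) (unionIdeal K S) (plIdeal K φ))
    (S : Finset (Idx d n)) (hS : ∀ s ∈ S, s ∈ divisors w) (T : Finset (Idx d n)) (hT : ∀ s ∈ T, s ∈ divisors w) :
    FreeRel N (rankForm K d n) (unionIdeal K T) (unionIdeal K (T ∪ S)) := by
  classical
  induction S using Finset.induction_on with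
  | empty => rw [Finset.union_empty]; exact freeRel_refl
  | insert φ S' hφ ih =>
    have hS' : ∀ s ∈ S', s ∈ divisors w := fun s hs => hS s (Finset.mem_insert_of_mem hs)
    by_cases hmem : φ ∈ T ∪ S'
    · rw [Finset.union_insert, Finset.insert_eq_of_mem hmem]; exact ih hS'
    rw [Finset.union_insert, unionIdeal_insert]
    refine FreeRel.trans ?_ inf_le_left (ih hS') (FreeRel.of_sup (isHom_unionIdeal hd _) (isHom_plIdeal hd φ) ?_)
    · exact fun f hf => mem_unionIdeal.2 fun s hs => mem_unionIdeal.1 hf s (Finset.mem_union_left _ hs)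
    rw [unionIdeal_sup_plIdeal hd]
    refine hP φ (hS φ (Finset.mem_insert_self _ _)) _ fun s hs => ?_
    obtain ⟨s, hs', rfl⟩ := Finset.mem_image.1 hs
    refine inf_mem_divisors ?_ (hS φ (Finset.mem_insert_self _ _)) fun e => hmem (e ▸ hs')
    rcases Finset.mem_union.1 hs' with h | h
    · exact hT s h
    · exact hS' s h

theorem freeRel_schubert (hd : 0 < d) (hdn : d ≤ n) : ∀ (c : ℕ) (φ : Idx d n), codeg φ = c →
    ∀ S : Finset (Idx d n), (∀ s ∈ S, s ∈ divisors φ) →
      FreeRel (c + 1) (rankForm K d n) (unionIdeal K S) (plIdeal K φ) := by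
  classical
  intro c
  induction c with
  | zero =>
    intro φ hφ S hS
    obtain rfl : S = ∅ := Finset.eq_empty_of_forall_notMem fun s hs => by have := (hS s hs).2; omega
    rw [unionIdeal_empty]
    have hreg : ∀ x, rankForm K d n 0 * x ∈ plIdeal K φ → x ∈ plIdeal K φ := fun x hx => by
      have h := rankForm_sub_mem (K := K) φ
      rw [hφ] at h
      have h2 : X φ * x ∈ plIdeal K φ := by
        have := sub_mem hx (Ideal.mul_mem_right x _ h)
        rwa [← sub_mul, sub_sub_cancel] at this
      refine mem_plIdeal_of_psi_eq_zero hd (psi_X_self_mul_cancel (w := φ) ?_)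
      rw [← map_mul]
      exact plIdeal_le_ker_psi φ h2
    refine freeRel_step (fun k => rankForm_homogeneous k) (isHom_plIdeal hd φ) le_top hreg freeRel_refl ?_
    have hvar : ∀ θ : Idx d n, (X θ : PlRing K d n) ∈ plIdeal K φ ⊔ Ideal.span {rankForm K d n 0} := by
      intro θ
      by_cases h : θ ≤ φ
      · rcases eq_or_lt_of_le h with rfl | hlt
        · have h' := rankForm_sub_mem (K := K) θ
          rw [hφ] at h'
          have := sub_mem (Ideal.mem_sup_right (S := plIdeal K θ)
            (Ideal.subset_span (Set.mem_singleton (rankForm K d n 0)))) (Ideal.mem_sup_left h')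
          rwa [sub_sub_cancel] at this
        · have := codeg_lt_of_lt hlt; omega
      · exact Ideal.mem_sup_left (Ideal.subset_span (Or.inr ⟨θ, h, rfl⟩))
    refine ⟨Unit, inferInstance, fun _ => 1, fun _ => 0, fun _ => trivial, fun _ => isHomogeneous_one _ _,
      fun x _ => ⟨fun _ => C (constantCoeff x), ?_⟩, fun p hp => ?_⟩
    · simp only [Fintype.univ_ofSubsingleton, Finset.sum_singleton, mul_one, lsub, aeval_C]
      induction x using MvPolynomial.induction_on with
      | C a => simp [MvPolynomial.algebraMap_eq]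
      | add p q hp hq =>
        rw [map_add, map_add, add_sub_add_comm]
        exact add_mem (hp trivial) (hq trivial)
      | mul_X p i hp =>
        simp only [map_mul, constantCoeff_X, mul_zero, map_zero, sub_zero]
        exact Ideal.mul_mem_left _ _ (hvar i)
    · simp only [Fintype.univ_ofSubsingleton, Finset.sum_singleton, mul_one] at hp
      intro i
      rw [eq_C_of_isEmpty (p i)] at hp ⊢
      have hcc : ∀ f ∈ plIdeal K φ ⊔ Ideal.span {rankForm K d n 0}, constantCoeff f = 0 := by
        intro f hf
        obtain ⟨j, hj, z, hz, rfl⟩ := Submodule.mem_sup.1 hf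
        obtain ⟨y, rfl⟩ := Ideal.mem_span_singleton'.1 hz
        have hj0 : constantCoeff j = 0 := by
          have h1 : psi K φ j = 0 := plIdeal_le_ker_psi φ hj
          have h2 : ∀ g : PlRing K d n, constantCoeff (psi K φ g) = constantCoeff g := fun g => by
            induction g using MvPolynomial.induction_on with
            | C a => rw [← MvPolynomial.algebraMap_eq, AlgHom.commutes, MvPolynomial.algebraMap_eq,
                MvPolynomial.algebraMap_eq, constantCoeff_C, constantCoeff_C]
            | add p q hp hq => simp [hp, hq]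
            | mul_X p i hp => simp [constantCoeff_psi_X hd]
          rw [← h2, h1, map_zero]
        have hr : constantCoeff (rankForm K d n 0) = 0 := by simp [rankForm, map_sum]
        simp [hj0, hr]
      have := hcc _ hp
      simp only [lsub, aeval_C, MvPolynomial.algebraMap_eq, constantCoeff_C] at this
      rw [this, map_zero]
  | succ c ih =>
    intro φ hφ S hS
    let D : Finset (Idx d n) := Finset.univ.filter fun s => s ∈ divisors φ
    have hD : ∀ s, s ∈ D ↔ s ∈ divisors φ := fun s => by simp [D]
    have hne : D.Nonempty := by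
      have hlt : botIdx hdn < φ := by
        refine lt_of_le_of_ne (fun t => Fin.le_def.2 (val_le_emb φ.2 t)) fun e => ?_
        rw [← e] at hφ
        simp [codeg, botIdx] at hφ
      obtain ⟨s, hs, -⟩ := exists_divisor_ge hlt
      exact ⟨s, (hD s).2 hs⟩
    have hU : unionIdeal K D = plIdeal K φ ⊔ Ideal.span {rankForm K d n (c + 1)} := by
      rw [unionIdeal_divisors hd D hD hne fun θ hθ => by
        obtain ⟨s, hs, h⟩ := exists_divisor_ge hθ; exact ⟨s, (hD s).2 hs, h⟩]
      have h := rankForm_sub_mem (K := K) φ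
      rw [hφ] at h
      refine le_antisymm (sup_le le_sup_left ?_) (sup_le le_sup_left ?_)
      · rw [Ideal.span_singleton_le_iff_mem, show X φ = rankForm K d n (c + 1) - (rankForm K d n (c + 1) - X φ) by ring]
        exact sub_mem (Ideal.mem_sup_right (Ideal.subset_span rfl)) (Ideal.mem_sup_left h)
      · rw [Ideal.span_singleton_le_iff_mem, show rankForm K d n (c + 1) = X φ + (rankForm K d n (c + 1) - X φ) by ring]
        exact add_mem (Ideal.mem_sup_right (Ideal.subset_span rfl)) (Ideal.mem_sup_left h)
    have hreg : ∀ x, rankForm K d n (c + 1) * x ∈ plIdeal K φ → x ∈ plIdeal K φ := fun x hx => by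
      have h := rankForm_sub_mem (K := K) φ
      rw [hφ] at h
      have h2 : X φ * x ∈ plIdeal K φ := by
        have := sub_mem hx (Ideal.mul_mem_right x _ h)
        rwa [← sub_mul, sub_sub_cancel] at this
      refine mem_plIdeal_of_psi_eq_zero hd (psi_X_self_mul_cancel (w := φ) ?_)
      rw [← map_mul]
      exact plIdeal_le_ker_psi φ h2
    have hP : ∀ ψ ∈ divisors φ, ∀ S : Finset (Idx d n), (∀ s ∈ S, s ∈ divisors ψ) →
        FreeRel (c + 1) (rankForm K d n) (unionIdeal K S) (plIdeal K ψ) :=
      fun ψ hψ => ih ψ (by have := hψ.2; omega)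
    refine freeRel_step (fun k => rankForm_homogeneous k) (isHom_plIdeal hd φ) ?_ hreg ?_ ?_
    · rw [← hU]
      exact fun f hf => mem_unionIdeal.2 fun s hs => mem_unionIdeal.1 hf s ((hD s).2 (hS s hs))
    · have := freeRel_union_of hd hP S hS ∅ (fun s hs => absurd hs (Finset.notMem_empty s))
      rwa [Finset.empty_union, unionIdeal_empty] at this
    · have := freeRel_union_of hd hP D (fun s hs => (hD s).1 hs) S hS
      rwa [Finset.union_eq_right.2 fun s hs => (hD s).2 (hS s hs), hU] at this

theorem isCM_of_freeRel {σ : Type} {N : ℕ} {θ : ℕ → MvPolynomial σ K}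
    {J : Ideal (MvPolynomial σ K)} (h : FreeRel N θ ⊤ J) : LocCoh.IsCohenMacaulayRing (MvPolynomial σ K ⧸ J) := by
  letI : Algebra (MvPolynomial (Fin N) K) (MvPolynomial σ K ⧸ J) :=
    ((Ideal.Quotient.mk J).comp (lsub N θ).toRingHom).toAlgebra
  obtain ⟨h1, h2⟩ := h.exists_free
  haveI := h1
  haveI := h2
  haveI := isCM_mvPolynomial K N
  exact isCM_of_finite_flat (MvPolynomial (Fin N) K) _

theorem isCM_plIdeal (hd : 0 < d) (hdn : d ≤ n) (w : Idx d n) :
    LocCoh.IsCohenMacaulayRing (PlRing K d n ⧸ plIdeal K w) := by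
  have h := freeRel_schubert (K := K) hd hdn (codeg w) w rfl ∅ (fun s hs => absurd hs (Finset.notMem_empty s))
  rw [unionIdeal_empty] at h
  exact isCM_of_freeRel h

theorem isCM_union_divisors (hd : 0 < d) (hdn : d ≤ n) (w : Idx d n) (S : Finset (Idx d n))
    (hS : ∀ s ∈ S, s ∈ divisors w) : LocCoh.IsCohenMacaulayRing (PlRing K d n ⧸ unionIdeal K S) := by
  classical
  rcases S.eq_empty_or_nonempty with rfl | ⟨s₀, hs₀⟩
  · rw [unionIdeal_empty]
    exact isCM_of_freeRel (N := 0) (θ := rankForm K d n) freeRel_refl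
  have h := freeRel_union_of (K := K) hd (N := codeg s₀ + 1) (w := w)
    (fun φ hφ => freeRel_schubert hd hdn _ φ (by have := hφ.2; have := (hS s₀ hs₀).2; omega)) S hS ∅
    (fun s hs => absurd hs (Finset.notMem_empty s))
  rw [Finset.empty_union, unionIdeal_empty] at h
  exact isCM_of_freeRel h

end Groth.Agent.PlLib
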