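import Groth.Agent.PlLib.Indep
import Mathlib.Algebra.Order.Rearrangement
import Mathlib.Algebra.Polynomial.BigOperators

/-! The shape of the straightening relation of a pair, over every commutative ring. -/

universe u

namespace Groth.Agent.PlLib

open W4bk4grassmannian

variable (K : Type u) [CommRing K] {d n : ℕ}

theorem entry_le_iff (θ : Idx d n) (t : Fin d) (v : Fin n) : θ.1 t ≤ v ↔ t.val < cnt θ.1 v := by
  rw [cnt_eq_card]
  constructor
  · intro h
    have : (Finset.Iic t).card ≤ (Finset.univ.filter fun s => θ.1 s ≤ v).card :=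
      Finset.card_le_card fun s hs => by simpa using (θ.2.monotone (Finset.mem_Iic.1 hs)).trans h
    rw [Fin.card_Iic] at this
    omega
  · intro h
    by_contra hh
    have : (Finset.univ.filter fun s => θ.1 s ≤ v).card ≤ (Finset.Iio t).card :=
      Finset.card_le_card fun s hs => by
        simp only [Finset.mem_filter, Finset.mem_univ, true_and] at hs
        exact Finset.mem_Iio.2 (θ.2.lt_iff_lt.1 (hs.trans_lt (not_le.1 hh)))
    rw [Fin.card_Iio] at this
    omega

theorem le_sup_left' (τ φ : Idx d n) : τ ≤ W4bk4grassmannian.sup τ φ := fun _ => le_max_left _ _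
theorem le_sup_right' (τ φ : Idx d n) : φ ≤ W4bk4grassmannian.sup τ φ := fun _ => le_max_right _ _
theorem inf_le_left' (τ φ : Idx d n) : W4bk4grassmannian.inf τ φ ≤ τ := fun _ => min_le_left _ _
theorem inf_le_right' (τ φ : Idx d n) : W4bk4grassmannian.inf τ φ ≤ φ := fun _ => min_le_right _ _

theorem sup_le' {τ φ w : Idx d n} (h₁ : τ ≤ w) (h₂ : φ ≤ w) : W4bk4grassmannian.sup τ φ ≤ w :=
  fun t => max_le (h₁ t) (h₂ t)

theorem cnt_sup_add_cnt_inf (τ φ : Idx d n) (v : Fin n) :
    cnt (W4bk4grassmannian.sup τ φ).1 v + cnt (W4bk4grassmannian.inf τ φ).1 v = cnt τ.1 v + cnt φ.1 v := by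
  simp only [cnt, ← Finset.sum_add_distrib]
  refine Finset.sum_congr rfl fun t _ => ?_
  rcases le_total (τ.1 t) (φ.1 t) with h | h
  · rw [show (W4bk4grassmannian.sup τ φ).1 t = φ.1 t from max_eq_right h,
      show (W4bk4grassmannian.inf τ φ).1 t = τ.1 t from min_eq_left h, add_comm]
  · rw [show (W4bk4grassmannian.sup τ φ).1 t = τ.1 t from max_eq_left h,
      show (W4bk4grassmannian.inf τ φ).1 t = φ.1 t from min_eq_right h]

theorem cnt_sup (τ φ : Idx d n) (v : Fin n) :
    cnt (W4bk4grassmannian.sup τ φ).1 v = min (cnt τ.1 v) (cnt φ.1 v) := by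
  refine le_antisymm (le_min ((le_iff_cnt.1 (le_sup_left' τ φ)) v) ((le_iff_cnt.1 (le_sup_right' τ φ)) v)) ?_
  by_contra! h
  have hlt : cnt (W4bk4grassmannian.sup τ φ).1 v < d := by
    have : cnt τ.1 v ≤ d := by
      rw [cnt_eq_card]; exact (Finset.card_le_univ _).trans (le_of_eq (Fintype.card_fin d))
    omega
  let t : Fin d := ⟨cnt (W4bk4grassmannian.sup τ φ).1 v, hlt⟩
  have h1 : τ.1 t ≤ v := (entry_le_iff τ t v).2 (by simp only [t]; omega)
  have h2 : φ.1 t ≤ v := (entry_le_iff φ t v).2 (by simp only [t]; omega)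
  exact lt_irrefl _ ((entry_le_iff (W4bk4grassmannian.sup τ φ) t v).1 (max_le h1 h2))

theorem cnt_inf (τ φ : Idx d n) (v : Fin n) :
    cnt (W4bk4grassmannian.inf τ φ).1 v = max (cnt τ.1 v) (cnt φ.1 v) := by
  have := cnt_sup_add_cnt_inf τ φ v
  rw [cnt_sup] at this
  omega

/-- The degree of the diagonal term of a minor. -/
def diagWt (θ : Idx d n) : ℕ := ∑ t : Fin d, t.val * (θ.1 t).val

/-- The test matrix detecting diagonal terms. -/
noncomputable def diagMat (w : Idx d n) : Matrix (Fin n) (Fin d) (Polynomial K) :=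
  Matrix.of fun i t => if i ≤ w.1 t then (Polynomial.X : Polynomial K) ^ (t.val * i.val) else 0

theorem perm_eq_one_of_monotone {σ : Equiv.Perm (Fin d)} (h : Monotone σ) : σ = 1 := by
  refine Equiv.ext fun t => ?_
  have hs : StrictMono σ := h.strictMono_of_injective σ.injective
  have := hs.range_inj (g := id) strictMono_id
  rw [Equiv.range_eq_univ, Set.range_id] at this
  exact congrFun (this.1 rfl) t

theorem det_diag_bound (θ w : Idx d n) :
    (((diagMat K w).submatrix θ.1 id).det).natDegree ≤ diagWt θ ∧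
      (θ ≤ w → (((diagMat K w).submatrix θ.1 id).det).coeff (diagWt θ) = 1) := by
  classical
  rw [Matrix.det_apply]
  have hterm : ∀ σ : Equiv.Perm (Fin d), (∏ t, (diagMat K w).submatrix θ.1 id (σ t) t) =
      if ∀ t, θ.1 (σ t) ≤ w.1 t then
        (Polynomial.X : Polynomial K) ^ (∑ t : Fin d, t.val * (θ.1 (σ t)).val) else 0 := by
    intro σ
    split_ifs with h
    · rw [← Finset.prod_pow_eq_pow_sum]
      exact Finset.prod_congr rfl fun t _ => by simp [diagMat, h t]
    · push Not at h
      obtain ⟨t, ht⟩ := h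
      exact Finset.prod_eq_zero (Finset.mem_univ t) (by simp [diagMat, ht])
  have hmv : Monovary (fun t : Fin d => t.val) (fun t => (θ.1 t).val) := fun i j h => by
    exact Fin.le_def.1 (le_of_lt (θ.2.lt_iff_lt.1 (Fin.lt_def.2 h)))
  have hle : ∀ σ : Equiv.Perm (Fin d), (∑ t : Fin d, t.val * (θ.1 (σ t)).val) ≤ diagWt θ := fun σ =>
    hmv.sum_smul_comp_perm_le_sum_smul
  have hlt : ∀ σ : Equiv.Perm (Fin d), σ ≠ 1 → (∑ t : Fin d, t.val * (θ.1 (σ t)).val) < diagWt θ := by
    intro σ hσ
    refine lt_of_le_of_ne (hle σ) fun he => hσ (perm_eq_one_of_monotone ?_)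
    have hm := hmv.sum_smul_comp_perm_eq_sum_smul_iff.1 he
    intro i j hij
    by_contra hh
    rw [not_le] at hh
    have : j.val ≤ i.val := hm (Fin.lt_def.1 (θ.2 hh))
    exact absurd (le_antisymm (Fin.le_def.2 this) hij) (fun e => hh.ne (by rw [e]))
  refine ⟨Polynomial.natDegree_sum_le_of_forall_le _ _ fun σ _ => ?_, fun hθ => ?_⟩
  · refine (Polynomial.natDegree_smul_le _ _).trans ?_
    rw [hterm]
    split_ifs
    · exact (Polynomial.natDegree_X_pow_le _).trans (hle σ)
    · simp
  · rw [Polynomial.finsetSum_coeff, Finset.sum_eq_single 1]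
    · rw [Equiv.Perm.sign_one, one_smul, hterm]
      simp only [Equiv.Perm.one_apply]
      rw [if_pos (fun t => hθ t), Polynomial.coeff_X_pow]
      simp [diagWt]
    · intro σ _ hσ
      rw [hterm, Polynomial.coeff_smul]
      split_ifs with h
      · rw [Polynomial.coeff_X_pow, if_neg (hlt σ hσ).ne', smul_zero]
      · simp
    · exact fun h => absurd (Finset.mem_univ _) h

theorem diag_pair_coeff {τ φ w : Idx d n} (hτ : τ ≤ w) (hφ : φ ≤ w) :
    (ev (K := K) (diagMat K w) (MvPolynomial.X τ * MvPolynomial.X φ)).coeff (diagWt τ + diagWt φ) = 1 := by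
  obtain ⟨a1, a2⟩ := det_diag_bound K τ w
  obtain ⟨b1, b2⟩ := det_diag_bound K φ w
  rw [map_mul, ev_X, ev_X, Polynomial.coeff_mul_add_eq_of_natDegree_le a1 b1, a2 hτ, b2 hφ, one_mul]

theorem diagWt_sup_add (τ φ : Idx d n) :
    diagWt (W4bk4grassmannian.sup τ φ) + diagWt (W4bk4grassmannian.inf τ φ) = diagWt τ + diagWt φ := by
  simp only [diagWt, ← Finset.sum_add_distrib]
  refine Finset.sum_congr rfl fun t _ => ?_
  simp only [W4bk4grassmannian.sup, W4bk4grassmannian.inf]
  rcases le_total (τ.1 t) (φ.1 t) with h | h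
  · rw [max_eq_right h, min_eq_left h, add_comm]
  · rw [max_eq_left h, min_eq_right h]

/-- The pairs allowed in the straightening relation of `τ, φ`. -/
def shapeSet (τ φ : Idx d n) : Set (PlRing K d n) :=
  {f | ∃ α β : Idx d n, β ≤ α ∧ W4bk4grassmannian.sup τ φ < α ∧ β < W4bk4grassmannian.inf τ φ ∧
    (∀ v, cnt α.1 v + cnt β.1 v = cnt τ.1 v + cnt φ.1 v) ∧
    f = MvPolynomial.X α * MvPolynomial.X β}

theorem pair_shape (hd : 0 < d) (τ φ : Idx d n) :
    ∃ g ∈ Submodule.span K (shapeSet K τ φ),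
      MvPolynomial.X τ * MvPolynomial.X φ -
          MvPolynomial.X (W4bk4grassmannian.sup τ φ) * MvPolynomial.X (W4bk4grassmannian.inf τ φ) - g ∈
        plIdealTop (d := d) (n := n) K := by
  classical
  obtain ⟨y, hy, z, hz, hyz⟩ := Submodule.mem_sup.1 (pair_mem_sup K τ φ)
  let P := {p : Idx d n × Idx d n // p.2 ≤ p.1 ∧ ∀ v, cnt p.1.1 v + cnt p.2.1 v = cnt τ.1 v + cnt φ.1 v}
  let M : P → PlRing K d n := fun p => MvPolynomial.X p.1.1 * MvPolynomial.X p.1.2
  have hz' : z ∈ Submodule.span K (Set.range M) := by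
    refine Submodule.span_mono ?_ hz
    rintro f ⟨a, b, hba, hab, rfl⟩
    exact ⟨⟨(a, b), hba, hab⟩, rfl⟩
  obtain ⟨c, hc⟩ := (Submodule.mem_span_range_iff_exists_fun K).1 hz'
  have hpsi : ∀ w, psi K w (∑ p, c p • M p) = psi K w (MvPolynomial.X τ * MvPolynomial.X φ) := by
    intro w
    rw [hc, ← hyz, map_add, show psi K w y = 0 from plIdealTop_le_ker_ev (stair K w) hy, zero_add]
  have hM : ∀ p : P, M p = chainMon K ![p.1.1, p.1.2] := fun p => by
    rw [chainMon, Fin.prod_univ_two]; rfl
  have hbig : ∀ p : P, ¬ W4bk4grassmannian.sup τ φ ≤ p.1.1 → c p = 0 := by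
    intro p hp
    refine coeff_eq_zero_of_psi (ι := P) hd (fun q => ![q.1.1, q.1.2]) ?_ ?_ Finset.univ c p.1.1 ?_ p
      (Finset.mem_univ p) ?_
    · intro q i j hij
      fin_cases i <;> fin_cases j <;> simp_all [q.2.1]
    · intro q q' h
      simp only [Sigma.mk.injEq, heq_eq_eq, true_and] at h
      exact Subtype.ext (Prod.ext (congrFun h 0) (congrFun h 1))
    · simp only [← hM]
      rw [hpsi, map_mul]
      by_cases hτ : τ ≤ p.1.1
      · rw [psi_X_eq_zero K (fun hφ => hp (sup_le' hτ hφ)), mul_zero]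
      · rw [psi_X_eq_zero K hτ, zero_mul]
    · intro k
      fin_cases k
      · exact le_refl p.1.1
      · exact p.2.1
  let p₀ : P := ⟨(W4bk4grassmannian.sup τ φ, W4bk4grassmannian.inf τ φ),
    (inf_le_left' τ φ).trans (le_sup_left' τ φ), cnt_sup_add_cnt_inf τ φ⟩
  have hp₀ : c p₀ = 1 := by
    have h := congrArg (fun f : MatRing K d n =>
      (MvPolynomial.aeval (fun q : Fin n × Fin d => (Polynomial.X : Polynomial K) ^ (q.2.val * q.1.val)) f).coeff
        (diagWt τ + diagWt φ)) (hpsi (W4bk4grassmannian.sup τ φ))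
    have hmap : ∀ f, MvPolynomial.aeval (fun q : Fin n × Fin d => (Polynomial.X : Polynomial K) ^ (q.2.val * q.1.val))
        (psi K (W4bk4grassmannian.sup τ φ) f) = ev (K := K) (diagMat K (W4bk4grassmannian.sup τ φ)) f := by
      intro f
      rw [psi, map_ev_apply]
      congr 2
      ext i t : 1
      simp only [Matrix.map_apply, stair, diagMat, Matrix.of_apply]
      split_ifs <;> simp
    rw [map_sum, Finset.sum_eq_single p₀] at h
    · simp only [map_smul, hmap, Polynomial.coeff_smul, M, smul_eq_mul] at h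
      rw [diag_pair_coeff K (le_sup_left' τ φ) (le_sup_right' τ φ)] at h
      rw [← diagWt_sup_add τ φ, diag_pair_coeff K le_rfl
        ((inf_le_left' τ φ).trans (le_sup_left' τ φ)), mul_one] at h
      exact h
    · intro p _ hp
      rw [map_smul, map_mul]
      by_cases hle : W4bk4grassmannian.sup τ φ ≤ p.1.1
      · rw [psi_X_eq_zero K (φ := p.1.1), zero_mul, smul_zero]
        intro hge
        have h1 : p.1.1 = W4bk4grassmannian.sup τ φ := le_antisymm hge hle
        refine hp (Subtype.ext (Prod.ext h1 (eq_of_cnt_eq (funext fun v => ?_))))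
        have e1 := p.2.2 v
        have e2 := cnt_sup_add_cnt_inf τ φ v
        rw [h1] at e1
        show _ = cnt (W4bk4grassmannian.inf τ φ).1 v
        omega
      · rw [hbig p hle, zero_smul]
    · exact fun h => absurd (Finset.mem_univ _) h
  refine ⟨∑ p ∈ Finset.univ.erase p₀, c p • M p, Submodule.sum_mem _ fun p hp => ?_, ?_⟩
  · by_cases hle : W4bk4grassmannian.sup τ φ ≤ p.1.1
    · refine Submodule.smul_mem _ _ (Submodule.subset_span
        ⟨p.1.1, p.1.2, p.2.1, lt_of_le_of_ne hle ?_, lt_of_le_of_ne (le_iff_cnt.2 fun v => ?_) ?_, p.2.2, rfl⟩)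
      · intro he
        refine Finset.ne_of_mem_erase hp (Subtype.ext (Prod.ext he.symm (eq_of_cnt_eq (funext fun v => ?_))))
        have e1 := p.2.2 v
        have e2 := cnt_sup_add_cnt_inf τ φ v
        rw [← he] at e1
        show _ = cnt (W4bk4grassmannian.inf τ φ).1 v
        omega
      · have e1 := p.2.2 v
        have e2 := cnt_sup_add_cnt_inf τ φ v
        have e3 := le_iff_cnt.1 hle v
        omega
      · intro he
        refine Finset.ne_of_mem_erase hp (Subtype.ext (Prod.ext (eq_of_cnt_eq (funext fun v => ?_)) he))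
        have e1 := p.2.2 v
        have e2 := cnt_sup_add_cnt_inf τ φ v
        rw [he] at e1
        show _ = cnt (W4bk4grassmannian.sup τ φ).1 v
        omega
    · rw [hbig p hle, zero_smul]; exact Submodule.zero_mem _
  · have hsum : z = MvPolynomial.X (W4bk4grassmannian.sup τ φ) * MvPolynomial.X (W4bk4grassmannian.inf τ φ) +
        ∑ p ∈ Finset.univ.erase p₀, c p • M p := by
      rw [← hc, ← Finset.add_sum_erase _ _ (Finset.mem_univ p₀), hp₀, one_smul]
    rw [← hyz, hsum]
    simpa [sub_sub] using hy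

end Groth.Agent.PlLib
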