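import Groth.Agent.PlLib.Smt
import Groth.Agent.PlLib.Shape
import Groth.Prelude.Def_CAlgX
import Mathlib.LinearAlgebra.Matrix.Block

/-! The opposite big cell: Plücker coordinates as minors of the generic block. -/

universe u v

namespace Groth.Agent.PlLib

open W4bk4grassmannian MvPolynomial

theorem det_mem_of_minors {R : Type v} [CommRing R] (I : Ideal R) :
    ∀ {d t : ℕ} (M : Matrix (Fin d) (Fin d) R) (f : Fin t → Fin d), Function.Injective f →
      (∀ g : Fin t → Fin d, (M.submatrix f g).det ∈ I) → M.det ∈ I := by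
  intro d
  induction d with
  | zero =>
    intro t M f hf h
    obtain rfl : t = 0 := Nat.le_zero.1 (by simpa using Fintype.card_le_of_injective f hf)
    simpa using h id
  | succ d ih =>
    intro t M f hf h
    by_cases hs : Function.Surjective f
    · obtain rfl : t = d + 1 := by simpa using Fintype.card_of_bijective ⟨hf, hs⟩
      have := h id
      rw [show M.submatrix f id = M.submatrix (Equiv.ofBijective f ⟨hf, hs⟩) id from rfl,
        Matrix.det_permute] at this
      rcases Int.units_eq_one_or (Equiv.Perm.sign (Equiv.ofBijective f ⟨hf, hs⟩)) with hu | hu <;>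
        simpa [hu] using this
    · obtain ⟨i, hi⟩ : ∃ i, ∀ x, f x ≠ i := by simpa [Function.Surjective] using hs
      rw [Matrix.det_succ_row M i]
      refine Submodule.sum_mem _ fun j _ => Ideal.mul_mem_left _ _ ?_
      choose f' hf' using fun x => Fin.exists_succAbove_eq (hi x)
      refine ih _ f' (fun x y hxy => hf (by rw [← hf' x, ← hf' y, hxy])) fun g => ?_
      rw [Matrix.submatrix_submatrix]
      have : (i.succAbove ∘ f') = f := funext hf'
      rw [this]
      exact h _

variable {d r s : ℕ}

/-- The rows picked by a minor `[a | b]` of the block. -/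
noncomputable def cellRows (a : Fin s → Fin r) (b : Fin s → Fin d) : Fin d → Fin (d + r) :=
  Function.extend b (fun j => Fin.natAdd d (a j)) (Fin.castAdd r)

theorem cellRows_apply {a : Fin s → Fin r} {b : Fin s → Fin d} (hb : Function.Injective b) (j : Fin s) :
    cellRows a b (b j) = Fin.natAdd d (a j) := hb.extend_apply _ _ j

theorem cellRows_of_notMem {a : Fin s → Fin r} {b : Fin s → Fin d} {k : Fin d} (hk : ∀ j, b j ≠ k) :
    cellRows a b k = Fin.castAdd r k :=
  Function.extend_apply' _ _ k (fun ⟨j, hj⟩ => hk j hj)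

theorem cellRows_injective {a : Fin s → Fin r} {b : Fin s → Fin d} (ha : Function.Injective a)
    (hb : Function.Injective b) : Function.Injective (cellRows a b) := by
  intro k k' h
  by_cases hk : ∃ j, b j = k
  · obtain ⟨j, rfl⟩ := hk
    rw [cellRows_apply hb] at h
    by_cases hk' : ∃ j, b j = k'
    · obtain ⟨j', rfl⟩ := hk'
      rw [cellRows_apply hb] at h
      rw [ha (Fin.natAdd_injective _ _ h)]
    · push Not at hk'
      rw [cellRows_of_notMem hk', Fin.ext_iff] at h
      simp only [Fin.val_natAdd, Fin.val_castAdd] at h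
      omega
  · push Not at hk
    rw [cellRows_of_notMem hk] at h
    by_cases hk' : ∃ j, b j = k'
    · obtain ⟨j', rfl⟩ := hk'
      rw [cellRows_apply hb, Fin.ext_iff] at h
      simp only [Fin.val_natAdd, Fin.val_castAdd] at h
      omega
    · push Not at hk'
      rw [cellRows_of_notMem hk'] at h
      exact Fin.castAdd_injective _ _ h

variable {L : Type v} [CommRing L]

/-- The matrix `[1 ; Z]`. -/
def blockMat (Z : Matrix (Fin r) (Fin d) L) : Matrix (Fin (d + r)) (Fin d) L :=
  Matrix.of fun i j => if h : i.val < d then (if i.val = j.val then 1 else 0)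
    else Z ⟨i.val - d, by have := i.isLt; omega⟩ j

theorem blockMat_castAdd (Z : Matrix (Fin r) (Fin d) L) (k c : Fin d) :
    blockMat Z (Fin.castAdd r k) c = (1 : Matrix (Fin d) (Fin d) L) k c := by
  simp [blockMat, Matrix.one_apply, Fin.ext_iff]

theorem blockMat_natAdd (Z : Matrix (Fin r) (Fin d) L) (i : Fin r) (c : Fin d) :
    blockMat Z (Fin.natAdd d i) c = Z i c := by
  simp [blockMat]

theorem det_blockMat_cellRows (Z : Matrix (Fin r) (Fin d) L) (a : Fin s → Fin r) {b : Fin s → Fin d}
    (hb : Function.Injective b) :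
    ((blockMat Z).submatrix (cellRows a b) id).det = (Z.submatrix a b).det := by
  classical
  let e : Fin s ⊕ {k : Fin d // ∀ j, b j ≠ k} ≃ Fin d := Equiv.ofBijective (Sum.elim b Subtype.val) ⟨by
    rintro (x | x) (y | y) h
    · exact congrArg Sum.inl (hb h)
    · exact absurd h (y.2 x)
    · exact absurd h.symm (x.2 y)
    · exact congrArg Sum.inr (Subtype.ext h), fun k => by
    by_cases hk : ∃ j, b j = k
    · obtain ⟨j, rfl⟩ := hk; exact ⟨Sum.inl j, rfl⟩
    · push Not at hk; exact ⟨Sum.inr ⟨k, hk⟩, rfl⟩⟩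
  rw [← Matrix.det_submatrix_equiv_self e]
  have hM : ((blockMat Z).submatrix (cellRows a b) id).submatrix e e =
      Matrix.fromBlocks (Z.submatrix a b) (Z.submatrix a fun k : {k : Fin d // ∀ j, b j ≠ k} => k.1) 0 1 := by
    funext x y
    rcases x with x | x <;> rcases y with y | y <;>
      simp only [Matrix.submatrix_apply, id_eq, e, Equiv.ofBijective_apply, Sum.elim_inl, Sum.elim_inr,
        Matrix.fromBlocks_apply₁₁, Matrix.fromBlocks_apply₁₂, Matrix.fromBlocks_apply₂₁,
        Matrix.fromBlocks_apply₂₂, cellRows_apply hb, blockMat_natAdd]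
    · rw [cellRows_of_notMem x.2, blockMat_castAdd, Matrix.one_apply_ne (fun h => x.2 y h.symm)]
      rfl
    · rw [cellRows_of_notMem x.2, blockMat_castAdd]
      simp [Matrix.one_apply, Subtype.ext_iff]
  rw [hM, Matrix.det_fromBlocks_zero₂₁, Matrix.det_one, mul_one]

/-- The index of the minor `[a | b]` of the block. -/
noncomputable def cellIdx (a : Fin s → Fin r) (b : Fin s → Fin d) (ha : Function.Injective a)
    (hb : Function.Injective b) : Idx d (d + r) :=
  ⟨cellRows a b ∘ Tuple.sort (cellRows a b),
    (Tuple.monotone_sort _).strictMono_of_injective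
      ((cellRows_injective ha hb).comp (Tuple.sort (cellRows a b)).injective)⟩

/-- The sign relating a minor of the block to its Plücker coordinate. -/
noncomputable def cellSign (a : Fin s → Fin r) (b : Fin s → Fin d) : ℤ :=
  (Equiv.Perm.sign (Tuple.sort (cellRows a b)) : ℤˣ)

theorem cellSign_mul_self (a : Fin s → Fin r) (b : Fin s → Fin d) : cellSign a b * cellSign a b = 1 := by
  rw [cellSign, ← Units.val_mul, Int.units_mul_self, Units.val_one]

theorem det_blockMat_cellIdx (Z : Matrix (Fin r) (Fin d) L) (a : Fin s → Fin r) (b : Fin s → Fin d)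
    (ha : Function.Injective a) (hb : Function.Injective b) :
    ((blockMat Z).submatrix (cellIdx a b ha hb).1 id).det = (cellSign a b : L) * (Z.submatrix a b).det := by
  rw [← det_blockMat_cellRows Z a hb]
  exact Matrix.det_permute (Tuple.sort (cellRows a b)) ((blockMat Z).submatrix (cellRows a b) id)

theorem cellMatrix_eq (K : Type u) [CommRing K] : cellMatrix K d r = blockMat (genMatrix K r d) := rfl

theorem cellMinor_cellIdx (K : Type u) [CommRing K] (a : Fin s → Fin r) (b : Fin s → Fin d)
    (ha : Function.Injective a) (hb : Function.Injective b) :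
    cellMinor K d r (cellIdx a b ha hb) =
      (cellSign a b : CellRing K d r) * ((genMatrix K r d).submatrix a b).det :=
  det_blockMat_cellIdx (genMatrix K r d) a b ha hb

theorem minor_eq_sign_mul_cellMinor (K : Type u) [CommRing K] (a : Fin s → Fin r) (b : Fin s → Fin d)
    (ha : Function.Injective a) (hb : Function.Injective b) :
    ((genMatrix K r d).submatrix a b).det =
      (cellSign a b : CellRing K d r) * cellMinor K d r (cellIdx a b ha hb) := by
  rw [cellMinor_cellIdx, ← mul_assoc, ← Int.cast_mul, cellSign_mul_self, Int.cast_one, one_mul]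

theorem cnt_cellIdx (a : Fin s → Fin r) (b : Fin s → Fin d) (ha : Function.Injective a)
    (hb : Function.Injective b) (v : Fin (d + r)) :
    cnt (cellIdx a b ha hb).1 v + (∑ j, if Fin.castAdd r (b j) ≤ v then 1 else 0) =
      (∑ j, if Fin.natAdd d (a j) ≤ v then 1 else 0) + ∑ k : Fin d, if Fin.castAdd r k ≤ v then 1 else 0 := by
  classical
  rw [show cnt (cellIdx a b ha hb).1 v = cnt (cellRows a b) v from congrFun (cnt_comp_perm _ _) v]
  unfold cnt
  rw [← Finset.sum_add_sum_compl (Finset.univ.image b) fun k => if cellRows a b k ≤ v then 1 else 0,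
    ← Finset.sum_add_sum_compl (Finset.univ.image b) fun k => if Fin.castAdd r k ≤ v then 1 else 0,
    Finset.sum_image hb.injOn, Finset.sum_image hb.injOn]
  have h1 : (∑ j, if cellRows a b (b j) ≤ v then 1 else 0) = ∑ j, if Fin.natAdd d (a j) ≤ v then 1 else 0 :=
    Finset.sum_congr rfl fun j _ => by rw [cellRows_apply hb]
  have h2 : (∑ k ∈ (Finset.univ.image b)ᶜ, if cellRows a b k ≤ v then 1 else 0) =
      ∑ k ∈ (Finset.univ.image b)ᶜ, if Fin.castAdd r k ≤ v then 1 else 0 :=
    Finset.sum_congr rfl fun k hk => by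
      rw [cellRows_of_notMem fun j hj => (Finset.mem_compl.1 hk) (Finset.mem_image.2 ⟨j, Finset.mem_univ j, hj⟩)]
  rw [h1, h2]
  omega

theorem cnt_cellIdx_lower (a : Fin s → Fin r) (b : Fin s → Fin d) (ha : Function.Injective a)
    (hb : Function.Injective b) (v : Fin d) :
    cnt (cellIdx a b ha hb).1 (Fin.castAdd r v) + cnt b v = v.val + 1 := by
  have h := cnt_cellIdx a b ha hb (Fin.castAdd r v)
  have hiff : ∀ k : Fin d, Fin.castAdd r k ≤ Fin.castAdd r v ↔ k ≤ v := fun k => Iff.rfl
  have h1 : (∑ j, if Fin.castAdd r (b j) ≤ Fin.castAdd r v then 1 else 0) = cnt b v :=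
    Finset.sum_congr rfl fun j _ => by simp only [hiff]
  have h2 : (∑ j, if Fin.natAdd d (a j) ≤ Fin.castAdd r v then 1 else 0) = 0 :=
    Finset.sum_eq_zero fun j _ => if_neg (by simp only [Fin.le_def, Fin.val_natAdd, Fin.val_castAdd]; omega)
  have h3 : (∑ k : Fin d, if Fin.castAdd r k ≤ Fin.castAdd r v then 1 else 0) = v.val + 1 := by
    simp only [hiff]
    rw [← Finset.card_filter, show (Finset.univ.filter fun k => k ≤ v) = Finset.Iic v by ext; simp,
      Fin.card_Iic]
  omega

theorem cnt_cellIdx_upper (a : Fin s → Fin r) (b : Fin s → Fin d) (ha : Function.Injective a)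
    (hb : Function.Injective b) (i : Fin r) :
    cnt (cellIdx a b ha hb).1 (Fin.natAdd d i) + s = d + cnt a i := by
  have h := cnt_cellIdx a b ha hb (Fin.natAdd d i)
  have hle : ∀ k : Fin d, Fin.castAdd r k ≤ Fin.natAdd d i := fun k => by
    simp only [Fin.le_def, Fin.val_natAdd, Fin.val_castAdd]; omega
  have h1 : (∑ j, if Fin.castAdd r (b j) ≤ Fin.natAdd d i then 1 else 0) = s := by simp [hle]
  have h2 : (∑ j, if Fin.natAdd d (a j) ≤ Fin.natAdd d i then 1 else 0) = cnt a i :=
    Finset.sum_congr rfl fun j _ => by simp only [Fin.le_def, Fin.val_natAdd, Nat.add_le_add_iff_left]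
  have h3 : (∑ k : Fin d, if Fin.castAdd r k ≤ Fin.natAdd d i then 1 else 0) = d := by simp [hle]
  omega

/-- The number of entries of an index in the block. -/
def upperSize (θ : Idx d (d + r)) : ℕ := (Finset.univ.filter fun k => d ≤ (θ.1 k).val).card

theorem upperSize_cellIdx (a : Fin s → Fin r) (b : Fin s → Fin d) (ha : Function.Injective a)
    (hb : Function.Injective b) : upperSize (cellIdx a b ha hb) = s := by
  classical
  rw [upperSize, Finset.card_filter]
  rw [show (∑ k, if d ≤ ((cellIdx a b ha hb).1 k).val then 1 else 0) =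
    ∑ k, if d ≤ (cellRows a b k).val then 1 else 0 from
      Equiv.sum_comp (Tuple.sort (cellRows a b)) fun k => if d ≤ (cellRows a b k).val then 1 else 0]
  rw [← Finset.card_filter, show (Finset.univ.filter fun k => d ≤ (cellRows a b k).val) = Finset.univ.image b by
    ext k
    simp only [Finset.mem_filter, Finset.mem_univ, true_and, Finset.mem_image]
    refine ⟨fun h => ?_, ?_⟩
    · by_contra hk
      push Not at hk
      rw [cellRows_of_notMem hk, Fin.val_castAdd] at h
      omega
    · rintro ⟨j, rfl⟩
      rw [cellRows_apply hb, Fin.val_natAdd]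
      omega,
    Finset.card_image_of_injective _ hb, Finset.card_univ, Fintype.card_fin]

theorem le_upperSize_iff (θ : Idx d (d + r)) (hd : 0 < d) {t : ℕ} (ht : 0 < t) (htd : t ≤ d) :
    d ≤ (θ.1 ⟨d - t, Nat.sub_lt hd ht⟩).val ↔ t ≤ upperSize θ := by
  constructor
  · intro h
    have : (Finset.Ici (⟨d - t, Nat.sub_lt hd ht⟩ : Fin d)).card ≤
        (Finset.univ.filter fun k => d ≤ (θ.1 k).val).card :=
      Finset.card_le_card fun k hk => by
        simpa using h.trans (Fin.le_def.1 (θ.2.monotone (Finset.mem_Ici.1 hk)))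
    rw [Fin.card_Ici] at this
    rw [upperSize]
    dsimp only at this
    omega
  · intro h
    by_contra hlt
    have : (Finset.univ.filter fun k => d ≤ (θ.1 k).val).card ≤
        (Finset.Ioi (⟨d - t, Nat.sub_lt hd ht⟩ : Fin d)).card :=
      Finset.card_le_card fun k hk => by
        simp only [Finset.mem_filter, Finset.mem_univ, true_and] at hk
        exact Finset.mem_Ioi.2 (θ.2.lt_iff_lt.1 (Fin.lt_def.2 (by omega)))
    rw [Fin.card_Ioi] at this
    rw [upperSize] at h
    dsimp only at this
    omega

theorem exists_cellIdx (θ : Idx d (d + r)) :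
    ∃ (s : ℕ) (a : Fin s → Fin r) (b : Fin s → Fin d) (ha : StrictMono a) (hb : StrictMono b),
      θ = cellIdx a b ha.injective hb.injective := by
  classical
  let U : Finset (Fin r) := Finset.univ.filter fun i => ∃ k, θ.1 k = Fin.natAdd d i
  let B : Finset (Fin d) := Finset.univ.filter fun c => ∀ k, θ.1 k ≠ Fin.castAdd r c
  have hsplit : (Finset.univ.image θ.1) = U.map (Fin.natAddEmb d) ∪ Bᶜ.map (Fin.castAddEmb r) := by
    ext x
    simp only [Finset.mem_image, Finset.mem_univ, true_and, Finset.mem_union, Finset.mem_map,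
      Finset.mem_compl, U, B, Finset.mem_filter, not_forall, not_not, Fin.natAddEmb_apply, Fin.castAddEmb_apply]
    constructor
    · rintro ⟨k, rfl⟩
      by_cases hlt : (θ.1 k).val < d
      · have hc : θ.1 k = Fin.castAdd r ⟨(θ.1 k).val, hlt⟩ := Fin.ext rfl
        exact Or.inr ⟨_, ⟨k, hc⟩, hc.symm⟩
      · have hi : θ.1 k = Fin.natAdd d ⟨(θ.1 k).val - d, by have := (θ.1 k).isLt; omega⟩ :=
          Fin.ext (by simp only [Fin.val_natAdd]; omega)
        exact Or.inl ⟨_, ⟨k, hi⟩, hi.symm⟩
    · rintro (⟨i, ⟨k, hk⟩, rfl⟩ | ⟨c, ⟨k, hk⟩, rfl⟩) <;> exact ⟨k, hk⟩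
  have hcard : B.card = U.card := by
    have h := congrArg Finset.card hsplit
    rw [Finset.card_union_of_disjoint, Finset.card_map, Finset.card_map, Finset.card_image_of_injective _ θ.2.injective,
      Finset.card_compl, Finset.card_univ, Fintype.card_fin] at h
    · have := B.card_le_univ
      rw [Fintype.card_fin] at this
      omega
    · rw [Finset.disjoint_left]
      simp only [Finset.mem_map, Fin.natAddEmb_apply, Fin.castAddEmb_apply]
      rintro _ ⟨i, -, rfl⟩ ⟨c, -, hc⟩
      rw [Fin.ext_iff, Fin.val_natAdd, Fin.val_castAdd] at hc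
      omega
  refine ⟨U.card, U.orderEmbOfFin rfl, B.orderEmbOfFin hcard, (U.orderEmbOfFin rfl).strictMono,
    (B.orderEmbOfFin hcard).strictMono, ?_⟩
  set θ' := cellIdx (U.orderEmbOfFin rfl) (B.orderEmbOfFin hcard) (U.orderEmbOfFin rfl).injective
    (B.orderEmbOfFin hcard).injective
  have himg : Finset.univ.image θ'.1 = Finset.univ.image θ.1 := by
    refine Finset.eq_of_subset_of_card_le ?_ ?_
    · rintro x hx
      rw [hsplit]
      obtain ⟨k, -, rfl⟩ := Finset.mem_image.1 hx
      show cellRows _ _ _ ∈ _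
      set k' := Tuple.sort (cellRows (U.orderEmbOfFin rfl) (B.orderEmbOfFin hcard)) k
      by_cases hk : ∃ j, B.orderEmbOfFin hcard j = k'
      · obtain ⟨j, hj⟩ := hk
        rw [← hj, cellRows_apply (B.orderEmbOfFin hcard).injective]
        exact Finset.mem_union_left _ (Finset.mem_map.2 ⟨_, U.orderEmbOfFin_mem rfl j, rfl⟩)
      · push Not at hk
        rw [cellRows_of_notMem hk]
        refine Finset.mem_union_right _ (Finset.mem_map.2 ⟨k', Finset.mem_compl.2 fun hB => ?_, rfl⟩)
        rw [← Finset.map_orderEmbOfFin_univ B hcard] at hB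
        obtain ⟨j, -, hj⟩ := Finset.mem_map.1 hB
        exact hk j hj
    · rw [Finset.card_image_of_injective _ θ.2.injective, Finset.card_image_of_injective _ θ'.2.injective]
  refine Subtype.ext ?_
  refine (Finset.orderEmbOfFin_unique (Finset.card_image_of_injective _ θ.2.injective |>.trans
    (Finset.card_univ.trans (Fintype.card_fin d))) (fun x => Finset.mem_image_of_mem _ (Finset.mem_univ x)) θ.2).trans
    (Finset.orderEmbOfFin_unique _ (fun x => ?_) θ'.2).symm
  rw [← himg]
  exact Finset.mem_image_of_mem _ (Finset.mem_univ x)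

theorem cellMinor_mem_minorIdeal (K : Type u) [CommRing K] {θ : Idx d (d + r)} {t : ℕ}
    (ht : t ≤ upperSize θ) : cellMinor K d r θ ∈ CAlgX.minorIdeal (genMatrix K r d) t := by
  obtain ⟨s, a, b, ha, hb, rfl⟩ := exists_cellIdx θ
  rw [upperSize_cellIdx] at ht
  rw [cellMinor_cellIdx]
  refine Ideal.mul_mem_left _ _ (det_mem_of_minors _ _ (Fin.castLE ht) (Fin.castLE_injective ht) fun g => ?_)
  rw [Matrix.submatrix_submatrix]
  exact Ideal.subset_span ⟨(a ∘ Fin.castLE ht, b ∘ g), rfl⟩

theorem minorIdeal_eq_span_cellMinor (K : Type u) [CommRing K] (d r t : ℕ) :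
    CAlgX.minorIdeal (genMatrix K r d) t =
      Ideal.span {f : CellRing K d r | ∃ θ : Idx d (d + r), t ≤ upperSize θ ∧ f = cellMinor K d r θ} := by
  refine le_antisymm (Ideal.span_le.2 ?_) (Ideal.span_le.2 ?_)
  · rintro f ⟨⟨a, b⟩, rfl⟩
    by_cases ha : Function.Injective a
    · by_cases hb : Function.Injective b
      · dsimp only
        rw [minor_eq_sign_mul_cellMinor K a b ha hb]
        exact Ideal.mul_mem_left _ _ (Ideal.subset_span ⟨_, (upperSize_cellIdx a b ha hb).ge, rfl⟩)
      · obtain ⟨i, j, hij, hne⟩ := Function.not_injective_iff.mp hb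
        dsimp only
        rw [← Matrix.det_transpose, Matrix.det_zero_of_row_eq hne (by funext k; simp [hij])]
        exact zero_mem _
    · obtain ⟨i, j, hij, hne⟩ := Function.not_injective_iff.mp ha
      dsimp only
      rw [Matrix.det_zero_of_row_eq (M := (genMatrix K r d).submatrix a b) hne (by funext k; simp [hij])]
      exact zero_mem _
  · rintro f ⟨θ, hθ, rfl⟩
    exact cellMinor_mem_minorIdeal K hθ

end Groth.Agent.PlLib
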