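import Groth.Agent.PlLib.Cell
import Groth.Agent.PlLib.FftSL

/-! Standard monomials on the opposite big cell. -/

universe u v

namespace Groth.Agent.PlLib

open W4bk4grassmannian MvPolynomial

variable {d r : ℕ}

/-- The smallest index of the cell. -/
def cbot (d r : ℕ) : Idx d (d + r) := ⟨Fin.castAdd r, fun _ _ h => h⟩

theorem cbot_le (θ : Idx d (d + r)) : cbot d r ≤ θ := fun t => Fin.le_def.2 (by
  simpa [cbot] using val_le_emb θ.2 t)

theorem upperSize_eq_zero_iff (θ : Idx d (d + r)) : upperSize θ = 0 ↔ θ = cbot d r := by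
  constructor
  · intro h
    obtain ⟨s, a, b, ha, hb, rfl⟩ := exists_cellIdx θ
    obtain rfl : s = 0 := (upperSize_cellIdx a b ha.injective hb.injective).symm.trans h
    refine eq_of_cnt_eq (funext fun v => ?_)
    have h1 := cnt_cellIdx a b ha.injective hb.injective v
    simp only [Finset.univ_eq_empty, Finset.sum_empty, add_zero, zero_add] at h1
    exact h1
  · rintro rfl
    simp [upperSize, cbot, Finset.filter_eq_empty_iff]

/-- The largest index with at most `σ` entries in the block. -/
def cellPhi (d r σ : ℕ) (hd : σ ≤ d) (hr : σ ≤ r) : Idx d (d + r) :=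
  ⟨fun k => if k.val < d - σ then ⟨σ + k.val, by omega⟩ else ⟨r + k.val, by omega⟩, fun x y h => by
    rw [Fin.lt_def] at h
    rw [Fin.lt_def]
    dsimp only
    split_ifs <;> dsimp only <;> omega⟩

theorem gap_le {k N : ℕ} {f : Fin k → Fin N} (hf : StrictMono f) :
    ∀ (g : ℕ) (x y : Fin k), x.val + g = y.val → (f x).val + g ≤ (f y).val := by
  intro g
  induction g with
  | zero => intro x y h; rw [show x = y from Fin.ext (by omega)]; omega
  | succ g ih =>
    intro x y h
    have h1 := ih x ⟨x.val + g, by omega⟩ rfl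
    have h2 : f ⟨x.val + g, by omega⟩ < f y := hf (by rw [Fin.lt_def]; dsimp only; omega)
    rw [Fin.lt_def] at h2
    omega

theorem le_cellPhi_iff {σ : ℕ} (hd : σ ≤ d) (hr : σ ≤ r) (θ : Idx d (d + r)) :
    θ ≤ cellPhi d r σ hd hr ↔ upperSize θ ≤ σ := by
  constructor
  · intro h
    refine (Finset.card_le_card (t := Finset.univ.filter fun k : Fin d => ¬ k.val < d - σ) fun k hk => ?_).trans ?_
    · simp only [Finset.mem_filter, Finset.mem_univ, true_and] at hk ⊢
      intro hlt
      have := Fin.le_def.1 (h k)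
      simp only [cellPhi, if_pos hlt] at this
      omega
    · rcases Nat.eq_zero_or_pos σ with rfl | hσ
      · simp
      rw [show (Finset.univ.filter fun k : Fin d => ¬ k.val < d - σ) = Finset.Ici ⟨d - σ, by omega⟩ by
        ext k; simp [Fin.le_def]; , Fin.card_Ici]
      dsimp only
      omega
  · intro h k
    rw [Fin.le_def]
    by_cases hk : k.val < d - σ
    · simp only [cellPhi, if_pos hk]
      have hlast : (θ.1 ⟨d - σ - 1, by omega⟩).val < d := by
        by_contra hh
        have hc : (Finset.Ici (⟨d - σ - 1, by omega⟩ : Fin d)).card ≤ upperSize θ :=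
          Finset.card_le_card fun x hx => by
            simpa using (not_lt.1 hh).trans (Fin.le_def.1 (θ.2.monotone (Finset.mem_Ici.1 hx)))
        rw [Fin.card_Ici] at hc
        dsimp only at hc
        omega
      have := gap_le θ.2 (d - σ - 1 - k.val) k ⟨d - σ - 1, by omega⟩ (by dsimp only; omega)
      omega
    · simp only [cellPhi, if_neg hk]
      have := Fin.le_def.1 (le_topIdx (d := d) (n := d + r) (by omega) θ k)
      simp only [topIdx] at this
      omega

variable (K : Type u) [CommRing K]

/-- Restriction to the cell. -/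
noncomputable def dehom (d r : ℕ) : PlRing K d (d + r) →ₐ[K] CellRing K d r := ev (K := K) (cellMatrix K d r)

variable {K}

theorem dehom_X (θ : Idx d (d + r)) : dehom K d r (X θ) = cellMinor K d r θ := ev_X _ θ

theorem det_blockMat_cbot {L : Type v} [CommRing L] (Z : Matrix (Fin r) (Fin d) L) :
    ((blockMat Z).submatrix (cbot d r).1 id).det = 1 := by
  rw [show (blockMat Z).submatrix (cbot d r).1 id = 1 from Matrix.ext fun x y => blockMat_castAdd Z x y,
    Matrix.det_one]

theorem dehom_cbot : dehom K d r (X (cbot d r)) = 1 := by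
  rw [dehom_X, cellMinor, cellMatrix_eq, det_blockMat_cbot]

theorem dehom_surjective : Function.Surjective (dehom K d r) := by
  rw [← AlgHom.range_eq_top, eq_top_iff, ← MvPolynomial.adjoin_range_X, Algebra.adjoin_le_iff]
  rintro _ ⟨⟨i, j⟩, rfl⟩
  have ha : Function.Injective (fun _ : Fin 1 => i) := Function.injective_of_subsingleton _
  have hb : Function.Injective (fun _ : Fin 1 => j) := Function.injective_of_subsingleton _
  have h := minor_eq_sign_mul_cellMinor K (fun _ : Fin 1 => i) (fun _ : Fin 1 => j) ha hb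
  rw [Matrix.det_fin_one] at h
  refine ⟨(cellSign (fun _ : Fin 1 => i) (fun _ : Fin 1 => j) : PlRing K d (d + r)) *
    X (cellIdx _ _ ha hb), ?_⟩
  show dehom K d r _ = _
  rw [map_mul, map_intCast, dehom_X, ← h]
  rfl

theorem dehom_drop_cbot : ∀ {m : ℕ} (c : Fin m → Idx d (d + r)), Antitone c →
    ∃ (m' : ℕ) (c' : Fin m' → Idx d (d + r)), Antitone c' ∧ (∀ k, c' k ≠ cbot d r) ∧
      (∀ k, ∃ j, c' k = c j) ∧ dehom K d r (chainMon K c') = dehom K d r (chainMon K c) := by
  intro m
  induction m with
  | zero => exact fun c hc => ⟨0, c, hc, fun k => k.elim0, fun k => k.elim0, rfl⟩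
  | succ m ih =>
    intro c hc
    by_cases hlast : c (Fin.last m) = cbot d r
    · obtain ⟨m', c', h1, h2, h3, h4⟩ := ih (c ∘ Fin.castSucc) (fun x y h => hc (Fin.castSucc_le_castSucc_iff.2 h))
      refine ⟨m', c', h1, h2, fun k => ?_, ?_⟩
      · obtain ⟨j, hj⟩ := h3 k; exact ⟨_, hj⟩
      · rw [h4]
        conv_rhs => rw [chainMon, Fin.prod_univ_castSucc, map_mul, hlast, dehom_cbot, mul_one]
        rfl
    · refine ⟨m + 1, c, hc, fun k hk => hlast ?_, fun k => ⟨k, rfl⟩, rfl⟩
      exact le_antisymm ((hc (Fin.le_last k)).trans hk.le) (cbot_le _)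

/-- Standard monomials on the cell below `w`: chains avoiding the smallest index. -/
abbrev CellStd (w : Idx d (d + r)) : Type :=
  Σ m : ℕ, {c : Fin m → Idx d (d + r) // Antitone c ∧ ∀ k, c k ≤ w ∧ c k ≠ cbot d r}

variable (K) in
/-- The ideal of a Schubert variety on the cell. -/
noncomputable def cellIdeal (w : Idx d (d + r)) : Ideal (CellRing K d r) :=
  Ideal.span {f | ∃ θ : Idx d (d + r), ¬ θ ≤ w ∧ f = cellMinor K d r θ}

theorem dehom_chainMon_mem_cellIdeal {w : Idx d (d + r)} {m : ℕ} {c : Fin m → Idx d (d + r)}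
    (h : ¬ ∀ k, c k ≤ w) : dehom K d r (chainMon K c) ∈ cellIdeal K w := by
  push Not at h
  obtain ⟨k, hk⟩ := h
  rw [chainMon, ← Finset.mul_prod_erase _ _ (Finset.mem_univ k), map_mul, dehom_X]
  exact Ideal.mul_mem_right _ _ (Ideal.subset_span ⟨_, hk, rfl⟩)

theorem span_cell_std (w : Idx d (d + r)) :
    Submodule.span K (Set.range fun x : CellStd w =>
      Ideal.Quotient.mk (cellIdeal K w) (dehom K d r (chainMon K x.2.1))) = ⊤ := by
  rw [eq_top_iff]
  rintro z -
  obtain ⟨g, rfl⟩ := Ideal.Quotient.mk_surjective z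
  obtain ⟨f, rfl⟩ := dehom_surjective g
  obtain ⟨l, hl⟩ := exists_std_decomp f
  have h0 : dehom K d r (f - l.sum (fun x a => a • chainMon K x.2.1)) = 0 :=
    plIdealTop_le_ker_ev (cellMatrix K d r) hl
  rw [map_sub, sub_eq_zero] at h0
  rw [h0, Finsupp.sum, map_sum, map_sum]
  refine Submodule.sum_mem _ fun x _ => ?_
  rw [map_smul]
  show (Ideal.Quotient.mkₐ K (cellIdeal K w)) (l x • _) ∈ _
  rw [map_smul]
  refine Submodule.smul_mem _ _ ?_
  by_cases hw : ∀ k, x.2.1 k ≤ w
  · obtain ⟨m', c', h1, h2, h3, h4⟩ := dehom_drop_cbot (K := K) x.2.1 x.2.2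
    rw [← h4]
    refine Submodule.subset_span ⟨⟨m', c', h1, fun k => ⟨?_, h2 k⟩⟩, rfl⟩
    obtain ⟨j, hj⟩ := h3 k
    exact hj ▸ hw j
  · rw [Ideal.Quotient.mkₐ_eq_mk, Ideal.Quotient.eq_zero_iff_mem.2 (dehom_chainMon_mem_cellIdeal hw)]
    exact Submodule.zero_mem _

theorem eval_dehom {f : PlRing K d (d + r)} (z : Fin r × Fin d → K) :
    eval z (dehom K d r f) = ev (K := K) (blockMat (Matrix.of fun i j => z (i, j))) f := by
  show (aeval z : CellRing K d r →ₐ[K] K) (dehom K d r f) = _
  rw [dehom, map_ev_apply]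
  congr 2
  ext i j : 1
  simp only [Matrix.map_apply, cellMatrix, blockMat, Matrix.of_apply]
  split_ifs <;> simp [aeval_eq_eval]

theorem ev_mul_right {n : ℕ} {L : Type v} [CommRing L] [Algebra K L] (A : Matrix (Fin n) (Fin d) L)
    (Q : Matrix (Fin d) (Fin d) L) {m : ℕ} (c : Fin m → Idx d n) :
    ev (K := K) (A * Q) (chainMon K c) = Q.det ^ m * ev (K := K) A (chainMon K c) := by
  have h : ∀ θ : Idx d n, ev (K := K) (A * Q) (X θ) = Q.det * ev (K := K) A (X θ) := fun θ => by
    rw [ev_X, ev_X, show (A * Q).submatrix θ.1 id = A.submatrix θ.1 id * Q from rfl, Matrix.det_mul, mul_comm]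
  simp only [chainMon, map_prod, h, Finset.prod_mul_distrib, Finset.prod_const, Finset.card_univ, Fintype.card_fin]

section Field

variable {F : Type u} [Field F] [Infinite F]

/-- Padded chain. -/
def padBot (D : ℕ) {m : ℕ} (c : Fin m → Idx d (d + r)) : Fin D → Idx d (d + r) :=
  fun k => if h : k.val < m then c ⟨k.val, h⟩ else cbot d r

theorem antitone_padBot (D : ℕ) {m : ℕ} {c : Fin m → Idx d (d + r)} (hc : Antitone c) :
    Antitone (padBot D c) := by
  intro x y h
  unfold padBot
  rw [Fin.le_def] at h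
  split_ifs with hy hx hx
  · exact hc h
  · omega
  · exact cbot_le _
  · exact le_rfl

theorem chainMon_padBot {m D : ℕ} (hD : m ≤ D) (c : Fin m → Idx d (d + r)) :
    chainMon F (padBot D c) = chainMon F c * X (cbot d r) ^ (D - m) := by
  obtain ⟨e, rfl⟩ := Nat.exists_eq_add_of_le hD
  rw [chainMon, Fin.prod_univ_add, Nat.add_sub_cancel_left, chainMon]
  congr 1
  · exact Finset.prod_congr rfl fun k _ => by simp [padBot]
  · rw [show X (cbot d r) ^ e = ∏ _k : Fin e, (X (cbot d r) : PlRing F d (d + r)) by simp]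
    exact Finset.prod_congr rfl fun k _ => by simp [padBot]

/-- A combination of standard monomials vanishing at all points of the Schubert variety on the cell is zero. -/
theorem coeff_eq_zero_of_cell (hd : 0 < d) {w : Idx d (d + r)} {ι : Type*} {m : ι → ℕ}
    (c : (x : ι) → Fin (m x) → Idx d (d + r)) (hanti : ∀ x, Antitone (c x))
    (hbot : ∀ x k, c x k ≠ cbot d r)
    (hinj : Function.Injective fun x => (⟨m x, c x⟩ : Σ m : ℕ, Fin m → Idx d (d + r)))
    (s : Finset ι) (a : ι → F)
    (h : ∀ Z : Matrix (Fin r) (Fin d) F,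
      (∀ θ : Idx d (d + r), ¬ θ ≤ w → ((blockMat Z).submatrix θ.1 id).det = 0) →
        ev (K := F) (blockMat Z) (∑ x ∈ s, a x • chainMon F (c x)) = 0)
    (x : ι) (hx : x ∈ s) (hxw : ∀ k, c x k ≤ w) : a x = 0 := by
  classical
  set D := s.sup m with hD
  have hmD : ∀ y ∈ s, m y ≤ D := fun y hy => Finset.le_sup hy
  have hF : psi F w (∑ y ∈ s, a y • chainMon F (padBot D (c y))) = 0 := by
    have h1 : psi F w (X (cbot d r) * ∑ y ∈ s, a y • chainMon F (padBot D (c y))) = 0 := by
      refine MvPolynomial.funext fun z => ?_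
      rw [map_zero]
      let A : Matrix (Fin (d + r)) (Fin d) F := (stair F w).map (aeval z : MatRing F d (d + r) →ₐ[F] F)
      have hev : ∀ g, eval z (psi F w g) = ev (K := F) A g :=
        fun g => map_ev_apply (aeval z : MatRing F d (d + r) →ₐ[F] F) (stair F w) g
      rw [hev, map_mul, ev_X]
      set Q := A.submatrix (cbot d r).1 id with hQ
      by_cases h0 : Q.det = 0
      · rw [h0, zero_mul]
      set B := A * Q⁻¹ with hB
      have hAB : A = B * Q := by
        rw [hB, Matrix.mul_assoc, Matrix.nonsing_inv_mul Q (Ne.isUnit h0), Matrix.mul_one]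
      have hblock : B = blockMat (Matrix.of fun i j => B (Fin.natAdd d i) j) := by
        ext i j
        refine Fin.addCases (fun k => ?_) (fun k => ?_) i
        · rw [blockMat_castAdd, ← Matrix.mul_nonsing_inv Q (Ne.isUnit h0)]
          rfl
        · rw [blockMat_natAdd]; rfl
      have hcond : ∀ θ : Idx d (d + r), ¬ θ ≤ w →
          ((blockMat (Matrix.of fun i j => B (Fin.natAdd d i) j)).submatrix θ.1 id).det = 0 := by
        intro θ hθ
        rw [← hblock]
        have h2 : (A.submatrix θ.1 id).det = 0 := by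
          have := hev (X θ)
          rw [psi_X_eq_zero F hθ, map_zero, ev_X] at this
          exact this.symm
        rw [hAB, show (B * Q).submatrix θ.1 id = B.submatrix θ.1 id * Q from rfl, Matrix.det_mul] at h2
        exact (mul_eq_zero.1 h2).resolve_right h0
      have key := h _ hcond
      rw [← hblock] at key
      refine mul_eq_zero_of_right _ ?_
      rw [hAB, map_sum]
      calc ∑ y ∈ s, ev (K := F) (B * Q) (a y • chainMon F (padBot D (c y)))
          = ∑ y ∈ s, Q.det ^ D * ev (K := F) B (a y • chainMon F (c y)) := by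
            refine Finset.sum_congr rfl fun y hy => ?_
            rw [map_smul, map_smul, ev_mul_right, chainMon_padBot (hmD y hy), map_mul, map_pow, ev_X]
            have hone : (B.submatrix (cbot d r).1 id).det = 1 := by rw [hblock, det_blockMat_cbot]
            rw [hone, one_pow, mul_one, smul_eq_mul, smul_eq_mul]
            ring
        _ = 0 := by rw [← Finset.mul_sum, ← map_sum, key, mul_zero]
    rw [map_mul, mul_eq_zero] at h1
    refine h1.resolve_left fun h2 => ?_
    have h3 := congrArg (mask F (cbot d r)) h2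
    rw [map_zero, mask_psi F (cbot_le w), psi_X_self] at h3
    exact Finset.prod_ne_zero_iff.2 (fun t _ => X_ne_zero _) h3
  refine coeff_eq_zero_of_psi (ι := s) hd (fun y => padBot D (c y.1)) (fun y => antitone_padBot D (hanti _))
    ?_ Finset.univ (fun y => a y.1) w ?_ ⟨x, hx⟩ (Finset.mem_univ _) ?_
  · intro y y' he
    simp only [Sigma.mk.injEq, heq_eq_eq, true_and] at he
    refine Subtype.ext (hinj ?_)
    have hlen : ∀ {y y' : s}, padBot D (c y.1) = padBot D (c y'.1) → m y.1 ≤ m y'.1 := by
      intro y y' he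
      by_contra hlt
      have hk : m y'.1 < D := (not_le.1 hlt).trans_le (hmD _ y.2)
      have := congrFun he ⟨m y'.1, hk⟩
      simp only [padBot, dif_pos (not_le.1 hlt), lt_irrefl, dif_neg, not_false_eq_true] at this
      exact hbot _ _ this
    have hm : m y.1 = m y'.1 := le_antisymm (hlen he) (hlen he.symm)
    refine Sigma.ext hm ?_
    refine (Fin.heq_fun_iff hm).2 fun k => ?_
    have := congrFun he ⟨k.val, k.isLt.trans_le (hmD _ y.2)⟩
    simpa [padBot, k.isLt, show k.val < m y'.1 from hm ▸ k.isLt] using this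
  · rw [← hF]
    congr 1
    exact Finset.sum_coe_sort s fun y => a y • chainMon F (padBot D (c y))
  · intro k
    unfold padBot
    split_ifs with hk
    · exact hxw _
    · exact cbot_le w

end Field

end Groth.Agent.PlLib
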