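import Groth.Prelude.Def_W4bk4grassmannianPl
import Mathlib.GroupTheory.Perm.Fin
import Mathlib.Data.Fin.Tuple.Sort

/-! Signed Plücker coordinates of arbitrary tuples and evaluation at minors. -/

universe u v

namespace Groth.Agent.PlLib

open W4bk4grassmannian MvPolynomial

variable {K : Type u} [CommRing K] {d n : ℕ}

/-- Evaluation of Plücker polynomials at the maximal minors of a matrix over a `K`-algebra. -/
noncomputable def ev {L : Type v} [CommRing L] [Algebra K L] (A : Matrix (Fin n) (Fin d) L) :
    PlRing K d n →ₐ[K] L :=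
  aeval fun θ : Idx d n => (A.submatrix θ.1 id).det

theorem sign_eq_neg_one_pow (σ : Equiv.Perm (Fin d)) (g : Fin d → Fin n)
    (hg : ∀ i j, σ i < σ j ↔ g i < g j) :
    ((Equiv.Perm.sign σ : ℤˣ) : ℤ) = (-1) ^ invCount d n g := by
  rw [Equiv.Perm.sign_eq_prod_prod_Ioi, Units.coe_prod]
  simp only [Units.coe_prod, apply_ite Units.val, Units.val_one, Units.val_neg]
  rw [invCount, ← Finset.prod_const, Finset.prod_filter, Fintype.prod_prod_type]
  refine Finset.prod_congr rfl fun i _ => ?_
  rw [← Finset.filter_lt_eq_Ioi, Finset.prod_filter]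
  refine Finset.prod_congr rfl fun j _ => ?_
  by_cases hij : i < j
  · simp only [hij, if_true, true_and]
    have hne : σ i ≠ σ j := fun h => hij.ne (σ.injective h)
    have hgne : g i ≠ g j := fun h => by
      rcases lt_or_gt_of_ne hne with h' | h'
      · exact ((hg _ _).mp h').ne h
      · exact ((hg _ _).mp h').ne h.symm
    rcases lt_or_gt_of_ne hne with h' | h'
    · rw [if_pos h', if_neg ((hg _ _).mp h').not_gt]
    · rw [if_neg h'.not_gt, if_pos ((hg _ _).mp h')]
  · simp [hij]

theorem card_image_eq_iff_injective (a : Fin d → Fin n) :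
    (Finset.univ.image a).card = d ↔ Function.Injective a := by
  constructor
  · intro h
    have h' := Finset.injOn_of_card_image_eq (s := Finset.univ) (f := a) (by simpa using h)
    exact fun x y hxy => h' (Finset.mem_coe.2 (Finset.mem_univ x))
      (Finset.mem_coe.2 (Finset.mem_univ y)) hxy
  · intro h
    rw [Finset.card_image_of_injective _ h, Finset.card_univ, Fintype.card_fin]

theorem coord_of_not_injective {a : Fin d → Fin n} (ha : ¬ Function.Injective a) :
    coord K d n a = 0 := by
  rw [coord, dif_neg]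
  rwa [card_image_eq_iff_injective]

theorem exists_eq_sortIdx_comp {a : Fin d → Fin n} (ha : Function.Injective a) :
    ∃ (σ : Equiv.Perm (Fin d)) (θ : Idx d n), a = θ.1 ∘ σ := by
  have hmono : StrictMono (a ∘ Tuple.sort a) :=
    (Tuple.monotone_sort a).strictMono_of_injective (ha.comp (Tuple.sort a).injective)
  refine ⟨(Tuple.sort a)⁻¹, ⟨_, hmono⟩, ?_⟩
  funext t
  simp

theorem coord_comp (θ : Idx d n) (σ : Equiv.Perm (Fin d)) :
    coord K d n (θ.1 ∘ σ) = ((Equiv.Perm.sign σ : ℤ) : PlRing K d n) * X θ := by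
  have ha : Function.Injective (θ.1 ∘ σ) := θ.2.injective.comp σ.injective
  rw [coord, dif_pos ((card_image_eq_iff_injective _).2 ha)]
  have hs : sortIdx d n (θ.1 ∘ σ) ((card_image_eq_iff_injective _).2 ha) = θ := by
    refine Subtype.ext ?_
    refine (Finset.orderEmbOfFin_unique _ (fun x => ?_) θ.2).symm
    exact Finset.mem_image.2 ⟨σ⁻¹ x, Finset.mem_univ _, by simp⟩
  have hsgn := sign_eq_neg_one_pow σ (θ.1 ∘ σ) fun i j => θ.2.lt_iff_lt.symm
  rw [hs, hsgn]
  push_cast
  rfl

theorem coord_idx (θ : Idx d n) : coord K d n θ.1 = X θ := by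
  have := coord_comp (K := K) θ 1
  simpa using this

theorem coord_perm (a : Fin d → Fin n) (π : Equiv.Perm (Fin d)) :
    coord K d n (a ∘ π) = ((Equiv.Perm.sign π : ℤ) : PlRing K d n) * coord K d n a := by
  by_cases ha : Function.Injective a
  · obtain ⟨σ, θ, rfl⟩ := exists_eq_sortIdx_comp ha
    rw [Function.comp_assoc, ← Equiv.Perm.coe_mul, coord_comp, coord_comp, map_mul]
    push_cast
    ring
  · rw [coord_of_not_injective ha, coord_of_not_injective, mul_zero]
    exact fun h => ha ((Function.Injective.of_comp_iff' _ π.bijective).mp h)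

variable {L : Type v} [CommRing L] [Algebra K L]

@[simp]
theorem ev_X (A : Matrix (Fin n) (Fin d) L) (θ : Idx d n) :
    ev (K := K) A (X θ) = (A.submatrix θ.1 id).det := aeval_X _ _

theorem ev_coord (A : Matrix (Fin n) (Fin d) L) (a : Fin d → Fin n) :
    ev (K := K) A (coord K d n a) = (A.submatrix a id).det := by
  by_cases ha : Function.Injective a
  · obtain ⟨σ, θ, rfl⟩ := exists_eq_sortIdx_comp ha
    rw [coord_comp, map_mul, map_intCast, ev_X,
      show A.submatrix (θ.1 ∘ σ) id = (A.submatrix θ.1 id).submatrix σ id from rfl, Matrix.det_permute]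
  · obtain ⟨i, j, hij, hne⟩ := Function.not_injective_iff.mp ha
    rw [coord_of_not_injective ha, map_zero,
      Matrix.det_zero_of_row_eq (M := A.submatrix a id) hne (by funext k; simp [hij])]

theorem evalMinors_eq_ev (A : Matrix (Fin n) (Fin d) K) :
    evalMinors K d n A = ev (K := K) A := rfl

theorem pluckerMap_eq_ev :
    pluckerMap K d n = ev (K := K) (Matrix.of fun i t => (X (i, t) : MatRing K d n)) := rfl

theorem map_ev {L' : Type*} [CommRing L'] [Algebra K L'] (f : L →ₐ[K] L')
    (A : Matrix (Fin n) (Fin d) L) : f.comp (ev (K := K) A) = ev (K := K) (A.map f) := by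
  refine MvPolynomial.algHom_ext fun θ => ?_
  rw [AlgHom.comp_apply, ev_X, ev_X, AlgHom.map_det]
  rfl

theorem map_ev_apply {L' : Type*} [CommRing L'] [Algebra K L'] (f : L →ₐ[K] L')
    (A : Matrix (Fin n) (Fin d) L) (p : PlRing K d n) : f (ev (K := K) A p) = ev (K := K) (A.map f) p := by
  rw [← map_ev]; rfl

end Groth.Agent.PlLib
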