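import Groth.Agent.PlLib.Smt
import Groth.Agent.PlLib.Shape
import Mathlib.RingTheory.Adjoin.Basic
import Mathlib.LinearAlgebra.FreeModule.Basic
import Mathlib.Algebra.Polynomial.RingDivision
import Mathlib.RingTheory.Ideal.Quotient.Operations

/-! Flat degenerations of the cone over a Schubert variety attached to weights on the indices. -/

universe u

namespace Groth.Agent.PlLib

open W4bk4grassmannian MvPolynomial

variable (K : Type u) [CommRing K] {d n : ℕ} (w : Idx d n) (W : Idx d n → ℕ)

/-- The ambient ring of the family. -/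
abbrev FamAmb (d n : ℕ) : Type u := MatRing (Polynomial K) d n

/-- The generators of the family: minors scaled by powers of the parameter. -/
noncomputable def famGen (θ : Idx d n) : FamAmb K d n :=
  (Polynomial.X : Polynomial K) ^ W θ • psi (Polynomial K) w (X θ)

/-- The family. -/
noncomputable def family : Subalgebra (Polynomial K) (FamAmb K d n) :=
  (aeval (famGen K w W) : MvPolynomial (Idx d n) (Polynomial K) →ₐ[Polynomial K] FamAmb K d n).range

theorem famGen_mem (θ : Idx d n) : famGen K w W θ ∈ family K w W := ⟨X θ, aeval_X _ _⟩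

/-- A generator of the family as an element of it. -/
noncomputable def fgen (θ : Idx d n) : family K w W := ⟨famGen K w W θ, famGen_mem K w W θ⟩

/-- The standard products in the family. -/
noncomputable def fstd (x : Std w) : family K w W := ∏ k, fgen K w W (x.2.1 k)

variable {K w W}

theorem famGen_eq_zero {θ : Idx d n} (h : ¬ θ ≤ w) : famGen K w W θ = 0 := by
  rw [famGen, psi_X_eq_zero _ h, smul_zero]

theorem fgen_eq_zero {θ : Idx d n} (h : ¬ θ ≤ w) : fgen K w W θ = 0 := Subtype.ext (famGen_eq_zero h)

theorem prod_famGen {m : ℕ} (c : Fin m → Idx d n) :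
    (∏ k, famGen K w W (c k)) =
      (Polynomial.X : Polynomial K) ^ (∑ k, W (c k)) • psi (Polynomial K) w (chainMon (Polynomial K) c) := by
  simp only [famGen, Finset.prod_smul, Finset.prod_pow_eq_pow_sum, chainMon, map_prod]

theorem coe_fstd (x : Std w) : ((fstd K w W x : family K w W) : FamAmb K d n) =
    (Polynomial.X : Polynomial K) ^ (∑ k, W (x.2.1 k)) • psi (Polynomial K) w (chainMon (Polynomial K) x.2.1) := by
  rw [fstd, ← prod_famGen]
  exact map_prod (family K w W).val _ _

/-- The weights strictly decrease along straightening, and `ε` records whether the leading term survives. -/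
structure WeightData (W : Idx d n → ℕ) (ε : Bool) : Prop where
  lead : ∀ τ φ : Idx d n, ¬ τ ≤ φ → ¬ φ ≤ τ →
    W (W4bk4grassmannian.sup τ φ) + W (W4bk4grassmannian.inf τ φ) + (if ε then 0 else 1) ≤ W τ + W φ
  lead_eq : ε = true → ∀ τ φ : Idx d n,
    W (W4bk4grassmannian.sup τ φ) + W (W4bk4grassmannian.inf τ φ) = W τ + W φ
  tail : ∀ τ φ α β : Idx d n, ¬ τ ≤ φ → ¬ φ ≤ τ → W4bk4grassmannian.sup τ φ < α →
    (∀ v, cnt α.1 v + cnt β.1 v = cnt τ.1 v + cnt φ.1 v) → W α + W β < W τ + W φ

variable {ε : Bool}

/-- The relation of an incomparable pair in the family. -/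
theorem fgen_mul_fgen (hd : 0 < d) (hW : WeightData W ε) {a b : Idx d n} (h₁ : ¬ a ≤ b) (h₂ : ¬ b ≤ a) :
    ∃ r ∈ Submodule.span (Polynomial K) {f : family K w W | ∃ α β : Idx d n,
        size (W4bk4grassmannian.sup a b).1 ≤ size α.1 ∧ f = fgen K w W α * fgen K w W β},
      fgen K w W a * fgen K w W b =
        (if ε then fgen K w W (W4bk4grassmannian.sup a b) * fgen K w W (W4bk4grassmannian.inf a b) else 0) +
          (Polynomial.X : Polynomial K) • r := by
  classical
  obtain ⟨g, hg, hmem⟩ := pair_shape (Polynomial K) hd a b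
  have hpsi : psi (Polynomial K) w (X a * X b) =
      psi (Polynomial K) w (X (W4bk4grassmannian.sup a b) * X (W4bk4grassmannian.inf a b)) +
        psi (Polynomial K) w g := by
    have h0 : psi (Polynomial K) w _ = 0 := plIdealTop_le_ker_ev (stair (Polynomial K) w) hmem
    rw [map_sub, map_sub, sub_sub, sub_eq_zero] at h0
    exact h0
  obtain ⟨δ, hδ⟩ := Nat.exists_eq_add_of_le (hW.lead a b h₁ h₂)
  set S : Submodule (Polynomial K) (family K w W) := Submodule.span (Polynomial K)
    {f : family K w W | ∃ α β : Idx d n,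
      size (W4bk4grassmannian.sup a b).1 ≤ size α.1 ∧ f = fgen K w W α * fgen K w W β} with hS
  have htail : ∃ r ∈ S, ((r : family K w W) : FamAmb K d n) * algebraMap (Polynomial K) _ Polynomial.X =
      (Polynomial.X : Polynomial K) ^ (W a + W b) • psi (Polynomial K) w g := by
    refine Submodule.span_induction (p := fun x _ => ∃ r ∈ S,
      ((r : family K w W) : FamAmb K d n) * algebraMap (Polynomial K) _ Polynomial.X =
        (Polynomial.X : Polynomial K) ^ (W a + W b) • psi (Polynomial K) w x) ?_ ?_ ?_ ?_ hg
    · rintro f ⟨α, β, -, hα, -, hcnt, rfl⟩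
      obtain ⟨e, he⟩ := Nat.exists_eq_add_of_lt (hW.tail a b α β h₁ h₂ hα hcnt)
      refine ⟨(Polynomial.X : Polynomial K) ^ e • (fgen K w W α * fgen K w W β),
        Submodule.smul_mem _ _ (Submodule.subset_span ⟨α, β, (size_lt_of_lt hα).le, rfl⟩), ?_⟩
      rw [he, map_mul]
      show ((Polynomial.X : Polynomial K) ^ e • (famGen K w W α * famGen K w W β)) *
        algebraMap (Polynomial K) _ Polynomial.X = _
      rw [famGen, famGen]
      simp only [Algebra.smul_def, map_pow]
      ring
    · exact ⟨0, Submodule.zero_mem _, by simp⟩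
    · rintro x y - - ⟨r, hr, hr'⟩ ⟨r', hr₁, hr₁'⟩
      exact ⟨r + r', Submodule.add_mem _ hr hr₁, by rw [map_add, smul_add, ← hr', ← hr₁', ← add_mul]; rfl⟩
    · rintro s x - ⟨r, hr, hr'⟩
      refine ⟨s • r, Submodule.smul_mem _ s hr, ?_⟩
      rw [map_smul, smul_comm, ← hr', ← smul_mul_assoc]
      rfl
  obtain ⟨r, hr, hr'⟩ := htail
  have htop : fgen K w W a * fgen K w W b =
      (Polynomial.X : Polynomial K) ^ ((if ε then 0 else 1) + δ) •
        (fgen K w W (W4bk4grassmannian.sup a b) * fgen K w W (W4bk4grassmannian.inf a b)) +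
      (Polynomial.X : Polynomial K) • r := by
    refine Subtype.ext ?_
    show famGen K w W a * famGen K w W b = (Polynomial.X : Polynomial K) ^ ((if ε then 0 else 1) + δ) •
        (famGen K w W (W4bk4grassmannian.sup a b) * famGen K w W (W4bk4grassmannian.inf a b)) +
      (Polynomial.X : Polynomial K) • (r : FamAmb K d n)
    rw [Algebra.smul_def (Polynomial.X : Polynomial K) (r : FamAmb K d n), Algebra.commutes, hr']
    simp only [famGen, smul_mul_smul_comm, smul_smul, ← pow_add, ← map_mul, hpsi, smul_add]
    congr 2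
    congr 1
    omega
  cases ε with
  | true =>
    have := hW.lead_eq rfl a b
    simp only [if_true] at hδ htop ⊢
    obtain rfl : δ = 0 := by omega
    exact ⟨r, hr, by simpa using htop⟩
  | false =>
    simp only [Bool.false_eq_true, if_false] at hδ htop ⊢
    refine ⟨(Polynomial.X : Polynomial K) ^ δ •
      (fgen K w W (W4bk4grassmannian.sup a b) * fgen K w W (W4bk4grassmannian.inf a b)) + r,
      Submodule.add_mem _ (Submodule.smul_mem _ _ (Submodule.subset_span ⟨_, _, le_rfl, rfl⟩)) hr, ?_⟩
    rw [htop, zero_add, smul_add, smul_smul, ← pow_succ', add_comm 1 δ]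

theorem lt_sup_of_incomparable {a b : Idx d n} (h₂ : ¬ b ≤ a) : a < W4bk4grassmannian.sup a b :=
  lt_of_le_of_ne (le_sup_left' a b) fun e => h₂ (e ▸ le_sup_right' a b)

theorem prod_fgen_mem_span (hd : 0 < d) (hW : WeightData W ε) {m : ℕ} (c : Fin m → Idx d n) :
    (∏ k, fgen K w W (c k)) ∈ Submodule.span (Polynomial K) (Set.range (fstd K w W)) := by
  classical
  induction c using tuple_induction with
  | hchain c π hπ =>
    rw [← Equiv.prod_comp π fun k => fgen K w W (c k)]
    by_cases hle : ∀ k, (c ∘ π) k ≤ w
    · exact Submodule.subset_span ⟨⟨m, c ∘ π, hπ, hle⟩, rfl⟩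
    · push Not at hle
      obtain ⟨k, hk⟩ := hle
      rw [Finset.prod_eq_zero (Finset.mem_univ k) (fgen_eq_zero hk)]
      exact Submodule.zero_mem _
  | hstep c k l hkl h1 h2 h3 ih =>
    obtain ⟨r, hr, hrel⟩ := fgen_mul_fgen (K := K) (w := w) hd hW h1 h2
    have hsplit : ∀ a b, (∏ s, fgen K w W (Function.update (Function.update c k a) l b s)) =
        fgen K w W a * fgen K w W b * ∏ s ∈ (Finset.univ.erase k).erase l, fgen K w W (c s) := by
      intro a b
      rw [← Finset.mul_prod_erase _ _ (Finset.mem_univ k),
        ← Finset.mul_prod_erase (Finset.univ.erase k) _ (Finset.mem_erase.2 ⟨hkl.symm, Finset.mem_univ l⟩),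
        Function.update_of_ne hkl, Function.update_self, Function.update_self, mul_assoc]
      congr 2
      refine Finset.prod_congr rfl fun s hs => ?_
      rw [Function.update_of_ne (Finset.ne_of_mem_erase hs),
        Function.update_of_ne (Finset.ne_of_mem_erase (Finset.mem_of_mem_erase hs))]
    have hc := hsplit (c k) (c l)
    rw [Function.update_eq_self, Function.update_eq_self] at hc
    rw [hc, hrel, add_mul, smul_mul_assoc]
    refine Submodule.add_mem _ ?_ (Submodule.smul_mem _ _ ?_)
    · cases ε
      · simp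
      · simp only [if_true]
        rw [← hsplit]
        exact ih _ _ (size_lt_of_lt (lt_sup_of_incomparable h2))
    · refine Submodule.span_induction (p := fun x _ => x * (∏ s ∈ (Finset.univ.erase k).erase l,
        fgen K w W (c s)) ∈ Submodule.span (Polynomial K) (Set.range (fstd K w W))) ?_ ?_ ?_ ?_ hr
      · rintro f ⟨α, β, hα, rfl⟩
        rw [← hsplit]
        exact ih α β (lt_of_lt_of_le (size_lt_of_lt (lt_sup_of_incomparable h2)) hα)
      · rw [zero_mul]; exact Submodule.zero_mem _
      · intro x y _ _ hx hy; rw [add_mul]; exact Submodule.add_mem _ hx hy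
      · intro s x _ hx; rw [smul_mul_assoc]; exact Submodule.smul_mem _ s hx

theorem monomial_eq_chainMon {L : Type u} [CommRing L] (e : Idx d n →₀ ℕ) :
    ∃ (m : ℕ) (c : Fin m → Idx d n), monomial e (1 : L) = chainMon L c := by
  induction e using Finsupp.induction_linear with
  | zero => exact ⟨0, Fin.elim0, by simp [chainMon]⟩
  | add f g hf hg =>
    obtain ⟨m₁, c₁, h₁⟩ := hf
    obtain ⟨m₂, c₂, h₂⟩ := hg
    refine ⟨m₁ + m₂, Fin.append c₁ c₂, ?_⟩
    rw [show (monomial (f + g) (1 : L)) = monomial f (1 : L) * monomial g 1 by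
      rw [monomial_mul, one_mul], h₁, h₂, chainMon, chainMon, chainMon, Fin.prod_univ_add]
    simp
  | single a b => exact ⟨b, fun _ => a, by simp [chainMon, X_pow_eq_monomial]⟩

theorem span_fstd (hd : 0 < d) (hW : WeightData W ε) :
    Submodule.span (Polynomial K) (Set.range (fstd K w W)) = ⊤ := by
  rw [eq_top_iff]
  rintro ⟨_, f, rfl⟩ -
  let q : MvPolynomial (Idx d n) (Polynomial K) →ₐ[Polynomial K] family K w W :=
    (aeval (famGen K w W) : MvPolynomial (Idx d n) (Polynomial K) →ₐ[Polynomial K] FamAmb K d n).rangeRestrict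
  show q f ∈ _
  induction f using MvPolynomial.induction_on' with
  | add a b ha hb => rw [map_add]; exact Submodule.add_mem _ ha hb
  | monomial e s =>
    obtain ⟨m, c, hc⟩ := monomial_eq_chainMon (L := Polynomial K) e
    rw [show monomial e s = s • monomial e (1 : Polynomial K) by rw [smul_monomial, smul_eq_mul, mul_one],
      map_smul, hc, chainMon, map_prod]
    have hX : ∀ θ, q (X θ) = fgen K w W θ := fun θ => Subtype.ext (aeval_X _ _)
    simp only [hX]
    exact Submodule.smul_mem _ s (prod_fgen_mem_span hd hW c)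

theorem linearIndependent_fstd (hd : 0 < d) : LinearIndependent (Polynomial K) (fstd K w W) := by
  refine linearIndependent_iff'.2 fun s a h x hx => ?_
  have h' := congrArg (fun z : family K w W => (z : FamAmb K d n)) h
  simp only [AddSubmonoidClass.coe_finsetSum, SetLike.val_smul, coe_fstd, smul_smul, ZeroMemClass.coe_zero] at h'
  have := linearIndependent_iff'.1 (linearIndependent_psi (Polynomial K) hd w) s _ h' x hx
  exact (Polynomial.mul_X_pow_eq_zero this)

/-- The basis of the family given by standard products. -/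
noncomputable def famBasis (hd : 0 < d) (hW : WeightData W ε) :
    Module.Basis (Std w) (Polynomial K) (family K w W) :=
  Module.Basis.mk (linearIndependent_fstd hd) (span_fstd hd hW).ge

theorem free_family (hd : 0 < d) (hW : WeightData W ε) : Module.Free (Polynomial K) (family K w W) :=
  Module.Free.of_basis (famBasis hd hW)

section Fibre

variable (K w W) in
/-- The ideal of the fibre at `c`. -/
noncomputable def fibIdeal (c : K) : Ideal (family K w W) :=
  Ideal.span {algebraMap (Polynomial K) (family K w W) (Polynomial.X - Polynomial.C c)}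

theorem mk_smul_eq (c : K) (p : Polynomial K) (v : family K w W) :
    Ideal.Quotient.mk (fibIdeal K w W c) (p • v) = p.eval c • Ideal.Quotient.mk (fibIdeal K w W c) v := by
  obtain ⟨q, hq⟩ := Polynomial.X_sub_C_dvd_sub_C_eval (a := c) (p := p)
  have h1 : p • v = p.eval c • v + (algebraMap (Polynomial K) (family K w W) (Polynomial.X - Polynomial.C c)) *
      (q • v) := by
    rw [← Algebra.smul_def, smul_smul, ← hq, sub_smul,
      show (Polynomial.C (p.eval c)) • v = p.eval c • v from algebraMap_smul (Polynomial K) _ v]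
    abel
  have h0 : Ideal.Quotient.mk (fibIdeal K w W c)
      (algebraMap (Polynomial K) (family K w W) (Polynomial.X - Polynomial.C c)) = 0 :=
    Ideal.Quotient.eq_zero_iff_mem.2 (Ideal.subset_span (Set.mem_singleton _))
  rw [h1, map_add, map_mul, h0, zero_mul, add_zero]
  exact map_smul (Ideal.Quotient.mkₐ K (fibIdeal K w W c)) (p.eval c) v

theorem span_mk_fstd (hd : 0 < d) (hW : WeightData W ε) (c : K) :
    Submodule.span K (Set.range fun x => Ideal.Quotient.mk (fibIdeal K w W c) (fstd K w W x)) = ⊤ := by
  rw [eq_top_iff]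
  rintro z -
  obtain ⟨r, rfl⟩ := Ideal.Quotient.mk_surjective z
  have hr : r ∈ Submodule.span (Polynomial K) (Set.range (fstd K w W)) := by
    rw [span_fstd hd hW]; trivial
  induction hr using Submodule.span_induction with
  | mem y hy => obtain ⟨x, rfl⟩ := hy; exact Submodule.subset_span ⟨x, rfl⟩
  | zero => rw [map_zero]; exact Submodule.zero_mem _
  | add y z _ _ hy hz => rw [map_add]; exact Submodule.add_mem _ hy hz
  | smul p y _ hy => rw [mk_smul_eq]; exact Submodule.smul_mem _ _ hy

theorem linearIndependent_mk_fstd (hd : 0 < d) (hW : WeightData W ε) (c : K) :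
    LinearIndependent K fun x => Ideal.Quotient.mk (fibIdeal K w W c) (fstd K w W x) := by
  classical
  refine linearIndependent_iff'.2 fun s a h x hx => ?_
  have hmem : (∑ y ∈ s, Polynomial.C (a y) • fstd K w W y) ∈ fibIdeal K w W c := by
    rw [← Ideal.Quotient.eq_zero_iff_mem, map_sum]
    refine Eq.trans ?_ h
    exact Finset.sum_congr rfl fun y _ => by rw [mk_smul_eq, Polynomial.eval_C]
  obtain ⟨r, hr⟩ := Ideal.mem_span_singleton.1 hmem
  rw [← Algebra.smul_def] at hr
  have := congrArg (fun v => ((famBasis hd hW).repr v x).eval c) hr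
  simp only [map_sum, map_smul, Finsupp.smul_apply, Finsupp.finsetSum_apply, smul_eq_mul,
    Polynomial.eval_mul, Polynomial.eval_sub, Polynomial.eval_X, Polynomial.eval_C, sub_self, zero_mul] at this
  rw [Finset.sum_eq_single x] at this
  · have hrep : (famBasis hd hW).repr (fstd K w W x) x = 1 := by
      rw [← show famBasis hd hW x = fstd K w W x from Module.Basis.mk_apply _ _ x, Module.Basis.repr_self,
        Finsupp.single_eq_same]
    simpa [hrep] using this
  · intro y _ hy
    rw [← show famBasis hd hW y = fstd K w W y from Module.Basis.mk_apply _ _ y, Module.Basis.repr_self,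
      Finsupp.single_eq_of_ne hy.symm, mul_zero]
  · exact fun hn => absurd hx hn

end Fibre

end Groth.Agent.PlLib
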