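import Groth.Agent.PlLib.Degen

/-! The fibres of the degenerations. -/

universe u

namespace Groth.Agent.PlLib

open W4bk4grassmannian MvPolynomial

variable {K : Type u} [CommRing K] {d n : ℕ} {w : Idx d n} {W : Idx d n → ℕ} {ε : Bool}

theorem bijective_of_span_of_linearIndependent {D E : Type*} [AddCommGroup D] [Module K D] [AddCommGroup E]
    [Module K E] {ι : Type*} (g : D →ₗ[K] E) (v : ι → D) (hv : Submodule.span K (Set.range v) = ⊤)
    (hli : LinearIndependent K (g ∘ v)) : Function.Injective g := by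
  rw [← LinearMap.ker_eq_bot, eq_bot_iff]
  intro x hx
  have hmem : x ∈ Submodule.span K (Set.range v) := by rw [hv]; trivial
  obtain ⟨l, rfl⟩ := Finsupp.mem_span_range_iff_exists_finsupp.1 hmem
  have h0 : (Finsupp.linearCombination K (g ∘ v)) l = 0 := by
    rw [← LinearMap.mem_ker.1 hx, Finsupp.linearCombination_apply, map_finsuppSum]
    simp
  rw [(linearIndependent_iff.1 hli) l h0]
  simp

variable (ε) in
/-- The ideal of the special fibre. -/
noncomputable def leadIdeal (w : Idx d n) : Ideal (MvPolynomial (Below w) K) :=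
  Ideal.span {f | ∃ a b : Below w, ¬ a ≤ b ∧ ¬ b ≤ a ∧
    f = X a * X b - (if ε then X (Below.sup a b) * X (Below.inf a b) else 0)}

open Classical in
variable (K w ε) in
/-- The variable of an index in the special fibre, zero outside the lattice. -/
noncomputable def xb (θ : Idx d n) : MvPolynomial (Below w) K ⧸ leadIdeal (K := K) ε w :=
  if h : θ ≤ w then Ideal.Quotient.mk _ (X ⟨θ, h⟩) else 0

theorem span_prod_xb : ∀ {m : ℕ} (c : Fin m → Idx d n), (∏ k, xb K w ε (c k)) ∈
    Submodule.span K (Set.range fun x : Std w => ∏ k, xb K w ε (x.2.1 k)) := by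
  intro m c
  induction c using tuple_induction with
  | hchain c π hπ =>
    rw [← Equiv.prod_comp π fun k => xb K w ε (c k)]
    by_cases hle : ∀ k, (c ∘ π) k ≤ w
    · exact Submodule.subset_span ⟨⟨m, c ∘ π, hπ, hle⟩, rfl⟩
    · push Not at hle
      obtain ⟨k, hk⟩ := hle
      rw [Finset.prod_eq_zero (Finset.mem_univ k) (show xb K w ε ((c ∘ π) k) = 0 from dif_neg hk)]
      exact Submodule.zero_mem _
  | hstep c k l hkl h1 h2 h3 ih =>
    have hsplit : ∀ a b, (∏ s, xb K w ε (Function.update (Function.update c k a) l b s)) =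
        xb K w ε a * xb K w ε b * ∏ s ∈ (Finset.univ.erase k).erase l, xb K w ε (c s) := by
      intro a b
      rw [← Finset.mul_prod_erase _ _ (Finset.mem_univ k),
        ← Finset.mul_prod_erase (Finset.univ.erase k) _ (Finset.mem_erase.2 ⟨hkl.symm, Finset.mem_univ l⟩),
        Function.update_of_ne hkl, Function.update_self, Function.update_self, mul_assoc]
      congr 2
      refine Finset.prod_congr rfl fun s hs => ?_
      rw [Function.update_of_ne (Finset.ne_of_mem_erase hs),
        Function.update_of_ne (Finset.ne_of_mem_erase (Finset.mem_of_mem_erase hs))]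
    have hc := hsplit (c k) (c l)
    rw [Function.update_eq_self, Function.update_eq_self] at hc
    rw [hc]
    by_cases hk : c k ≤ w
    swap
    · rw [xb, dif_neg hk, zero_mul, zero_mul]; exact Submodule.zero_mem _
    by_cases hl : c l ≤ w
    swap
    · rw [show xb K w ε (c l) = 0 from dif_neg hl, mul_zero, zero_mul]; exact Submodule.zero_mem _
    have hrel : xb K w ε (c k) * xb K w ε (c l) =
        if ε then xb K w ε (W4bk4grassmannian.sup (c k) (c l)) * xb K w ε (W4bk4grassmannian.inf (c k) (c l))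
        else 0 := by
      have h0 : Ideal.Quotient.mk (leadIdeal (K := K) ε w) (X ⟨c k, hk⟩ * X ⟨c l, hl⟩ -
          (if ε then X (Below.sup ⟨c k, hk⟩ ⟨c l, hl⟩) * X (Below.inf ⟨c k, hk⟩ ⟨c l, hl⟩) else 0)) = 0 :=
        Ideal.Quotient.eq_zero_iff_mem.2 (Ideal.subset_span ⟨⟨c k, hk⟩, ⟨c l, hl⟩, h1, h2, rfl⟩)
      rw [map_sub, sub_eq_zero, map_mul] at h0
      rw [xb, xb, dif_pos hk, dif_pos hl, h0]
      cases ε
      · simp
      · simp only [if_true, map_mul, xb]
        rw [dif_pos (sup_le' hk hl), dif_pos ((inf_le_left' _ _).trans hk)]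
        rfl
    rw [hrel]
    cases ε
    · simp
    · simp only [if_true]
      rw [← hsplit]
      exact ih _ _ (size_lt_of_lt (lt_sup_of_incomparable h2))

variable (K w ε) in
theorem span_std_lead : Submodule.span K (Set.range fun x : Std w => ∏ k, xb K w ε (x.2.1 k)) = ⊤ := by
  rw [eq_top_iff]
  rintro z -
  obtain ⟨f, rfl⟩ := Ideal.Quotient.mk_surjective z
  show (Ideal.Quotient.mkₐ K (leadIdeal (K := K) ε w)) f ∈ _
  induction f using MvPolynomial.induction_on' with
  | add a b ha hb => rw [map_add]; exact Submodule.add_mem _ ha hb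
  | monomial e s =>
    rw [show monomial e s = s • monomial e (1 : K) by rw [smul_monomial, smul_eq_mul, mul_one], map_smul]
    refine Submodule.smul_mem _ s ?_
    obtain ⟨m, c, hc⟩ : ∃ (m : ℕ) (c : Fin m → Below w), monomial e (1 : K) = ∏ k, X (c k) := by
      induction e using Finsupp.induction_linear with
      | zero => exact ⟨0, Fin.elim0, by simp⟩
      | add f g hf hg =>
        obtain ⟨m₁, c₁, h₁⟩ := hf
        obtain ⟨m₂, c₂, h₂⟩ := hg
        refine ⟨m₁ + m₂, Fin.append c₁ c₂, ?_⟩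
        rw [show (monomial (f + g) (1 : K)) = monomial f (1 : K) * monomial g 1 by
          rw [monomial_mul, one_mul], h₁, h₂, Fin.prod_univ_add]
        simp
      | single a b => exact ⟨b, fun _ => a, by simp [X_pow_eq_monomial]⟩
    rw [hc, map_prod]
    have : ∀ k, (Ideal.Quotient.mkₐ K (leadIdeal (K := K) ε w)) (X (c k)) = xb K w ε (c k).1 := fun k => by
      rw [xb, dif_pos (c k).2]; rfl
    simp only [this]
    exact span_prod_xb fun k => (c k).1

theorem fibre_zero (hd : 0 < d) (hW : WeightData W ε) :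
    Nonempty ((family K w W ⧸ Ideal.span {algebraMap (Polynomial K) (family K w W) Polynomial.X}) ≃ₐ[K]
      (MvPolynomial (Below w) K ⧸ leadIdeal (K := K) ε w)) := by
  have hI : fibIdeal K w W 0 = Ideal.span {algebraMap (Polynomial K) (family K w W) Polynomial.X} := by
    rw [fibIdeal, Polynomial.C_0, sub_zero]
  let π : family K w W →ₐ[K] family K w W ⧸ fibIdeal K w W 0 := Ideal.Quotient.mkₐ K _
  let g₀ : MvPolynomial (Below w) K →ₐ[K] family K w W ⧸ fibIdeal K w W 0 :=
    aeval fun θ : Below w => π (fgen K w W θ.1)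
  have hX : π (algebraMap (Polynomial K) (family K w W) Polynomial.X) = 0 := by
    refine Ideal.Quotient.eq_zero_iff_mem.2 ?_
    rw [hI]
    exact Ideal.subset_span rfl
  have hker : ∀ f ∈ leadIdeal (K := K) ε w, g₀ f = 0 := by
    refine fun f hf => (Ideal.span_le (I := RingHom.ker g₀.toRingHom)).2 ?_ hf
    rintro f ⟨a, b, h1, h2, rfl⟩
    show g₀ _ = 0
    obtain ⟨r, -, hrel⟩ := fgen_mul_fgen (K := K) (w := w) hd hW (a := a.1) (b := b.1) h1 h2
    have h3 : π (fgen K w W a.1) * π (fgen K w W b.1) = if ε then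
        π (fgen K w W (W4bk4grassmannian.sup a.1 b.1)) * π (fgen K w W (W4bk4grassmannian.inf a.1 b.1)) else 0 := by
      rw [← map_mul, hrel, map_add, Algebra.smul_def, map_mul π, hX, zero_mul, add_zero]
      cases ε <;> simp
    rw [map_sub, map_mul]
    simp only [g₀, aeval_X, h3]
    cases ε
    · simp
    · simp [Below.sup, Below.inf]
  let g : (MvPolynomial (Below w) K ⧸ leadIdeal (K := K) ε w) →ₐ[K] family K w W ⧸ fibIdeal K w W 0 :=
    Ideal.Quotient.liftₐ _ g₀ hker
  have hgv : ∀ x : Std w, g (∏ k, xb K w ε (x.2.1 k)) = π (fstd K w W x) := by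
    intro x
    rw [map_prod, fstd, map_prod]
    refine Finset.prod_congr rfl fun k _ => ?_
    rw [xb, dif_pos (x.2.2.2 k)]
    exact aeval_X _ _
  have hinj : Function.Injective g := by
    refine bijective_of_span_of_linearIndependent g.toLinearMap _ (span_std_lead K w ε) ?_
    rw [show g.toLinearMap ∘ (fun x : Std w => ∏ k, xb K w ε (x.2.1 k)) = fun x => π (fstd K w W x) from
      funext hgv]
    exact linearIndependent_mk_fstd hd hW 0
  have hsurj : Function.Surjective g := by
    intro z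
    have hz : z ∈ LinearMap.range g.toLinearMap := by
      refine (Submodule.span_le.2 ?_) (show z ∈ Submodule.span K (Set.range fun x =>
        Ideal.Quotient.mk (fibIdeal K w W 0) (fstd K w W x)) by rw [span_mk_fstd hd hW]; trivial)
      rintro _ ⟨x, rfl⟩
      exact ⟨_, hgv x⟩
    exact hz
  exact ⟨(Ideal.quotientEquivAlgOfEq K hI.symm).trans (AlgEquiv.ofBijective g ⟨hinj, hsurj⟩).symm⟩

theorem map_psi (f : Polynomial K →+* K) (θ : Idx d n) :
    MvPolynomial.map f (psi (Polynomial K) w (X θ)) = psi K w (X θ) := by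
  rw [psi, psi, ev_X, ev_X, RingHom.map_det]
  congr 1
  ext s t : 1
  simp only [RingHom.mapMatrix_apply, Matrix.map_apply, Matrix.submatrix_apply, id_eq, stair, Matrix.of_apply]
  split_ifs <;> simp

theorem fibre_unit (hd : 0 < d) (hW : WeightData W ε) {c : K} (hc : IsUnit c) :
    Nonempty ((family K w W ⧸ Ideal.span {algebraMap (Polynomial K) (family K w W) (Polynomial.X - Polynomial.C c)})
      ≃ₐ[K] (PlRing K d n ⧸ plIdeal K w)) := by
  let e : FamAmb K d n →ₐ[K] MatRing K d n :=
    { (MvPolynomial.map (Polynomial.evalRingHom c) : FamAmb K d n →+* MatRing K d n) with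
      commutes' := fun s => by
        show MvPolynomial.map (Polynomial.evalRingHom c) (MvPolynomial.C (Polynomial.C s)) = MvPolynomial.C s
        rw [MvPolynomial.map_C, Polynomial.coe_evalRingHom, Polynomial.eval_C] }
  let g₀ : family K w W →ₐ[K] MatRing K d n :=
    e.comp ((family K w W).val.restrictScalars K)
  have hsmul : ∀ (p : Polynomial K) (z : FamAmb K d n), e (p • z) = p.eval c • e z := by
    intro p z
    rw [MvPolynomial.smul_eq_C_mul, MvPolynomial.smul_eq_C_mul, map_mul]
    congr 1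
    exact MvPolynomial.map_C (Polynomial.evalRingHom c) p
  have hgen : ∀ θ, g₀ (fgen K w W θ) = c ^ W θ • psi K w (X θ) := by
    intro θ
    show e (famGen K w W θ) = _
    rw [famGen, hsmul, Polynomial.eval_pow, Polynomial.eval_X]
    congr 1
    exact map_psi _ θ
  have hker : ∀ f ∈ fibIdeal K w W c, g₀ f = 0 := by
    refine fun f hf => (Ideal.span_le (I := RingHom.ker g₀.toRingHom)).2 ?_ hf
    rintro f rfl
    show e (algebraMap (Polynomial K) (FamAmb K d n) (Polynomial.X - Polynomial.C c)) = 0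
    rw [Algebra.algebraMap_eq_smul_one, hsmul]
    simp
  let g : (family K w W ⧸ fibIdeal K w W c) →ₐ[K] MatRing K d n := Ideal.Quotient.liftₐ _ g₀ hker
  have hgv : ∀ x : Std w, g (Ideal.Quotient.mk _ (fstd K w W x)) =
      c ^ (∑ k, W (x.2.1 k)) • psi K w (chainMon K x.2.1) := by
    intro x
    show g₀ (fstd K w W x) = _
    rw [fstd, map_prod, chainMon, map_prod, ← Finset.prod_pow_eq_pow_sum, ← Finset.prod_smul]
    exact Finset.prod_congr rfl fun k _ => hgen _
  have hinj : Function.Injective g := by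
    refine bijective_of_span_of_linearIndependent g.toLinearMap _ (span_mk_fstd hd hW c) ?_
    rw [show g.toLinearMap ∘ (fun x => Ideal.Quotient.mk (fibIdeal K w W c) (fstd K w W x)) =
      (fun x : Std w => ((hc.unit ^ (∑ k, W (x.2.1 k))) : Kˣ)) • fun x : Std w => psi K w (chainMon K x.2.1) from
        funext fun x => by
          rw [Function.comp_apply, Pi.smul_apply', Units.smul_def, Units.val_pow_eq_pow_val]
          exact hgv x]
    exact (linearIndependent_psi K hd w).units_smul _
  have hrange : g.range = (psi K w).range := by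
    refine le_antisymm ?_ ?_
    · rintro _ ⟨z, rfl⟩
      have hz : z ∈ Submodule.span K (Set.range fun x =>
          Ideal.Quotient.mk (fibIdeal K w W c) (fstd K w W x)) := by rw [span_mk_fstd hd hW]; trivial
      refine (Submodule.span_le (p := (psi K w).range.toSubmodule.comap g.toLinearMap)).2 ?_ hz
      rintro _ ⟨x, rfl⟩
      rw [SetLike.mem_coe, Submodule.mem_comap, Subalgebra.mem_toSubmodule, AlgHom.toLinearMap_apply]
      rw [hgv x]
      exact Subalgebra.smul_mem _ ((AlgHom.mem_range _).2 ⟨_, rfl⟩) _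
    · rintro _ ⟨f, rfl⟩
      have : (psi K w).range ≤ g.range := by
        rw [← Algebra.map_top, ← MvPolynomial.adjoin_range_X, AlgHom.map_adjoin, Algebra.adjoin_le_iff]
        rintro _ ⟨_, ⟨θ, rfl⟩, rfl⟩
        refine ⟨((hc.unit ^ W θ)⁻¹ : Kˣ).1 • Ideal.Quotient.mk _ (fgen K w W θ), ?_⟩
        show g (_ • _) = _
        rw [map_smul]
        show _ • g₀ (fgen K w W θ) = _
        rw [hgen, smul_smul]
        have hu : ((hc.unit ^ W θ)⁻¹ : Kˣ).1 * c ^ W θ = 1 := by
          have h := (hc.unit ^ W θ).inv_mul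
          rwa [Units.val_pow_eq_pow_val, IsUnit.unit_spec] at h
        rw [hu, one_smul]
      exact this ⟨f, rfl⟩
  refine ⟨(AlgEquiv.ofInjective g hinj).trans ((Subalgebra.equivOfEq _ _ hrange).trans ?_)⟩
  exact ((Ideal.quotientEquivAlgOfEq K (ker_psi (K := K) hd w).symm).trans
    (Ideal.quotientKerEquivRange (psi K w))).symm

theorem cnt_le (θ : Idx d n) (v : Fin n) : cnt θ.1 v ≤ d := by
  rw [cnt_eq_card]; exact (Finset.card_le_univ _).trans (le_of_eq (Fintype.card_fin d))

theorem spread_sq {a b s i : ℕ} (h : a + b = s + i) (ha : a ≤ s) (hsi : s ≤ i) :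
    s * s + i * i ≤ a * a + b * b ∧ (a < s → s * s + i * i < a * a + b * b) := by
  obtain ⟨δ, rfl⟩ := Nat.exists_eq_add_of_le ha
  obtain rfl : b = i + δ := by omega
  refine ⟨by nlinarith, fun hlt => ?_⟩
  have : 0 < δ := by omega
  nlinarith

/-- The weight of the degeneration to the Hibi ring. -/
def hibiWt (θ : Idx d n) : ℕ := ∑ v : Fin n, (d * d - cnt θ.1 v * cnt θ.1 v)

/-- The weight of the degeneration to the Stanley–Reisner ring. -/
def srWt (θ : Idx d n) : ℕ := n * d * (n * d) - (∑ v, cnt θ.1 v) * ∑ v, cnt θ.1 v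

theorem weightData_hibi : WeightData (d := d) (n := n) hibiWt true := by
  have key : ∀ θ θ' : Idx d n, hibiWt θ + hibiWt θ' + ∑ v, (cnt θ.1 v * cnt θ.1 v + cnt θ'.1 v * cnt θ'.1 v) =
      ∑ _v : Fin n, (d * d + d * d) := by
    intro θ θ'
    simp only [hibiWt, ← Finset.sum_add_distrib]
    refine Finset.sum_congr rfl fun v _ => ?_
    have := Nat.mul_le_mul (cnt_le θ v) (cnt_le θ v)
    have := Nat.mul_le_mul (cnt_le θ' v) (cnt_le θ' v)
    omega
  have heq : ∀ τ φ : Idx d n,
      hibiWt (W4bk4grassmannian.sup τ φ) + hibiWt (W4bk4grassmannian.inf τ φ) = hibiWt τ + hibiWt φ := by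
    intro τ φ
    have h1 := key τ φ
    have h2 := key (W4bk4grassmannian.sup τ φ) (W4bk4grassmannian.inf τ φ)
    have h3 : ∑ v, (cnt (W4bk4grassmannian.sup τ φ).1 v * cnt (W4bk4grassmannian.sup τ φ).1 v +
        cnt (W4bk4grassmannian.inf τ φ).1 v * cnt (W4bk4grassmannian.inf τ φ).1 v) =
        ∑ v, (cnt τ.1 v * cnt τ.1 v + cnt φ.1 v * cnt φ.1 v) := by
      refine Finset.sum_congr rfl fun v _ => ?_
      rw [cnt_sup, cnt_inf]
      rcases le_total (cnt τ.1 v) (cnt φ.1 v) with h | h
      · rw [min_eq_left h, max_eq_right h]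
      · rw [min_eq_right h, max_eq_left h, add_comm]
    omega
  refine ⟨fun τ φ _ _ => by simp [heq], fun _ => heq, ?_⟩
  intro τ φ α β _ _ hα hcnt
  rw [← heq τ φ]
  have h1 := key α β
  have h2 := key (W4bk4grassmannian.sup τ φ) (W4bk4grassmannian.inf τ φ)
  have hp : ∀ v, cnt α.1 v + cnt β.1 v =
      cnt (W4bk4grassmannian.sup τ φ).1 v + cnt (W4bk4grassmannian.inf τ φ).1 v := fun v => by
    rw [cnt_sup_add_cnt_inf, hcnt]
  have hsi : ∀ v, cnt (W4bk4grassmannian.sup τ φ).1 v ≤ cnt (W4bk4grassmannian.inf τ φ).1 v :=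
    le_iff_cnt.1 ((inf_le_left' τ φ).trans (le_sup_left' τ φ))
  have h3 : ∑ v, (cnt (W4bk4grassmannian.sup τ φ).1 v * cnt (W4bk4grassmannian.sup τ φ).1 v +
        cnt (W4bk4grassmannian.inf τ φ).1 v * cnt (W4bk4grassmannian.inf τ φ).1 v) <
      ∑ v, (cnt α.1 v * cnt α.1 v + cnt β.1 v * cnt β.1 v) := by
    refine Finset.sum_lt_sum (fun v _ => (spread_sq (hp v) (le_iff_cnt.1 hα.le v) (hsi v)).1) ?_
    obtain ⟨v, hv⟩ : ∃ v, cnt α.1 v < cnt (W4bk4grassmannian.sup τ φ).1 v := by
      by_contra! hh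
      exact hα.ne (eq_of_cnt_eq (funext fun v => le_antisymm (hh v) (le_iff_cnt.1 hα.le v)))
    exact ⟨v, Finset.mem_univ v, (spread_sq (hp v) (le_iff_cnt.1 hα.le v) (hsi v)).2 hv⟩
  omega

theorem weightData_sr : WeightData (d := d) (n := n) srWt false := by
  have hS : ∀ θ : Idx d n, (∑ v, cnt θ.1 v) ≤ n * d := fun θ => by
    calc (∑ v, cnt θ.1 v) ≤ ∑ _v : Fin n, d := Finset.sum_le_sum fun v _ => cnt_le θ v
      _ = n * d := by simp
  have key : ∀ {τ φ α β : Idx d n}, (∀ v, cnt α.1 v + cnt β.1 v = cnt τ.1 v + cnt φ.1 v) →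
      ¬ τ ≤ φ → ¬ φ ≤ τ → W4bk4grassmannian.sup τ φ ≤ α → srWt α + srWt β < srWt τ + srWt φ := by
    intro τ φ α β hcnt h₁ h₂ hα
    have hlt : ∀ θ, θ < α → (∑ v, cnt α.1 v) < ∑ v, cnt θ.1 v := by
      intro θ hθ
      refine Finset.sum_lt_sum (fun v _ => le_iff_cnt.1 hθ.le v) ?_
      by_contra! hh
      exact hθ.ne (eq_of_cnt_eq (funext fun v => le_antisymm (hh v (Finset.mem_univ v)) (le_iff_cnt.1 hθ.le v)))
    have hτ := hlt τ ((lt_sup_of_incomparable h₂).trans_le hα)
    have hφ := hlt φ (lt_of_lt_of_le (lt_of_le_of_ne (le_sup_right' τ φ)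
      (fun e => h₁ ((le_sup_left' τ φ).trans e.symm.le))) hα)
    have hsum : (∑ v, cnt α.1 v) + ∑ v, cnt β.1 v = (∑ v, cnt τ.1 v) + ∑ v, cnt φ.1 v := by
      rw [← Finset.sum_add_distrib, ← Finset.sum_add_distrib]
      exact Finset.sum_congr rfl fun v _ => hcnt v
    have hA := Nat.mul_le_mul (hS α) (hS α)
    have hB := Nat.mul_le_mul (hS β) (hS β)
    have hT := Nat.mul_le_mul (hS τ) (hS τ)
    have hF := Nat.mul_le_mul (hS φ) (hS φ)
    unfold srWt
    generalize (∑ v, cnt α.1 v) = a, (∑ v, cnt β.1 v) = b, (∑ v, cnt τ.1 v) = s, (∑ v, cnt φ.1 v) = i at *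
    have : s * s + i * i < a * a + b * b := by
      rcases le_total s i with h | h
      · exact (spread_sq hsum hτ.le h).2 hτ
      · rw [add_comm (s * s)]
        exact (spread_sq (hsum.trans (add_comm _ _)) hφ.le h).2 hφ
    generalize n * d * (n * d) = N at *
    omega
  refine ⟨fun τ φ h₁ h₂ => ?_, fun h => absurd h (by simp), fun τ φ α β h₁ h₂ hα hcnt => key hcnt h₁ h₂ hα.le⟩
  simpa using key (fun v => cnt_sup_add_cnt_inf τ φ v) h₁ h₂ le_rfl

theorem leadIdeal_true : leadIdeal (K := K) true w = hibiIdeal K w := by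
  refine le_antisymm (Ideal.span_mono ?_) (Ideal.span_le.2 ?_)
  · rintro f ⟨a, b, -, -, rfl⟩
    exact ⟨a, b, by simp⟩
  · rintro f ⟨a, b, rfl⟩
    by_cases h₁ : a ≤ b
    · have e1 : Below.sup a b = b := Subtype.ext (Subtype.ext (funext fun t => max_eq_right (h₁ t)))
      have e2 : Below.inf a b = a := Subtype.ext (Subtype.ext (funext fun t => min_eq_left (h₁ t)))
      rw [e1, e2, mul_comm (X b), sub_self]
      exact zero_mem _
    by_cases h₂ : b ≤ a
    · have e1 : Below.sup a b = a := Subtype.ext (Subtype.ext (funext fun t => max_eq_left (h₂ t)))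
      have e2 : Below.inf a b = b := Subtype.ext (Subtype.ext (funext fun t => min_eq_right (h₂ t)))
      rw [e1, e2, sub_self]
      exact zero_mem _
    exact Ideal.subset_span ⟨a, b, h₁, h₂, by simp⟩

theorem leadIdeal_false : leadIdeal (K := K) false w = srIdeal K w := by
  simp [leadIdeal, srIdeal]

end Groth.Agent.PlLib
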