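import Groth.Agent.PlLib.Bitab

/-! The standard bitableau basis of determinantal rings. -/

universe u

namespace Groth.Agent.PlLib

open W4bk4grassmannian MvPolynomial

variable {F : Type u} [Field F] {m n : ℕ}

theorem eval_mem_cellIdeal {w : Idx n (n + m)} {Z : Matrix (Fin m) (Fin n) F}
    (hZ : ∀ θ : Idx n (n + m), ¬ θ ≤ w → ((blockMat Z).submatrix θ.1 id).det = 0)
    {f : MvPolynomial (Fin m × Fin n) F} (hf : f ∈ cellIdeal F w) : eval (fun p => Z p.1 p.2) f = 0 := by
  refine (Ideal.span_le (I := RingHom.ker (eval fun p : Fin m × Fin n => Z p.1 p.2))).2 ?_ hf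
  rintro _ ⟨θ, hθ, rfl⟩
  show eval _ (cellMinor F n m θ) = 0
  rw [← dehom_X, eval_dehom, ev_X]
  exact hZ θ hθ

theorem linearIndependent_bitab [Infinite F] (hn0 : 0 < n) {σ t : ℕ} (hn : σ ≤ n) (hm : σ ≤ m)
    (h : ∀ s, s ≤ m → s ≤ n → (s ≤ σ ↔ s < t)) :
    LinearIndependent F (fun c : Bitab m n t =>
      Ideal.Quotient.mk (CAlgX.minorIdeal (genMatrix F m n) t) (∏ i, minorOf F (c.2.1 i))) := by
  refine linearIndependent_iff'.2 fun s a hsum x hx => ?_
  have hmem : revRows F m n (∑ y ∈ s, a y • ∏ i, minorOf F (y.2.1 i)) ∈ cellIdeal F (cellPhi n m σ hn hm) := by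
    rw [cellIdeal_cellPhi F hn hm h]
    refine revRows_mem_minorIdeal F t ?_
    rw [← Ideal.Quotient.eq_zero_iff_mem, map_sum, ← hsum]
    exact Finset.sum_congr rfl fun y _ => map_smul (Ideal.Quotient.mkₐ F _) (a y) _
  refine coeff_eq_zero_bitab (w := cellPhi n m σ hn hm) hn0 s a
    (fun Z hZ => eval_mem_cellIdeal hZ hmem) x hx fun i => ?_
  rw [le_cellPhi_iff, upperSize_minorTheta]
  have hs := x.2.2.1 i
  refine (h _ (by simpa using Fintype.card_le_of_injective _ (x.2.1 i).2.1.2.injective)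
    (by simpa using Fintype.card_le_of_injective _ (x.2.1 i).2.2.2.injective)).2 ?_
  omega

end Groth.Agent.PlLib
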