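import Groth.Agent.PlLib.Indep
import Mathlib.Algebra.MvPolynomial.Funext
import Mathlib.LinearAlgebra.Finsupp.LinearCombination

/-! Standard monomial theory: the kernel of the staircase parametrisation and the vanishing ideals. -/

universe u

namespace Groth.Agent.PlLib

open W4bk4grassmannian MvPolynomial

variable {K : Type u} [CommRing K] {d n : ℕ}

/-- All standard monomials. -/
abbrev AllStd (d n : ℕ) : Type := Σ m : ℕ, {c : Fin m → Idx d n // Antitone c}

theorem exists_std_decomp (f : PlRing K d n) :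
    ∃ l : AllStd d n →₀ K, f - l.sum (fun x a => a • chainMon K x.2.1) ∈ plIdealTop (d := d) (n := n) K := by
  have h : Ideal.Quotient.mk (plIdealTop (d := d) (n := n) K) f ∈ Submodule.span K
      (Set.range fun c : AllStd d n => Ideal.Quotient.mk (plIdealTop (d := d) (n := n) K) (chainMon K c.2.1)) := by
    rw [span_std_eq_top]; trivial
  obtain ⟨l, hl⟩ := Finsupp.mem_span_range_iff_exists_finsupp.1 h
  refine ⟨l, ?_⟩
  rw [← Ideal.Quotient.eq, ← hl, Finsupp.sum, Finsupp.sum, map_sum]
  exact Finset.sum_congr rfl fun x _ =>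
    (map_smul (Ideal.Quotient.mkₐ K (plIdealTop (d := d) (n := n) K)) (l x) _).symm

theorem chainMon_mem_plIdeal {w : Idx d n} {m : ℕ} {c : Fin m → Idx d n} (h : ¬ ∀ k, c k ≤ w) :
    chainMon K c ∈ plIdeal K w := by
  push Not at h
  obtain ⟨k, hk⟩ := h
  rw [chainMon, ← Finset.mul_prod_erase _ _ (Finset.mem_univ k)]
  exact Ideal.mul_mem_right _ _ (Ideal.subset_span (Or.inr ⟨_, hk, rfl⟩))

theorem plIdealTop_le_plIdeal (w : Idx d n) : plIdealTop (d := d) (n := n) K ≤ plIdeal K w :=
  Ideal.span_mono Set.subset_union_left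

theorem plIdeal_le_ker_psi (w : Idx d n) : plIdeal K w ≤ RingHom.ker (psi K w).toRingHom := by
  rw [plIdeal, Ideal.span_le]
  rintro f (⟨i, j, r, -, rfl⟩ | ⟨φ, hφ, rfl⟩)
  · exact ev_shuffleRel r (stair K w) i j
  · exact psi_X_eq_zero K hφ

theorem mem_plIdeal_of_psi_eq_zero (hd : 0 < d) {w : Idx d n} {f : PlRing K d n} (h : psi K w f = 0) :
    f ∈ plIdeal K w := by
  classical
  obtain ⟨l, hl⟩ := exists_std_decomp f
  have hsum : psi K w (∑ x ∈ l.support, l x • chainMon K x.2.1) = 0 := by
    have h1 : psi K w (f - ∑ x ∈ l.support, l x • chainMon K x.2.1) = 0 := plIdealTop_le_ker_ev (stair K w) hl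
    rwa [map_sub, h, zero_sub, neg_eq_zero] at h1
  have hl' : f - (∑ x ∈ l.support, l x • chainMon K x.2.1) ∈ plIdeal K w := plIdealTop_le_plIdeal w hl
  have : (∑ x ∈ l.support, l x • chainMon K x.2.1) ∈ plIdeal K w := by
    refine Submodule.sum_mem _ fun x hx => ?_
    by_cases hw : ∀ k, x.2.1 k ≤ w
    · rw [coeff_eq_zero_of_psi hd (fun y : AllStd d n => y.2.1) (fun y => y.2.2) ?_ l.support l w hsum x hx hw,
        zero_smul]
      · exact zero_mem _
      · rintro ⟨m, c, hc⟩ ⟨m', c', hc'⟩ he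
        simp only [Sigma.mk.injEq] at he
        obtain ⟨rfl, he⟩ := he
        obtain rfl := eq_of_heq he
        rfl
    · rw [smul_eq_C_mul]
      exact Ideal.mul_mem_left _ _ (chainMon_mem_plIdeal hw)
  simpa using add_mem hl' this

theorem ker_psi (hd : 0 < d) (w : Idx d n) : RingHom.ker (psi K w).toRingHom = plIdeal K w :=
  le_antisymm (fun _ hf => mem_plIdeal_of_psi_eq_zero hd hf) (plIdeal_le_ker_psi w)

theorem plIdeal_le_schubertVanishing (w : Idx d n) : plIdeal K w ≤ schubertVanishing K d n w := by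
  refine le_iInf₂ fun A hA => ?_
  rw [plIdeal, Ideal.span_le]
  rintro f (⟨i, j, r, -, rfl⟩ | ⟨φ, hφ, rfl⟩)
  · exact ev_shuffleRel r A i j
  · exact (ev_X (K := K) A φ).trans (hA φ hφ)

theorem plIdealTop_le_vanishing : plIdealTop (d := d) (n := n) K ≤ vanishing K d n :=
  le_iInf fun A => plIdealTop_le_ker_ev A

section Domain

variable {K : Type u} [CommRing K] [IsDomain K] [Infinite K] {d n : ℕ}

theorem psi_eq_zero_of_mem_schubertVanishing {w : Idx d n} {f : PlRing K d n}
    (h : f ∈ schubertVanishing K d n w) : psi K w f = 0 := by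
  refine MvPolynomial.funext fun x => ?_
  rw [map_zero]
  have hev : ∀ g, eval x (psi K w g) = ev (K := K) ((stair K w).map (aeval x : MatRing K d n →ₐ[K] K)) g :=
    fun g => map_ev_apply (aeval x : MatRing K d n →ₐ[K] K) (stair K w) g
  rw [hev]
  simp only [schubertVanishing, Ideal.mem_iInf] at h
  refine h _ fun φ hφ => ?_
  have := hev (X φ)
  rw [psi_X_eq_zero K hφ, map_zero, ev_X] at this
  exact this.symm

theorem schubertVanishing_eq_plIdeal (hd : 0 < d) (w : Idx d n) :
    schubertVanishing K d n w = plIdeal K w :=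
  le_antisymm (fun _ hf => mem_plIdeal_of_psi_eq_zero hd (psi_eq_zero_of_mem_schubertVanishing hf))
    (plIdeal_le_schubertVanishing w)

theorem schubertVanishing_eq_ker (hd : 0 < d) (w : Idx d n) :
    schubertVanishing K d n w = RingHom.ker (psi K w).toRingHom := by
  rw [schubertVanishing_eq_plIdeal hd, ker_psi hd]

theorem isPrime_schubertVanishing (hd : 0 < d) (w : Idx d n) : (schubertVanishing K d n w).IsPrime := by
  rw [schubertVanishing_eq_ker hd]
  exact RingHom.ker_isPrime _

end Domain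

end Groth.Agent.PlLib
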