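import Groth.Agent.PlLib.FreeRel
import Groth.Agent.PlLib.Smt
import Groth.Agent.PlLib.Shape
import Mathlib.Order.ConditionallyCompleteLattice.Finset

/-! Unions of Schubert divisors are free over a polynomial ring of linear forms. -/

universe u

namespace Groth.Agent.PlLib

open W4bk4grassmannian MvPolynomial

variable (K : Type u) [CommRing K] {d n : ℕ}

/-- The ideal of a union of Schubert varieties. -/
noncomputable def unionIdeal (S : Finset (Idx d n)) : Ideal (PlRing K d n) := ⨅ s, ⨅ (_ : s ∈ S), plIdeal K s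

/-- The sum of the coordinates of given rank. -/
noncomputable def rankForm (d n k : ℕ) : PlRing K d n :=
  ∑ θ ∈ Finset.univ.filter (fun θ : Idx d n => codeg θ = k), X θ

variable {K}

theorem mem_unionIdeal {S : Finset (Idx d n)} {f : PlRing K d n} :
    f ∈ unionIdeal K S ↔ ∀ s ∈ S, f ∈ plIdeal K s := by simp [unionIdeal, Ideal.mem_iInf]

theorem codeg_add (θ : Idx d n) : codeg θ + (∑ t : Fin d, t.val) = size θ.1 := by
  rw [codeg, size, ← Finset.sum_add_distrib]
  exact Finset.sum_congr rfl fun t _ => Nat.sub_add_cancel (val_le_emb θ.2 t)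

theorem codeg_lt_of_lt {θ φ : Idx d n} (h : θ < φ) : codeg θ < codeg φ := by
  have := size_lt_of_lt h
  have := codeg_add θ
  have := codeg_add φ
  omega

theorem codeg_sup_add_inf (a b : Idx d n) :
    codeg (W4bk4grassmannian.sup a b) + codeg (W4bk4grassmannian.inf a b) = codeg a + codeg b := by
  have h : size (W4bk4grassmannian.sup a b).1 + size (W4bk4grassmannian.inf a b).1 = size a.1 + size b.1 := by
    simp only [size, ← Finset.sum_add_distrib]
    refine Finset.sum_congr rfl fun t _ => ?_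
    rcases le_total (a.1 t) (b.1 t) with h | h
    · rw [show (W4bk4grassmannian.sup a b).1 t = b.1 t from max_eq_right h,
        show (W4bk4grassmannian.inf a b).1 t = a.1 t from min_eq_left h, add_comm]
    · rw [show (W4bk4grassmannian.sup a b).1 t = a.1 t from max_eq_left h,
        show (W4bk4grassmannian.inf a b).1 t = b.1 t from min_eq_right h]
  have := codeg_add (W4bk4grassmannian.sup a b)
  have := codeg_add (W4bk4grassmannian.inf a b)
  have := codeg_add a
  have := codeg_add b
  omega

theorem inf_mem_divisors {w a b : Idx d n} (ha : a ∈ divisors w) (hb : b ∈ divisors w) (hab : a ≠ b) :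
    W4bk4grassmannian.inf a b ∈ divisors b := by
  have hba : ¬ b ≤ a := fun h => by
    have := codeg_lt_of_lt (lt_of_le_of_ne h hab.symm)
    have := ha.2
    have := hb.2
    omega
  have hlt : a < W4bk4grassmannian.sup a b :=
    lt_of_le_of_ne (le_sup_left' a b) fun e => hba (e ▸ le_sup_right' a b)
  have hsup : W4bk4grassmannian.sup a b = w := by
    refine (eq_or_lt_of_le (sup_le' ha.1.le hb.1.le)).resolve_right fun h => ?_
    have := codeg_lt_of_lt h
    have := codeg_lt_of_lt hlt
    have := ha.2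
    omega
  have hc := codeg_sup_add_inf a b
  rw [hsup] at hc
  have h1 := ha.2
  refine ⟨lt_of_le_of_ne (inf_le_right' a b) fun e => ?_, by omega⟩
  rw [e] at hc
  omega

theorem isHom_plIdeal (hd : 0 < d) (w : Idx d n) : IsHom (plIdeal K w) := by
  intro f hf k
  rw [← ker_psi (K := K) hd w] at hf ⊢
  replace hf : psi K w f = 0 := hf
  show psi K w (homogeneousComponent k f) = 0
  classical
  have hX : ∀ θ, (psi K w (X θ)).IsHomogeneous d := fun θ => by
    rw [psi, ev_X, Matrix.det_apply]
    refine IsHomogeneous.sum _ _ _ fun σ _ => ?_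
    have hprod : (∏ t, ((stair K w).submatrix θ.1 id) (σ t) t).IsHomogeneous d := by
      have := IsHomogeneous.prod (R := K) Finset.univ (fun t => ((stair K w).submatrix θ.1 id) (σ t) t) (fun _ => 1)
        fun t _ => by
          simp only [Matrix.submatrix_apply, id_eq, stair, Matrix.of_apply]
          split_ifs
          · exact isHomogeneous_X _ _
          · exact isHomogeneous_zero _ _ _
      simpa using this
    rw [Units.smul_def, zsmul_eq_mul, ← map_intCast (C : K →+* MatRing K d n)]
    exact hprod.C_mul _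
  have hj : ∀ j, (psi K w (homogeneousComponent j f)).IsHomogeneous (d * j) := fun j => by
    have := (homogeneousComponent_isHomogeneous j f).aeval (n := d) (fun θ => psi K w (X θ)) hX
    rwa [show (aeval fun θ => psi K w (X θ) : PlRing K d n →ₐ[K] MatRing K d n) = psi K w from
      MvPolynomial.algHom_ext fun θ => aeval_X _ _] at this
  by_cases hk : k ∈ Finset.range (f.totalDegree + 1)
  · have h := congrArg (homogeneousComponent (d * k)) hf
    rw [map_zero, ← sum_homogeneousComponent f, map_sum, map_sum, Finset.sum_eq_single k] at h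
    · rwa [homogeneousComponent_of_mem ((mem_homogeneousSubmodule _ _).2 (hj k)), if_pos rfl] at h
    · intro j _ hjk
      rw [homogeneousComponent_of_mem ((mem_homogeneousSubmodule _ _).2 (hj j)),
        if_neg (fun e => hjk (Nat.eq_of_mul_eq_mul_left hd e).symm)]
    · exact fun h' => absurd hk h'
  · rw [homogeneousComponent_eq_zero k f (by simp only [Finset.mem_range, not_lt] at hk; omega), map_zero]

theorem isHom_unionIdeal (hd : 0 < d) (S : Finset (Idx d n)) : IsHom (unionIdeal K S) :=
  isHom_iInf fun s => isHom_iInf fun _ => isHom_plIdeal hd s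

theorem rankForm_homogeneous (k : ℕ) : (rankForm K d n k).IsHomogeneous 1 :=
  IsHomogeneous.sum _ _ _ fun θ _ => isHomogeneous_X _ θ

theorem rankForm_sub_mem (φ : Idx d n) : rankForm K d n (codeg φ) - X φ ∈ plIdeal K φ := by
  classical
  rw [rankForm, ← Finset.add_sum_erase _ _ (show φ ∈ Finset.univ.filter (fun θ : Idx d n => codeg θ = codeg φ) by simp), add_sub_cancel_left]
  refine Submodule.sum_mem _ fun θ hθ => Ideal.subset_span (Or.inr ⟨θ, fun h => ?_, rfl⟩)
  have := codeg_lt_of_lt (lt_of_le_of_ne h (Finset.ne_of_mem_erase hθ))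
  have := (Finset.mem_filter.1 (Finset.mem_of_mem_erase hθ)).2
  omega

theorem coeff_zero_of_mem (hd : 0 < d) {w : Idx d n} {f : PlRing K d n} {l : AllStd d n →₀ K}
    (hl : f - l.sum (fun x a => a • chainMon K x.2.1) ∈ plIdealTop (d := d) (n := n) K) (hf : f ∈ plIdeal K w)
    {x : AllStd d n} (hx : x ∈ l.support) (hxw : ∀ k, x.2.1 k ≤ w) : l x = 0 := by
  classical
  have h1 : psi K w (f - l.sum (fun x a => a • chainMon K x.2.1)) = 0 := plIdealTop_le_ker_ev (stair K w) hl
  rw [map_sub, show psi K w f = 0 from plIdeal_le_ker_psi w hf, zero_sub, neg_eq_zero] at h1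
  refine coeff_eq_zero_of_psi hd (fun y : AllStd d n => y.2.1) (fun y => y.2.2) ?_ l.support l w h1 x hx hxw
  rintro ⟨m, c, hc⟩ ⟨m', c', hc'⟩ he
  simp only [Sigma.mk.injEq] at he
  obtain ⟨rfl, he⟩ := he
  obtain rfl := eq_of_heq he
  rfl

theorem plIdeal_mono {a b : Idx d n} (h : a ≤ b) : plIdeal K b ≤ plIdeal K a :=
  Ideal.span_mono fun f hf => hf.imp_right fun ⟨φ, hφ, e⟩ => ⟨φ, fun h' => hφ (h'.trans h), e⟩

theorem unionIdeal_sup_plIdeal (hd : 0 < d) (S : Finset (Idx d n)) (φ : Idx d n) :
    unionIdeal K S ⊔ plIdeal K φ = unionIdeal K (S.image fun s => W4bk4grassmannian.inf s φ) := by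
  classical
  refine le_antisymm (sup_le (fun f hf => ?_) fun f hf => ?_) fun f hf => ?_
  · refine mem_unionIdeal.2 fun s hs => ?_
    obtain ⟨s, hs', rfl⟩ := Finset.mem_image.1 hs
    exact plIdeal_mono (inf_le_left' s φ) (mem_unionIdeal.1 hf s hs')
  · refine mem_unionIdeal.2 fun s hs => ?_
    obtain ⟨s, -, rfl⟩ := Finset.mem_image.1 hs
    exact plIdeal_mono (inf_le_right' s φ) hf
  obtain ⟨l, hl⟩ := exists_std_decomp f
  have hl' : f - l.sum (fun x a => a • chainMon K x.2.1) ∈ unionIdeal K S ⊔ plIdeal K φ :=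
    Ideal.mem_sup_right (plIdealTop_le_plIdeal φ hl)
  suffices h : l.sum (fun x a => a • chainMon K x.2.1) ∈ unionIdeal K S ⊔ plIdeal K φ by
    simpa using add_mem hl' h
  refine Submodule.sum_mem _ fun x hx => ?_
  dsimp only
  by_cases hφ : ∀ k, x.2.1 k ≤ φ
  · by_cases hs : ∃ s ∈ S, ∀ k, x.2.1 k ≤ s
    · obtain ⟨s, hs, hxs⟩ := hs
      rw [coeff_zero_of_mem hd hl (mem_unionIdeal.1 hf _ (Finset.mem_image_of_mem _ hs)) hx
        fun k t => le_min (hxs k t) (hφ k t), zero_smul]
      exact zero_mem _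
    · exact Ideal.mem_sup_left (Submodule.smul_of_tower_mem _ _
        (mem_unionIdeal.2 fun s hs' => chainMon_mem_plIdeal fun h => hs ⟨s, hs', h⟩))
  · exact Ideal.mem_sup_right (Submodule.smul_of_tower_mem _ _ (chainMon_mem_plIdeal hφ))

theorem unionIdeal_divisors (hd : 0 < d) {φ : Idx d n} (D : Finset (Idx d n)) (hD : ∀ s, s ∈ D ↔ s ∈ divisors φ)
    (hne : D.Nonempty) (hcover : ∀ θ, θ < φ → ∃ s ∈ D, θ ≤ s) :
    unionIdeal K D = plIdeal K φ ⊔ Ideal.span {X φ} := by
  classical
  refine le_antisymm (fun f hf => ?_) (sup_le (fun f hf => mem_unionIdeal.2 fun s hs => ?_) ?_)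
  · obtain ⟨l, hl⟩ := exists_std_decomp f
    have hl' : f - l.sum (fun x a => a • chainMon K x.2.1) ∈ plIdeal K φ ⊔ Ideal.span {X φ} :=
      Ideal.mem_sup_left (plIdealTop_le_plIdeal φ hl)
    suffices h : l.sum (fun x a => a • chainMon K x.2.1) ∈ plIdeal K φ ⊔ Ideal.span {X φ} by
      simpa using add_mem hl' h
    refine Submodule.sum_mem _ fun x hx => ?_
    dsimp only
    by_cases hw : ∀ k, x.2.1 k ≤ φ
    swap
    · exact Ideal.mem_sup_left (Submodule.smul_of_tower_mem _ _ (chainMon_mem_plIdeal hw))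
    by_cases htop : ∃ k, x.2.1 k = φ
    · obtain ⟨k, hk⟩ := htop
      refine Ideal.mem_sup_right (Submodule.smul_of_tower_mem _ _ ?_)
      rw [chainMon, ← Finset.mul_prod_erase _ _ (Finset.mem_univ k), hk]
      exact Ideal.mul_mem_right _ _ (Ideal.subset_span rfl)
    push Not at htop
    obtain ⟨s, hs, hxs⟩ : ∃ s ∈ D, ∀ k, x.2.1 k ≤ s := by
      obtain ⟨_ | m, c, hc⟩ := x
      · exact ⟨hne.choose, hne.choose_spec, fun k => k.elim0⟩
      · obtain ⟨s, hs, h⟩ := hcover _ (lt_of_le_of_ne (hw 0) (htop 0))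
        exact ⟨s, hs, fun k => (hc (Fin.zero_le k)).trans h⟩
    rw [coeff_zero_of_mem hd hl (mem_unionIdeal.1 hf s hs) hx hxs, zero_smul]
    exact zero_mem _
  · exact plIdeal_mono ((hD s).1 hs).1.le hf
  · rw [Ideal.span_singleton_le_iff_mem, mem_unionIdeal]
    exact fun s hs => Ideal.subset_span (Or.inr ⟨φ, not_le_of_gt ((hD s).1 hs).1, rfl⟩)

end Groth.Agent.PlLib
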