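import Groth.Agent.PlLib.Dim
import Groth.Agent.PlLib.FreeUnion
import Groth.Agent.PlLib.Basic
import Mathlib.RingTheory.IntegralClosure.IntegrallyClosed
import Mathlib.RingTheory.Polynomial.UniqueFactorization
import Mathlib.RingTheory.Polynomial.RationalRoot

/-! Schubert varieties are projectively normal. -/

universe u v

namespace Groth.Agent.PlLib

open W4bk4grassmannian MvPolynomial

/-- In an integrally closed domain, a fraction satisfying a monic relation is integral. -/
theorem dvd_of_monic_relation {A : Type u} [CommRing A] [IsDomain A] [IsIntegrallyClosed A] {a b : A} (hb : b ≠ 0)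
    {m : ℕ} (c : Fin m → A) (h : a ^ m + ∑ i : Fin m, c i * a ^ i.val * b ^ (m - i.val) = 0) : b ∣ a := by
  let F := FractionRing A
  have hbF : algebraMap A F b ≠ 0 := fun h0 => hb (IsFractionRing.injective A F (h0.trans (map_zero _).symm))
  set z : F := algebraMap A F a / algebraMap A F b with hz
  let p : Polynomial A := Polynomial.X ^ m + ∑ i : Fin m, Polynomial.C (c i) * Polynomial.X ^ i.val
  have hdeg : (∑ i : Fin m, Polynomial.C (c i) * Polynomial.X ^ i.val).degree < (m : WithBot ℕ) :=
    Polynomial.degree_sum_fin_lt c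
  have hint : IsIntegral A z := by
    refine ⟨p, Polynomial.monic_X_pow_add hdeg, ?_⟩
    have h' := congrArg (algebraMap A F) h
    simp only [map_add, map_sum, map_mul, map_pow, map_zero] at h'
    refine mul_left_cancel₀ (pow_ne_zero m hbF) ?_
    rw [mul_zero, ← h']
    simp only [p, Polynomial.eval₂_add, Polynomial.eval₂_finsetSum, Polynomial.eval₂_mul, Polynomial.eval₂_C,
      Polynomial.eval₂_X_pow, mul_add]
    congr 1
    · rw [hz, div_pow, mul_div_cancel₀ _ (pow_ne_zero m hbF)]
    · rw [Finset.mul_sum]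
      refine Finset.sum_congr rfl fun i _ => ?_
      have hm : algebraMap A F b ^ m = algebraMap A F b ^ (m - i.val) * algebraMap A F b ^ i.val := by
        rw [← pow_add, Nat.sub_add_cancel i.isLt.le]
      rw [hm, hz, div_pow, mul_assoc, mul_left_comm (algebraMap A F b ^ i.val) (algebraMap A F (c i)),
        mul_div_cancel₀ _ (pow_ne_zero _ hbF)]
      ring
  obtain ⟨y, hy⟩ := IsIntegrallyClosed.algebraMap_eq_of_integral hint
  refine ⟨y, IsFractionRing.injective A F ?_⟩
  rw [map_mul, hy, hz, mul_div_cancel₀ _ hbF]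

/-- The converse criterion. -/
theorem isIntegrallyClosed_of_dvd {A : Type u} [CommRing A] [IsDomain A]
    (h : ∀ (a b : A) (m : ℕ) (c : Fin m → A), b ≠ 0 →
      a ^ m + ∑ i : Fin m, c i * a ^ i.val * b ^ (m - i.val) = 0 → b ∣ a) : IsIntegrallyClosed A := by
  refine (isIntegrallyClosed_iff (FractionRing A)).2 fun {z} hz => ?_
  obtain ⟨a, b, hb, rfl⟩ := IsFractionRing.div_surjective A z
  obtain ⟨p, hp, hpz⟩ := hz
  have hb0 : b ≠ 0 := nonZeroDivisors.ne_zero hb
  have hbF : algebraMap A (FractionRing A) b ≠ 0 := fun h0 =>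
    hb0 (IsFractionRing.injective A (FractionRing A) (h0.trans (map_zero _).symm))
  obtain ⟨y, hy⟩ := h a b p.natDegree (fun i => p.coeff i.val) hb0 (IsFractionRing.injective A (FractionRing A) (by
    rw [map_zero]
    rw [Polynomial.eval₂_eq_sum_range, Finset.sum_range_succ, hp.coeff_natDegree, map_one, one_mul,
      Finset.sum_range] at hpz
    have h2 := congrArg (fun x => algebraMap A (FractionRing A) b ^ p.natDegree * x) hpz
    simp only [mul_zero, mul_add, Finset.mul_sum, div_pow] at h2
    rw [← h2, map_add, map_sum, add_comm, map_pow, mul_div_cancel₀ _ (pow_ne_zero _ hbF)]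
    congr 1
    refine Finset.sum_congr rfl fun i _ => ?_
    have hm : algebraMap A (FractionRing A) b ^ p.natDegree =
        algebraMap A (FractionRing A) b ^ (p.natDegree - i.val) * algebraMap A (FractionRing A) b ^ i.val := by
      rw [← pow_add, Nat.sub_add_cancel i.isLt.le]
    rw [hm, map_mul, map_mul, map_pow, map_pow]
    field_simp))
  exact ⟨y, by rw [hy, map_mul, mul_div_cancel_left₀ _ hbF]⟩

theorem step_identity {A : Type u} [CommRing A] (T c g B T' a b : A) (i : ℕ) (h : T' * a = b * g) :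
    B * b ^ i * (T * c * g ^ i) = T * T' ^ i * (c * a ^ i * B) := by
  have h' : b ^ i * g ^ i = T' ^ i * a ^ i := by rw [← mul_pow, ← mul_pow, h]
  calc B * b ^ i * (T * c * g ^ i) = B * T * c * (b ^ i * g ^ i) := by ring
    _ = T * T' ^ i * (c * a ^ i * B) := by rw [h']; ring

/-- A domain with a radical principal ideal `(t)` such that it becomes an integrally closed ring after
inverting `t` is integrally closed. -/
theorem isIntegrallyClosed_of_radical {A : Type u} {P : Type v} [CommRing A] [IsDomain A] [CommRing P] [IsDomain P]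
    [IsIntegrallyClosed P] (σ : A →+* P) (hσ : Function.Injective σ) (t : A) (ht : t ≠ 0)
    (hloc : ∀ p : P, ∃ k, σ t ^ k * p ∈ σ.range) (hrad : (Ideal.span {t}).IsRadical) :
    IsIntegrallyClosed A := by
  refine isIntegrallyClosed_of_dvd fun a b m c hb hrel => ?_
  have hrel' := congrArg σ hrel
  simp only [map_add, map_sum, map_mul, map_pow, map_zero] at hrel'
  obtain ⟨q, hq⟩ := dvd_of_monic_relation (fun h => hb (hσ (h.trans (map_zero σ).symm))) (fun i => σ (c i)) hrel'
  obtain ⟨k, g, hg⟩ := hloc q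
  have hkey : ∀ k g, t ^ k * a = b * g → b ∣ a := by
    intro k
    induction k with
    | zero => exact fun g h => ⟨g, by simpa using h⟩
    | succ k ih =>
      intro g h
      rcases Nat.eq_zero_or_pos m with rfl | hm
      · simp at hrel
      have hg' : g ^ m + ∑ i : Fin m, t ^ ((k + 1) * (m - i.val)) * c i * g ^ i.val = 0 := by
        refine mul_left_cancel₀ (pow_ne_zero m hb) ?_
        rw [mul_zero, ← mul_zero (t ^ ((k + 1) * m)), ← hrel, mul_add, mul_add, Finset.mul_sum, Finset.mul_sum]
        congr 1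
        · rw [← mul_pow, ← h, mul_pow, pow_mul]
        · refine Finset.sum_congr rfl fun i _ => ?_
          have h1 : b ^ m = b ^ (m - i.val) * b ^ i.val := by rw [← pow_add, Nat.sub_add_cancel i.isLt.le]
          have h2 : t ^ ((k + 1) * m) = t ^ ((k + 1) * (m - i.val)) * (t ^ (k + 1)) ^ i.val := by
            rw [← pow_mul, ← pow_add, ← Nat.mul_add, Nat.sub_add_cancel i.isLt.le]
          rw [h1, h2]
          exact step_identity _ (c i) g _ (t ^ (k + 1)) a b i.val h
      have hsum : (∑ i : Fin m, t ^ ((k + 1) * (m - i.val)) * c i * g ^ i.val) ∈ Ideal.span {t} :=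
        Submodule.sum_mem _ fun i _ => by
          obtain ⟨e, he⟩ : ∃ e, (k + 1) * (m - i.val) = e + 1 :=
            ⟨(k + 1) * (m - i.val) - 1,
              (Nat.sub_add_cancel (Nat.mul_pos (Nat.succ_pos k) (Nat.sub_pos_of_lt i.isLt))).symm⟩
          rw [he, pow_succ]
          exact Ideal.mul_mem_right _ _ (Ideal.mul_mem_right _ _ (Ideal.mul_mem_left _ _ (Ideal.subset_span rfl)))
      have hgm : g ^ m ∈ Ideal.span {t} := by rw [eq_neg_of_add_eq_zero_left hg']; exact neg_mem hsum
      obtain ⟨g₁, rfl⟩ := Ideal.mem_span_singleton.1 (hrad ⟨m, hgm⟩)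
      exact ih g₁ (mul_left_cancel₀ ht (by rw [← mul_assoc, ← pow_succ', h]; ring))
  refine hkey k g (hσ ?_)
  rw [map_mul, map_mul, map_pow, hg, hq]
  ring

variable {K : Type u} [Field K] [Infinite K] {d n : ℕ}

theorem ev_cellParam_eq_zero_iff (hd : 0 < d) (w : Idx d n) {f : PlRing K d n} :
    ev (K := K) (cellParam K hd w) f = 0 ↔ f ∈ plIdeal K w := by
  classical
  refine ⟨fun h => mem_plIdeal_of_psi_eq_zero hd (psi_eq_zero_of_ev_cellParam hd w h), fun h => ?_⟩
  have hpsi : psi K w f = 0 := plIdeal_le_ker_psi w h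
  have := congrArg (aeval (fun p => cellParam K hd w p.1 p.2) :
    MatRing K d n →ₐ[K] MvPolynomial (Option (CellVar w)) K) hpsi
  rw [map_zero, psi, map_ev_apply] at this
  rw [← this]
  congr 2
  ext i t : 1
  simp only [Matrix.map_apply, stair, Matrix.of_apply]
  split_ifs with h'
  · simp
  · rw [map_zero]
    simp only [cellParam, Matrix.of_apply]
    rw [if_neg (fun e => h' e.ge), dif_neg (fun e => h' e.1), zero_mul]

theorem exists_pow_mul_eq_ev (hd : 0 < d) (w : Idx d n) (p : MvPolynomial (Option (CellVar w)) K) :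
    ∃ k f, ev (K := K) (cellParam K hd w) f = X none ^ k * p := by
  induction p using MvPolynomial.induction_on with
  | C a => exact ⟨0, C a, by simp [← MvPolynomial.algebraMap_eq]⟩
  | add p q hp hq =>
    obtain ⟨k, f, hf⟩ := hp
    obtain ⟨l, g, hg⟩ := hq
    refine ⟨k + l, X w ^ l * f + X w ^ k * g, ?_⟩
    rw [map_add, map_mul, map_mul, map_pow, map_pow, ev_X, det_cellParam_self, hf, hg]
    ring
  | mul_X p i hp =>
    obtain ⟨k, f, hf⟩ := hp
    cases i with
    | none => exact ⟨k, f * X w, by rw [map_mul, ev_X, det_cellParam_self, hf]; ring⟩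
    | some i =>
      refine ⟨k + 1, f * coord K d n (Function.update w.1 i.1.2 i.1.1), ?_⟩
      rw [map_mul, ev_coord, det_cellParam_update, hf]
      ring

theorem isRadical_sup_span_X (hd : 0 < d) (hdn : d ≤ n) (w : Idx d n) :
    (plIdeal K w ⊔ Ideal.span {X w}).IsRadical := by
  classical
  by_cases hlt : botIdx hdn < w
  · let D : Finset (Idx d n) := Finset.univ.filter fun s => s ∈ divisors w
    obtain ⟨s, hs, -⟩ := exists_divisor_ge hlt
    rw [← unionIdeal_divisors hd D (fun s => by simp [D]) ⟨s, by simp [D, hs]⟩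
      fun θ hθ => by obtain ⟨s, hs, h⟩ := exists_divisor_ge hθ; exact ⟨s, by simp [D, hs], h⟩]
    intro f hf
    obtain ⟨m, hm⟩ := hf
    refine mem_unionIdeal.2 fun s hs => ?_
    have hp : (plIdeal K s).IsPrime := ker_psi (K := K) hd s ▸ RingHom.ker_isPrime _
    exact hp.mem_of_pow_mem m (mem_unionIdeal.1 hm s hs)
  · have hw : w = botIdx hdn := ((eq_or_lt_of_le (a := botIdx hdn) (b := w)
      fun t => Fin.le_def.2 (val_le_emb w.2 t)).resolve_right hlt).symm
    have hall : ∀ θ, (X θ : PlRing K d n) ∈ plIdeal K w ⊔ Ideal.span {X w} := fun θ => by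
      by_cases h : θ ≤ w
      · rcases eq_or_lt_of_le h with rfl | h'
        · exact Ideal.mem_sup_right (Ideal.subset_span rfl)
        · exact absurd (lt_of_le_of_lt (fun t => Fin.le_def.2 (val_le_emb θ.2 t)) (hw ▸ h')) (lt_irrefl (botIdx hdn))
      · exact Ideal.mem_sup_left (Ideal.subset_span (Or.inr ⟨θ, h, rfl⟩))
    have hker : ∀ f : PlRing K d n, f - C (constantCoeff f) ∈ plIdeal K w ⊔ Ideal.span {X w} := fun f => by
      induction f using MvPolynomial.induction_on with
      | C a => simp
      | add p q hp hq => rw [map_add, map_add, add_sub_add_comm]; exact add_mem hp hq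
      | mul_X p i hp => simpa using Ideal.mul_mem_left _ p (hall i)
    intro f hf
    obtain ⟨m, hm⟩ := hf
    have h0 : ∀ g ∈ plIdeal K w ⊔ Ideal.span {X w}, constantCoeff g = 0 := by
      intro g hg
      obtain ⟨j, hj, z, hz, rfl⟩ := Submodule.mem_sup.1 hg
      obtain ⟨y, rfl⟩ := Ideal.mem_span_singleton'.1 hz
      have h1 : psi K w j = 0 := plIdeal_le_ker_psi w hj
      have h2 : ∀ g : PlRing K d n, constantCoeff (psi K w g) = constantCoeff g := fun g => by
        induction g using MvPolynomial.induction_on with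
        | C a => rw [← MvPolynomial.algebraMap_eq, AlgHom.commutes, MvPolynomial.algebraMap_eq,
            MvPolynomial.algebraMap_eq, constantCoeff_C, constantCoeff_C]
        | add p q hp hq => simp [hp, hq]
        | mul_X p i hp => simp [constantCoeff_psi_X hd]
      rw [map_add, ← h2 j, h1]
      simp
    have h3 := h0 _ hm
    rw [map_pow] at h3
    have h4 := hker f
    rwa [eq_zero_of_pow_eq_zero h3, map_zero, sub_zero] at h4

theorem isIntegrallyClosed_quot_plIdeal (hd : 0 < d) (hdn : d ≤ n) (w : Idx d n) :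
    IsDomain (PlRing K d n ⧸ plIdeal K w) ∧ IsIntegrallyClosed (PlRing K d n ⧸ plIdeal K w) := by
  haveI hp : (plIdeal K w).IsPrime := ker_psi (K := K) hd w ▸ RingHom.ker_isPrime _
  haveI : IsDomain (PlRing K d n ⧸ plIdeal K w) := Ideal.Quotient.isDomain _
  refine ⟨inferInstance, ?_⟩
  let σ := Ideal.Quotient.lift (plIdeal K w) (ev (K := K) (cellParam K hd w)).toRingHom
    fun f hf => (ev_cellParam_eq_zero_iff hd w).2 hf
  have ht : σ (Ideal.Quotient.mk _ (X w)) = X none := (ev_X _ w).trans (det_cellParam_self hd w)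
  refine isIntegrallyClosed_of_radical σ ?_ (Ideal.Quotient.mk _ (X w)) ?_ (fun p => ?_) ?_
  · rw [injective_iff_map_eq_zero]
    intro x hx
    obtain ⟨f, rfl⟩ := Ideal.Quotient.mk_surjective x
    exact Ideal.Quotient.eq_zero_iff_mem.2 ((ev_cellParam_eq_zero_iff hd w).1 hx)
  · intro h0
    rw [h0, map_zero] at ht
    exact X_ne_zero _ ht.symm
  · obtain ⟨k, f, hf⟩ := exists_pow_mul_eq_ev hd w p
    exact ⟨k, Ideal.Quotient.mk _ f, by rw [ht]; exact hf⟩
  · intro x hx
    obtain ⟨m, hm⟩ := hx
    obtain ⟨f, rfl⟩ := Ideal.Quotient.mk_surjective x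
    obtain ⟨g, hg⟩ := Ideal.mem_span_singleton'.1 hm
    obtain ⟨g, rfl⟩ := Ideal.Quotient.mk_surjective g
    rw [← map_mul, ← map_pow, Ideal.Quotient.eq] at hg
    have hfm : f ^ m ∈ plIdeal K w ⊔ Ideal.span {X w} := by
      have := sub_mem (Ideal.mem_sup_right (S := plIdeal K w)
        (Ideal.mul_mem_left _ g (Ideal.subset_span (Set.mem_singleton (X w : PlRing K d n)))))
        (Ideal.mem_sup_left hg)
      rwa [sub_sub_cancel] at this
    obtain ⟨j, hj, z, hz, hjz⟩ := Submodule.mem_sup.1 (isRadical_sup_span_X hd hdn w ⟨m, hfm⟩)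
    rw [← hjz, map_add, Ideal.Quotient.eq_zero_iff_mem.2 hj, zero_add]
    obtain ⟨y, rfl⟩ := Ideal.mem_span_singleton'.1 hz
    rw [map_mul]
    exact Ideal.mul_mem_left _ _ (Ideal.subset_span rfl)

end Groth.Agent.PlLib
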