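import Groth.Agent.PlLib.CM
import Groth.Agent.PlLib.Normal
import Groth.Agent.PlLib.DetBasis
import Groth.Agent.VarDim.Basic

/-! Determinantal rings are normal Cohen–Macaulay domains of the expected dimension. -/

universe u

namespace Groth.Agent.PlLib

open W4bk4grassmannian MvPolynomial

variable {K : Type u} [Field K] [Infinite K] {d r : ℕ}

theorem aeval_scale_of_homog {σ : Type*} {L : Type*} [CommRing L] [Algebra K L] {F : MvPolynomial σ K} {D : ℕ}
    (hF : F.IsHomogeneous D) (c : L) (g : σ → L) : aeval (fun i => c * g i) F = c ^ D * aeval g F := by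
  classical
  rw [F.as_sum, map_sum, map_sum, Finset.mul_sum]
  refine Finset.sum_congr rfl fun e he => ?_
  have hdeg : e.degree = D := by
    rw [Finsupp.degree_eq_weight_one]; exact hF (mem_support_iff.1 he)
  rw [aeval_monomial, aeval_monomial, Finsupp.prod, Finsupp.prod, ← hdeg, Finsupp.degree_apply,
    ← Finset.prod_pow_eq_pow_sum, mul_left_comm, ← Finset.prod_mul_distrib]
  congr 1
  exact Finset.prod_congr rfl fun i _ => mul_pow _ _ _

theorem mem_plIdeal_of_dehom_mem (hd : 0 < d) {w : Idx d (d + r)} {F : PlRing K d (d + r)} {D : ℕ}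
    (hF : F.IsHomogeneous D) (h : dehom K d r F ∈ cellIdeal K w) : F ∈ plIdeal K w := by
  refine mem_plIdeal_of_psi_eq_zero hd ?_
  have h1 : psi K w (X (cbot d r) * F) = 0 := by
    refine MvPolynomial.funext fun z => ?_
    rw [map_zero]
    let A : Matrix (Fin (d + r)) (Fin d) K := (stair K w).map (aeval z : MatRing K d (d + r) →ₐ[K] K)
    have hev : ∀ g, eval z (psi K w g) = ev (K := K) A g :=
      fun g => map_ev_apply (aeval z : MatRing K d (d + r) →ₐ[K] K) (stair K w) g
    rw [hev, map_mul, ev_X]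
    set Q := A.submatrix (cbot d r).1 id with hQ
    by_cases h0 : Q.det = 0
    · rw [h0, zero_mul]
    set B := A * Q⁻¹ with hB
    have hAB : A = B * Q := by
      rw [hB, Matrix.mul_assoc, Matrix.nonsing_inv_mul Q (Ne.isUnit h0), Matrix.mul_one]
    have hblock : B = blockMat (Matrix.of fun i j => B (Fin.natAdd d i) j) := by
      ext i j
      refine Fin.addCases (fun k => ?_) (fun k => ?_) i
      · rw [blockMat_castAdd, ← Matrix.mul_nonsing_inv Q (Ne.isUnit h0)]
        rfl
      · rw [blockMat_natAdd]; rfl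
    have hcond : ∀ θ : Idx d (d + r), ¬ θ ≤ w →
        ((blockMat (Matrix.of fun i j => B (Fin.natAdd d i) j)).submatrix θ.1 id).det = 0 := by
      intro θ hθ
      rw [← hblock]
      have h2 : (A.submatrix θ.1 id).det = 0 := by
        have := hev (X θ)
        rw [psi_X_eq_zero K hθ, map_zero, ev_X] at this
        exact this.symm
      rw [hAB, show (B * Q).submatrix θ.1 id = B.submatrix θ.1 id * Q from rfl, Matrix.det_mul] at h2
      exact (mul_eq_zero.1 h2).resolve_right h0
    have key : ev (K := K) B F = 0 := by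
      rw [hblock]
      exact (eval_dehom (fun p => B (Fin.natAdd d p.1) p.2)).symm.trans
        (eval_mem_cellIdeal (Z := Matrix.of fun i j => B (Fin.natAdd d i) j) hcond h)
    refine mul_eq_zero_of_right _ ?_
    rw [hAB, ev, show (fun θ : Idx d (d + r) => ((B * Q).submatrix θ.1 id).det) =
      fun θ => Q.det * (B.submatrix θ.1 id).det from funext fun θ => by
        rw [show (B * Q).submatrix θ.1 id = B.submatrix θ.1 id * Q from rfl, Matrix.det_mul, mul_comm],
      aeval_scale_of_homog hF]
    exact mul_eq_zero_of_right _ key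
  rw [map_mul, mul_eq_zero] at h1
  refine h1.resolve_left fun h2 => ?_
  have h3 := congrArg (mask K (cbot d r)) h2
  rw [map_zero, mask_psi K (cbot_le w), psi_X_self] at h3
  exact Finset.prod_ne_zero_iff.2 (fun t _ => X_ne_zero _) h3

theorem dehom_mem_cellIdeal {w : Idx d (d + r)} {f : PlRing K d (d + r)} (hf : f ∈ plIdeal K w) :
    dehom K d r f ∈ cellIdeal K w := by
  refine (Ideal.span_le (I := (cellIdeal K w).comap (dehom K d r).toRingHom)).2 ?_ hf
  rintro f (⟨i, j, s, -, rfl⟩ | ⟨φ, hφ, rfl⟩)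
  · show dehom K d r _ ∈ cellIdeal K w
    rw [dehom, ev_shuffleRel]
    exact zero_mem _
  · show dehom K d r _ ∈ cellIdeal K w
    rw [dehom_X]
    exact Ideal.subset_span ⟨φ, hφ, rfl⟩

theorem exists_homogenization (f : PlRing K d (d + r)) {D : ℕ} (hD : f.totalDegree ≤ D) :
    ∃ F : PlRing K d (d + r), F.IsHomogeneous D ∧ dehom K d r F = dehom K d r f ∧
      F - f ∈ Ideal.span {X (cbot d r) - 1} := by
  refine ⟨∑ k ∈ Finset.range (f.totalDegree + 1), homogeneousComponent k f * X (cbot d r) ^ (D - k), ?_, ?_, ?_⟩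
  · refine IsHomogeneous.sum _ _ _ fun k hk => ?_
    have hk' : k ≤ D := by have := Finset.mem_range.1 hk; omega
    have := (homogeneousComponent_isHomogeneous k f).mul ((isHomogeneous_X K (cbot d r)).pow (D - k))
    rwa [one_mul, Nat.add_sub_cancel' hk'] at this
  · conv_rhs => rw [← sum_homogeneousComponent f]
    simp only [map_sum, map_mul, map_pow, dehom_cbot, one_pow, mul_one]
  · conv => arg 2; arg 2; rw [← sum_homogeneousComponent f]
    rw [← Finset.sum_sub_distrib]
    refine Submodule.sum_mem _ fun k _ => ?_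
    rw [← mul_sub_one]
    exact Ideal.mul_mem_left _ _ (Ideal.mem_span_singleton.2 (sub_one_dvd_pow_sub_one _ _))

theorem mem_of_dehom_mem (hd : 0 < d) {w : Idx d (d + r)} {f : PlRing K d (d + r)}
    (h : dehom K d r f ∈ cellIdeal K w) : f ∈ plIdeal K w ⊔ Ideal.span {X (cbot d r) - 1} := by
  obtain ⟨F, hF, hFf, hsub⟩ := exists_homogenization f le_rfl
  have h1 := mem_plIdeal_of_dehom_mem hd hF (hFf ▸ h)
  have h2 := sub_mem (Ideal.mem_sup_left h1) (Ideal.mem_sup_right (S := plIdeal K w) hsub)
  rwa [sub_sub_cancel] at h2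

theorem isPrime_cellIdeal (hd : 0 < d) (w : Idx d (d + r)) : (cellIdeal K w).IsPrime := by
  have hp : (plIdeal K w).IsPrime := ker_psi (K := K) hd w ▸ RingHom.ker_isPrime _
  refine Ideal.isPrime_iff.2 ⟨fun htop => hp.ne_top ((Ideal.eq_top_iff_one _).2
    (mem_plIdeal_of_dehom_mem hd (isHomogeneous_one _ _) (htop ▸ Submodule.mem_top))), fun {a b} hab => ?_⟩
  obtain ⟨f, rfl⟩ := dehom_surjective a
  obtain ⟨g, rfl⟩ := dehom_surjective b
  obtain ⟨F, hF, hFf, -⟩ := exists_homogenization f le_rfl
  obtain ⟨G, hG, hGg, -⟩ := exists_homogenization g le_rfl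
  rw [← hFf, ← hGg, ← map_mul] at hab
  rcases hp.mem_or_mem (mem_plIdeal_of_dehom_mem hd (hF.mul hG) hab) with h | h
  · exact Or.inl (hFf ▸ dehom_mem_cellIdeal h)
  · exact Or.inr (hGg ▸ dehom_mem_cellIdeal h)

theorem isIntegrallyClosed_quot_cellIdeal (hd : 0 < d) (w : Idx d (d + r)) :
    IsIntegrallyClosed (CellRing K d r ⧸ cellIdeal K w) := by
  classical
  haveI := isPrime_cellIdeal (K := K) hd w
  haveI : IsDomain (CellRing K d r ⧸ cellIdeal K w) := Ideal.Quotient.isDomain _
  obtain ⟨hAd, hAi⟩ := isIntegrallyClosed_quot_plIdeal (K := K) hd (Nat.le_add_right d r) w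
  haveI := hAd
  haveI := hAi
  refine isIntegrallyClosed_of_dvd fun a b m c hb hrel => ?_
  obtain ⟨a, rfl⟩ := Ideal.Quotient.mk_surjective a
  obtain ⟨a, rfl⟩ := dehom_surjective a
  obtain ⟨b, rfl⟩ := Ideal.Quotient.mk_surjective b
  obtain ⟨b, rfl⟩ := dehom_surjective b
  choose c' hc' using fun i => Ideal.Quotient.mk_surjective (c i)
  choose c'' hc'' using fun i => dehom_surjective (c' i)
  obtain ⟨A', hA', hAa, -⟩ := exists_homogenization a (le_max_left a.totalDegree b.totalDegree)
  obtain ⟨B', hB', hBb, -⟩ := exists_homogenization b (le_max_right a.totalDegree b.totalDegree)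
  set D := max a.totalDegree b.totalDegree
  set e := Finset.univ.sup fun i : Fin m => (c'' i).totalDegree with he
  choose C hC hCc _ using fun i => exists_homogenization (c'' i)
    (show (c'' i).totalDegree ≤ e * (m - i.val) from
      (Finset.le_sup (f := fun i : Fin m => (c'' i).totalDegree) (Finset.mem_univ i)).trans
        (Nat.le_mul_of_pos_right e (Nat.sub_pos_of_lt i.isLt)))
  let U := X (cbot d r) ^ e * A'
  have hU : U.IsHomogeneous (e + D) := by simpa using ((isHomogeneous_X K (cbot d r)).pow e).mul hA'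
  let G := U ^ m + ∑ i : Fin m, C i * U ^ i.val * B' ^ (m - i.val)
  have hG : G.IsHomogeneous ((e + D) * m) := by
    refine (hU.pow m).add (IsHomogeneous.sum _ _ _ fun i _ => ?_)
    have h := ((hC i).mul (hU.pow i.val)).mul (hB'.pow (m - i.val))
    have harith : e * (m - i.val) + (e + D) * i.val + D * (m - i.val) = (e + D) * m := by
      calc e * (m - i.val) + (e + D) * i.val + D * (m - i.val)
          = (e + D) * ((m - i.val) + i.val) := by ring
        _ = (e + D) * m := by rw [Nat.sub_add_cancel i.isLt.le]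
    rwa [harith] at h
  have hdG : dehom K d r G ∈ cellIdeal K w := by
    rw [← Ideal.Quotient.eq_zero_iff_mem, ← hrel]
    simp [G, U, map_sum, dehom_cbot, hAa, hBb, hCc, hc'', hc']
  have hGJ := mem_plIdeal_of_dehom_mem hd hG hdG
  have hbne : Ideal.Quotient.mk (plIdeal K w) B' ≠ 0 := fun h0 => hb (by
    rw [← hBb]
    exact Ideal.Quotient.eq_zero_iff_mem.2 (dehom_mem_cellIdeal (Ideal.Quotient.eq_zero_iff_mem.1 h0)))
  obtain ⟨g, hg⟩ := dvd_of_monic_relation (a := Ideal.Quotient.mk (plIdeal K w) U) hbne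
    (fun i => Ideal.Quotient.mk (plIdeal K w) (C i)) (by
      rw [← Ideal.Quotient.eq_zero_iff_mem.2 hGJ]; simp [G, map_sum])
  obtain ⟨g, rfl⟩ := Ideal.Quotient.mk_surjective g
  refine ⟨Ideal.Quotient.mk _ (dehom K d r g), ?_⟩
  rw [← map_mul, Ideal.Quotient.eq] at hg
  rw [← map_mul, Ideal.Quotient.eq]
  have := dehom_mem_cellIdeal hg
  simpa [U, dehom_cbot, hAa, hBb] using this

theorem rankForm_zero_eq : rankForm K d (d + r) 0 = X (cbot d r) := by
  have hc : codeg (cbot d r) = 0 := by simp [codeg, cbot]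
  rw [rankForm, show (Finset.univ.filter fun θ : Idx d (d + r) => codeg θ = 0) = {cbot d r} by
    ext θ
    simp only [Finset.mem_filter, Finset.mem_univ, true_and, Finset.mem_singleton]
    refine ⟨fun h => ((eq_or_lt_of_le (cbot_le θ)).resolve_right fun hlt => ?_).symm, fun h => h ▸ hc⟩
    have := codeg_lt_of_lt hlt
    omega, Finset.sum_singleton]

/-- The cell ring of a Schubert variety is finite free over a polynomial ring in `codeg` variables. -/
theorem cm_and_dim_cell (hd : 0 < d) (w : Idx d (d + r)) :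
    LocCoh.IsCohenMacaulayRing (CellRing K d r ⧸ cellIdeal K w) ∧
      ringKrullDim (CellRing K d r ⧸ cellIdeal K w) = ((codeg w : ℕ) : WithBot ℕ∞) := by
  classical
  obtain ⟨κ, _, b, eb, hb⟩ : FreeRel (codeg w + 1) (rankForm K d (d + r)) ⊤ (plIdeal K w) := by
    have h := freeRel_schubert (K := K) hd (Nat.le_add_right d r) (codeg w) w rfl ∅
      fun s hs => absurd hs (Finset.notMem_empty s)
    rwa [unionIdeal_empty] at h
  set c := codeg w
  let θ := rankForm K d (d + r)
  let τ : MvPolynomial (Fin c) K →ₐ[K] CellRing K d r ⧸ cellIdeal K w :=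
    (Ideal.Quotient.mkₐ K _).comp ((dehom K d r).comp ((lsub (c + 1) θ).comp (rename Fin.succ)))
  let ρ : MvPolynomial (Fin (c + 1)) K →ₐ[K] MvPolynomial (Fin c) K :=
    aeval (Fin.cases (1 : MvPolynomial (Fin c) K) X)
  have hρ : ∀ p, Ideal.Quotient.mk (cellIdeal K w) (dehom K d r (lsub (c + 1) θ p)) = τ (ρ p) := by
    intro p
    refine AlgHom.congr_fun (φ₁ := (Ideal.Quotient.mkₐ K (cellIdeal K w)).comp ((dehom K d r).comp (lsub (c + 1) θ)))
      (φ₂ := τ.comp ρ) (MvPolynomial.algHom_ext fun i => ?_) p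
    induction i using Fin.cases with
    | zero => simp [τ, ρ, lsub, θ, rankForm_zero_eq, dehom_cbot]
    | succ i => simp [τ, ρ, lsub]
  letI : Algebra (MvPolynomial (Fin c) K) (CellRing K d r ⧸ cellIdeal K w) := τ.toRingHom.toAlgebra
  let v : κ → CellRing K d r ⧸ cellIdeal K w := fun i => Ideal.Quotient.mk _ (dehom K d r (b i))
  have hsum : ∀ p : κ → MvPolynomial (Fin (c + 1)) K, Ideal.Quotient.mk (cellIdeal K w)
      (dehom K d r (∑ i, lsub (c + 1) θ (p i) * b i)) = ∑ i, ρ (p i) • v i := fun p => by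
    simp only [map_sum, map_mul, hρ, Algebra.smul_def]
    rfl
  have hli : LinearIndependent (MvPolynomial (Fin c) K) v := by
    refine Fintype.linearIndependent_iff.2 fun q hq => ?_
    set f := ∑ i, lsub (c + 1) θ (rename Fin.succ (q i)) * b i
    have hρq : ∀ i, ρ (rename Fin.succ (q i)) = q i := fun i => by
      simp only [ρ, aeval_rename]
      rw [show ((Fin.cases (1 : MvPolynomial (Fin c) K) X : Fin (c + 1) → _) ∘ Fin.succ) =
        (X : Fin c → MvPolynomial (Fin c) K) from funext fun j => by simp]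
      exact aeval_X_left_apply _
    have hf : dehom K d r f ∈ cellIdeal K w := by
      rw [← Ideal.Quotient.eq_zero_iff_mem, hsum]
      simpa [hρq] using hq
    obtain ⟨j, hj, z, hz, hjz⟩ := Submodule.mem_sup.1 (mem_of_dehom_mem hd hf)
    obtain ⟨y, rfl⟩ := Ideal.mem_span_singleton'.1 hz
    obtain ⟨s, hs⟩ := hb.spans y trivial
    have h0 := hb.indep (fun i => rename Fin.succ (q i) - (X 0 - 1) * s i) (by
      have hlin : ∀ i, lsub (c + 1) θ (rename Fin.succ (q i) - (X 0 - 1) * s i) * b i =
          lsub (c + 1) θ (rename Fin.succ (q i)) * b i - (X (cbot d r) - 1) * (lsub (c + 1) θ (s i) * b i) := fun i => by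
        rw [map_sub, map_mul, map_sub, map_one,
          show lsub (c + 1) θ (X 0) = X (cbot d r) from (aeval_X _ _).trans rankForm_zero_eq]
        ring
      rw [Finset.sum_congr rfl fun i _ => hlin i, Finset.sum_sub_distrib, ← Finset.mul_sum]
      show f - _ ∈ _
      rw [← hjz, show j + y * (X (cbot d r) - 1) - (X (cbot d r) - 1) * ∑ i, lsub (c + 1) θ (s i) * b i =
        j + (X (cbot d r) - 1) * (y - ∑ i, lsub (c + 1) θ (s i) * b i) by ring]
      exact add_mem hj (Ideal.mul_mem_left _ _ hs))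
    intro i
    have := congrArg ρ (h0 i)
    rw [map_sub, map_mul, hρq, map_zero, map_sub, map_one,
      show ρ (X 0) = 1 from (aeval_X _ _).trans rfl, sub_self, zero_mul, sub_zero] at this
    exact this
  have hsp : ⊤ ≤ Submodule.span (MvPolynomial (Fin c) K) (Set.range v) := by
    rintro x -
    obtain ⟨x, rfl⟩ := Ideal.Quotient.mk_surjective x
    obtain ⟨f, rfl⟩ := dehom_surjective x
    obtain ⟨p, hp⟩ := hb.spans f trivial
    have h1 := dehom_mem_cellIdeal hp
    rw [map_sub] at h1
    rw [Ideal.Quotient.eq.2 h1, hsum]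
    exact Submodule.sum_mem _ fun i _ => Submodule.smul_mem _ _ (Submodule.subset_span ⟨i, rfl⟩)
  let bas := Module.Basis.mk hli hsp
  haveI : Module.Finite (MvPolynomial (Fin c) K) (CellRing K d r ⧸ cellIdeal K w) := Module.Finite.of_basis bas
  haveI : Module.Free (MvPolynomial (Fin c) K) (CellRing K d r ⧸ cellIdeal K w) := Module.Free.of_basis bas
  haveI := isPrime_cellIdeal (K := K) hd w
  haveI := isCM_mvPolynomial K c
  refine ⟨isCM_of_finite_flat (MvPolynomial (Fin c) K) _, ?_⟩
  haveI : Algebra.IsIntegral (MvPolynomial (Fin c) K) (CellRing K d r ⧸ cellIdeal K w) :=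
    Algebra.IsIntegral.of_finite _ _
  haveI : FaithfulSMul (MvPolynomial (Fin c) K) (CellRing K d r ⧸ cellIdeal K w) := by
    refine (faithfulSMul_iff_algebraMap_injective _ _).2 ((injective_iff_map_eq_zero _).2 fun p hp => ?_)
    obtain ⟨i⟩ : Nonempty κ := bas.index_nonempty
    have h1 : bas.repr (p • bas i) i = p := by simp
    rw [Algebra.smul_def, hp, zero_mul, map_zero] at h1
    exact h1.symm
  rw [VarDim.ringKrullDim_eq_of_isIntegral (R := MvPolynomial (Fin c) K) (S := CellRing K d r ⧸ cellIdeal K w),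
    MvPolynomial.ringKrullDim_of_isNoetherianRing, ringKrullDim_eq_zero_of_field, zero_add, Nat.card_fin]

theorem codeg_cellPhi {σ : ℕ} (hd : σ ≤ d) (hr : σ ≤ r) : codeg (cellPhi d r σ hd hr) = σ * (d + r - σ) := by
  have h1 : ∀ k : Fin d, ((cellPhi d r σ hd hr).1 k).val - k.val = if k.val < d - σ then σ else r := fun k => by
    simp only [cellPhi]
    split_ifs <;> simp only <;> omega
  rw [codeg, Finset.sum_congr rfl fun k _ => h1 k]
  rw [Fin.sum_univ_eq_sum_range (fun k => if k < d - σ then σ else r) d, ← Nat.sub_add_cancel hd, Finset.sum_range_add,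
    Nat.add_sub_cancel]
  rw [Finset.sum_congr rfl (g := fun _ => σ) fun k hk => if_pos (Finset.mem_range.1 hk),
    Finset.sum_congr rfl (g := fun _ => r) fun k _ => if_neg (by omega),
    Finset.sum_const, Finset.sum_const, Finset.card_range, Finset.card_range, smul_eq_mul, smul_eq_mul,
    show d - σ + σ + r - σ = (d - σ) + r by omega]
  ring

end Groth.Agent.PlLib
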