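import Groth.Agent.PlLib.Smt
import Groth.Agent.PlLib.FftSL
import Groth.Agent.VarDim.Basic

/-! The dimension of the cone over a Schubert variety. -/

universe u

namespace Groth.Agent.PlLib

open W4bk4grassmannian MvPolynomial

variable {d n : ℕ}

/-- The free coordinates of the big cell of a Schubert variety. -/
abbrev CellVar (w : Idx d n) : Type := {p : Fin n × Fin d // p.1 ≤ w.1 p.2 ∧ ∀ s, w.1 s ≠ p.1}

theorem card_cellVar (w : Idx d n) : Fintype.card (CellVar w) = codeg w := by
  classical
  rw [Fintype.card_subtype, Finset.card_filter, Fintype.sum_prod_type, Finset.sum_comm]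
  refine Finset.sum_congr rfl fun t _ => ?_
  rw [← Finset.card_filter]
  have h : (Finset.univ.filter fun i : Fin n => i ≤ w.1 t ∧ ∀ s, w.1 s ≠ i) =
      Finset.Iic (w.1 t) \ (Finset.Iic t).image w.1 := by
    ext i
    simp only [Finset.mem_filter, Finset.mem_univ, true_and, Finset.mem_sdiff, Finset.mem_Iic, Finset.mem_image,
      not_exists, not_and]
    exact ⟨fun h => ⟨h.1, fun s _ => h.2 s⟩, fun h => ⟨h.1, fun s hs =>
      h.2 s (w.2.le_iff_le.1 (hs ▸ h.1)) hs⟩⟩
  rw [h, Finset.card_sdiff_of_subset, Fin.card_Iic, Finset.card_image_of_injective _ w.2.injective, Fin.card_Iic]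
  · omega
  · intro x hx
    obtain ⟨s, hs, rfl⟩ := Finset.mem_image.1 hx
    exact Finset.mem_Iic.2 (w.2.monotone (Finset.mem_Iic.1 hs))

variable (K : Type u) [Field K] [Infinite K]

/-- The normalised staircase matrix, scaled in the first column. -/
noncomputable def cellParam (hd : 0 < d) (w : Idx d n) :
    Matrix (Fin n) (Fin d) (MvPolynomial (Option (CellVar w)) K) :=
  Matrix.of fun i t =>
    (if w.1 t = i then 1 else if h : i ≤ w.1 t ∧ ∀ s, w.1 s ≠ i then X (some ⟨(i, t), h⟩) else 0) *
      if t = ⟨0, hd⟩ then X none else 1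

variable {K}

theorem det_cellParam_self (hd : 0 < d) (w : Idx d n) :
    ((cellParam K hd w).submatrix w.1 id).det = X none := by
  classical
  rw [show (cellParam K hd w).submatrix w.1 id =
    Matrix.diagonal fun t => if t = ⟨0, hd⟩ then (X none : MvPolynomial (Option (CellVar w)) K) else 1 from
      Matrix.ext fun s t => by
        simp only [Matrix.submatrix_apply, id_eq, cellParam, Matrix.of_apply]
        by_cases hst : s = t
        · subst hst; simp
        · rw [if_neg (fun h => hst (w.2.injective h).symm), dif_neg (fun h => h.2 s rfl), zero_mul,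
            Matrix.diagonal_apply_ne _ hst],
    Matrix.det_diagonal, Finset.prod_ite_eq' Finset.univ, if_pos (Finset.mem_univ _)]

theorem det_cellParam_update (hd : 0 < d) (w : Idx d n) (p : CellVar w) :
    ((cellParam K hd w).submatrix (Function.update w.1 p.1.2 p.1.1) id).det = X none * X (some p) := by
  classical
  obtain ⟨⟨i, t₀⟩, h1, h2⟩ := p
  let D : Matrix (Fin d) (Fin d) (MvPolynomial (Option (CellVar w)) K) :=
    Matrix.diagonal fun t => if t = ⟨0, hd⟩ then X none else 1
  let B : Matrix (Fin n) (Fin d) (MvPolynomial (Option (CellVar w)) K) :=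
    Matrix.of fun i t => if w.1 t = i then 1 else if h : i ≤ w.1 t ∧ ∀ s, w.1 s ≠ i then X (some ⟨(i, t), h⟩) else 0
  have hfac : (cellParam K hd w).submatrix (Function.update w.1 t₀ i) id =
      B.submatrix (Function.update w.1 t₀ i) id * D := by
    refine Matrix.ext fun s t => ?_
    rw [Matrix.mul_diagonal]
    rfl
  rw [hfac, Matrix.det_mul, show D.det = X none by
    rw [Matrix.det_diagonal, Finset.prod_ite_eq' Finset.univ, if_pos (Finset.mem_univ _)], mul_comm]
  congr 1
  have hrows : B.submatrix (Function.update w.1 t₀ i) id = Matrix.updateRow 1 t₀ (B i) := by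
    ext s t : 1
    by_cases hs : s = t₀
    · subst hs; simp
    · rw [Matrix.updateRow_ne hs, Matrix.submatrix_apply, Function.update_of_ne hs, id_eq]
      simp only [B, Matrix.of_apply]
      by_cases hst : s = t
      · subst hst; simp
      · rw [if_neg (fun h => hst (w.2.injective h).symm), dif_neg (fun h => h.2 s rfl), Matrix.one_apply_ne hst]
  rw [hrows]
  have h3 := Matrix.cramer_transpose_apply (1 : Matrix (Fin d) (Fin d) (MvPolynomial (Option (CellVar w)) K)) (B i) t₀
  rw [← h3]
  simp [B, h1, h2]

theorem psi_eq_zero_of_ev_cellParam (hd : 0 < d) (w : Idx d n) {f : PlRing K d n}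
    (hf : ev (K := K) (cellParam K hd w) f = 0) : psi K w f = 0 := by
  classical
  set P := MvPolynomial (Option (CellVar w)) K
  have h1 : psi K w (X w) * psi K w f = 0 := by
    refine MvPolynomial.funext fun z => ?_
    rw [map_mul, map_zero]
    let A : Matrix (Fin n) (Fin d) K := (stair K w).map (aeval z : MatRing K d n →ₐ[K] K)
    have hev : ∀ g, eval z (psi K w g) = ev (K := K) A g :=
      fun g => map_ev_apply (aeval z : MatRing K d n →ₐ[K] K) (stair K w) g
    rw [hev, hev, ev_X]
    set Q := A.submatrix w.1 id with hQ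
    by_cases h0 : Q.det = 0
    · rw [h0, zero_mul]
    refine mul_eq_zero_of_right _ ?_
    set B := A * Q⁻¹ with hB
    have hAup : ∀ i t, ¬ i ≤ w.1 t → A i t = 0 := fun i t h => by
      simp [A, stair, h]
    have hQtri : ∀ s t, t < s → Q s t = 0 := fun s t hst => hAup _ _ (not_le.2 (w.2 hst))
    let z' : Option (CellVar w) → K := fun o => o.elim Q.det fun p => B p.1.1 p.1.2
    have hBeq : ∀ i t, B i t =
        if w.1 t = i then 1 else if h : i ≤ w.1 t ∧ ∀ s, w.1 s ≠ i then B i t else 0 := by
      intro i t
      have hrow : ∀ s t, B (w.1 s) t = (1 : Matrix (Fin d) (Fin d) K) s t := fun s t => by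
        rw [← Matrix.mul_nonsing_inv Q (Ne.isUnit h0)]; rfl
      by_cases hs : ∃ s, w.1 s = i
      · obtain ⟨s, rfl⟩ := hs
        rw [hrow]
        by_cases hst : s = t
        · subst hst; simp
        · rw [if_neg (fun h => hst (w.2.injective h).symm), dif_neg (fun h => h.2 s rfl), Matrix.one_apply_ne hst]
      · push Not at hs
        rw [if_neg (fun e => hs t e)]
        by_cases hle : i ≤ w.1 t
        · rw [dif_pos ⟨hle, hs⟩]
        · rw [dif_neg fun e => hle e.1]
          have hd0 : (A.submatrix w.1 id).det ≠ 0 := h0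
          have := mul_inv_apply A w.1 hd0 i t
          rw [← hQ, ← hB] at this
          refine (mul_eq_zero.1 (this.trans ?_)).resolve_right h0
          rw [Matrix.det_apply]
          refine Finset.sum_eq_zero fun σ _ => ?_
          have hex : ∃ x, x ≤ t ∧ t ≤ σ x := by
            by_contra! hh
            have := Finset.card_le_card_of_injOn σ (s := Finset.Iic t) (t := Finset.Iio t)
              (fun x hx => Finset.mem_coe.2 (Finset.mem_Iio.2 (hh x (Finset.mem_Iic.1 (Finset.mem_coe.1 hx)))))
              σ.injective.injOn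
            simp [Fin.card_Iic, Fin.card_Iio] at this
          obtain ⟨x, hx1, hx2⟩ := hex
          rw [Finset.prod_eq_zero (Finset.mem_univ x), smul_zero]
          simp only [Matrix.submatrix_apply, id_eq]
          rcases eq_or_lt_of_le hx2 with he | hlt
          · rw [← he, Function.update_self]
            exact hAup _ _ fun hh => hle (hh.trans (w.2.monotone hx1))
          · rw [Function.update_of_ne hlt.ne']
            exact hAup _ _ (not_le.2 (w.2 (lt_of_le_of_lt hx1 hlt)))
    have hpt : ∀ g, eval z' (ev (K := K) (cellParam K hd w) g) =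
        ev (K := K) (B * Matrix.diagonal fun t => if t = ⟨0, hd⟩ then Q.det else 1) g := by
      intro g
      show (aeval z' : P →ₐ[K] K) _ = _
      rw [map_ev_apply]
      congr 2
      ext i t : 1
      rw [Matrix.mul_diagonal, hBeq i t]
      simp only [Matrix.map_apply, cellParam, Matrix.of_apply, map_mul]
      congr 1
      · split_ifs <;> simp [z', aeval_eq_eval]
      · split_ifs <;> simp [z', aeval_eq_eval]
    have hAB : A = B * Q := by
      rw [hB, Matrix.mul_assoc, Matrix.nonsing_inv_mul Q (Ne.isUnit h0), Matrix.mul_one]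
    have hminor : ev (K := K) A f =
        ev (K := K) (B * Matrix.diagonal fun t => if t = ⟨0, hd⟩ then Q.det else 1) f := by
      refine AlgHom.congr_fun (MvPolynomial.algHom_ext fun θ => ?_) f
      have hA : A.submatrix θ.1 id = B.submatrix θ.1 id * Q := by rw [hAB]; rfl
      rw [ev_X, ev_X, hA, show (B * Matrix.diagonal fun t : Fin d => if t = ⟨0, hd⟩ then Q.det else 1).submatrix θ.1 id =
          B.submatrix θ.1 id * Matrix.diagonal (fun t : Fin d => if t = ⟨0, hd⟩ then Q.det else 1) from rfl,
        Matrix.det_mul, Matrix.det_mul, Matrix.det_diagonal, Finset.prod_ite_eq' Finset.univ,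
        if_pos (Finset.mem_univ _)]
    rw [hminor, ← hpt, hf, map_zero]
  refine (mul_eq_zero.1 h1).resolve_left ?_
  rw [psi_X_self]
  exact Finset.prod_ne_zero_iff.2 fun t _ => X_ne_zero _

theorem trdeg_range_psi (hd : 0 < d) (w : Idx d n) :
    Algebra.trdeg K (psi K w).range = (codeg w + 1 : ℕ) := by
  classical
  set P := MvPolynomial (Option (CellVar w)) K
  let σ : MatRing K d n →ₐ[K] P := aeval fun p => cellParam K hd w p.1 p.2
  have hzero : ∀ i t, ¬ i ≤ w.1 t → cellParam K hd w i t = 0 := fun i t h => by
    simp only [cellParam, Matrix.of_apply]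
    rw [if_neg (fun e => h e.ge), dif_neg (fun e => h e.1), zero_mul]
  have hσ : ∀ f, σ (psi K w f) = ev (K := K) (cellParam K hd w) f := by
    intro f
    rw [psi, map_ev_apply]
    congr 2
    ext i t : 1
    simp only [Matrix.map_apply, stair, Matrix.of_apply]
    split_ifs with h
    · simp [σ]
    · rw [hzero i t h, map_zero]
  have hinj : Function.Injective (σ.comp (psi K w).range.val) := by
    rw [injective_iff_map_eq_zero]
    rintro ⟨_, f, rfl⟩ hf
    replace hf : ev (K := K) (cellParam K hd w) f = 0 := (hσ f).symm.trans hf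
    refine Subtype.ext ?_
    show psi K w f = 0
    exact psi_eq_zero_of_ev_cellParam hd w hf
  -- conversely the polynomial ring embeds in the range
  let gens : Option (CellVar w) → (psi K w).range := fun o => o.elim ⟨_, X w, rfl⟩
    fun p => ⟨_, coord K d n (Function.update w.1 p.1.2 p.1.1), rfl⟩
  let τ : P →ₐ[K] (psi K w).range := aeval gens
  have hτ : Function.Injective τ := by
    rw [injective_iff_map_eq_zero]
    intro g hg
    have h2 := congrArg (σ.comp (psi K w).range.val) hg
    rw [map_zero, ← AlgHom.comp_apply, comp_aeval] at h2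
    have hgen : ∀ o, (σ.comp (psi K w).range.val) (gens o) =
        o.elim (X none) fun p => X none * X (some p) := by
      rintro (_ | p)
      · exact ((hσ _).trans (ev_X _ _)).trans (det_cellParam_self hd w)
      · exact ((hσ _).trans (ev_coord _ _)).trans (det_cellParam_update hd w p)
    simp only [hgen] at h2
    refine mul_left_cancel₀ (X_ne_zero none : (X none : P) ≠ 0) ?_
    rw [mul_zero]
    refine MvPolynomial.funext fun z => ?_
    rw [map_mul, eval_X, map_zero]
    by_cases hz : z none = 0
    · rw [hz, zero_mul]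
    refine mul_eq_zero_of_right _ ?_
    have h3 := congrArg (aeval (fun o : Option (CellVar w) => o.elim (z none) fun p => z (some p) / z none) :
      P →ₐ[K] K) h2
    rw [map_zero, ← AlgHom.comp_apply, comp_aeval, aeval_eq_eval] at h3
    rw [← h3]
    congr 2
    funext o
    rcases o with _ | p
    · simp
    · simp only [Option.elim_some, map_mul, aeval_X, Option.elim_none]
      field_simp
  have hP : Algebra.trdeg K P = (codeg w + 1 : ℕ) := by
    rw [MvPolynomial.trdeg_of_isDomain, Cardinal.mk_fintype, Fintype.card_option, card_cellVar]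
    simp
  rw [← hP]
  exact le_antisymm (trdeg_le_of_injective _ hinj) (trdeg_le_of_injective τ hτ)

theorem ringKrullDim_plIdeal (hd : 0 < d) (w : Idx d n) :
    ringKrullDim (PlRing K d n ⧸ plIdeal K w) = ((codeg w + 1 : ℕ) : WithBot ℕ∞) := by
  haveI : (plIdeal K w).IsPrime := ker_psi (K := K) hd w ▸ RingHom.ker_isPrime _
  obtain ⟨m, hm, ht⟩ := Groth.Agent.VarDim.exists_dim_eq_trdeg K (PlRing K d n ⧸ plIdeal K w)
  let e : (PlRing K d n ⧸ plIdeal K w) ≃ₐ[K] (psi K w).range :=
    (Ideal.quotientEquivAlgOfEq K (ker_psi (K := K) hd w).symm).trans (Ideal.quotientKerEquivRange (psi K w))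
  rw [e.trdeg_eq, trdeg_range_psi hd w, Nat.cast_inj] at ht
  rw [hm, ht]

end Groth.Agent.PlLib
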