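import Mathlib.RingTheory.MvPolynomial.Homogeneous
import Mathlib.RingTheory.Ideal.Quotient.Operations
import Mathlib.Algebra.MvPolynomial.NoZeroDivisors
import Mathlib.LinearAlgebra.Basis.Basic
import Mathlib.RingTheory.Finiteness.Basic
import Mathlib.LinearAlgebra.FreeModule.Basic
import Mathlib.RingTheory.Finiteness.Defs

/-! Quotients of homogeneous ideals which are free over a polynomial ring of linear forms. -/

universe u v

namespace Groth.Agent.PlLib

open MvPolynomial

variable {K : Type u} [CommRing K] {σ : Type v}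

/-- An ideal closed under taking homogeneous components. -/
def IsHom (I : Ideal (MvPolynomial σ K)) : Prop := ∀ f ∈ I, ∀ k, homogeneousComponent k f ∈ I

theorem comp_mul_of_homog {f : MvPolynomial σ K} {e : ℕ} (hf : f.IsHomogeneous e) (y : MvPolynomial σ K) (D : ℕ) :
    homogeneousComponent D (f * y) = if e ≤ D then f * homogeneousComponent (D - e) y else 0 := by
  classical
  conv_lhs => rw [← sum_homogeneousComponent y, Finset.mul_sum, map_sum]
  rw [Finset.sum_congr rfl fun i _ => homogeneousComponent_of_mem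
    ((mem_homogeneousSubmodule _ _).2 (hf.mul (homogeneousComponent_isHomogeneous i y)))]
  split_ifs with h
  · rw [Finset.sum_congr rfl (g := fun i => if D - e = i then f * homogeneousComponent i y else 0)
      fun i _ => by simp only [show (D = e + i) ↔ (D - e = i) by omega]]
    rw [Finset.sum_ite_eq, if_neg_iff_eq]
  · exact Finset.sum_eq_zero fun i _ => if_neg (by omega)
where
  if_neg_iff_eq : (if D - e ∈ Finset.range (y.totalDegree + 1) then f * homogeneousComponent (D - e) y else 0) =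
      f * homogeneousComponent (D - e) y := by
    split_ifs with h'
    · rfl
    · rw [homogeneousComponent_eq_zero _ _ (by simp only [Finset.mem_range, not_lt] at h'; omega), mul_zero]

theorem isHom_top : IsHom (⊤ : Ideal (MvPolynomial σ K)) := fun _ _ _ => trivial

theorem isHom_iInf {ι : Sort*} {J : ι → Ideal (MvPolynomial σ K)} (h : ∀ i, IsHom (J i)) : IsHom (⨅ i, J i) := by
  intro f hf k
  rw [Ideal.mem_iInf] at hf ⊢
  exact fun i => h i f (hf i) k

variable (N : ℕ) (θ : ℕ → MvPolynomial σ K)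

/-- Substitution of linear forms. -/
noncomputable def lsub : MvPolynomial (Fin N) K →ₐ[K] MvPolynomial σ K := aeval fun k => θ k.val

theorem lsub_rename (p : MvPolynomial (Fin N) K) :
    lsub (N + 1) θ (rename Fin.castSucc p) = lsub N θ p := by
  rw [lsub, aeval_rename]; rfl

theorem lsub_X_last : lsub (K := K) (N + 1) θ (X (Fin.last N)) = θ N := aeval_X _ _

theorem exists_split (p : MvPolynomial (Fin (N + 1)) K) :
    ∃ p₀ p₁, p = rename Fin.castSucc p₀ + X (Fin.last N) * p₁ := by
  induction p using MvPolynomial.induction_on with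
  | C a => exact ⟨C a, 0, by simp⟩
  | add p q hp hq =>
    obtain ⟨a, b, rfl⟩ := hp
    obtain ⟨a', b', rfl⟩ := hq
    exact ⟨a + a', b + b', by rw [map_add]; ring⟩
  | mul_X p i hp =>
    obtain ⟨a, b, rfl⟩ := hp
    induction i using Fin.lastCases with
    | last => exact ⟨0, rename Fin.castSucc a + X (Fin.last N) * b, by rw [map_zero]; ring⟩
    | cast i => exact ⟨a * X i, b * X i.castSucc, by rw [map_mul, rename_X]; ring⟩

theorem homogeneousComponent_lsub (hθ : ∀ k, (θ k).IsHomogeneous 1) (p : MvPolynomial (Fin N) K) (k : ℕ) :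
    homogeneousComponent k (lsub N θ p) = lsub N θ (homogeneousComponent k p) := by
  classical
  have h : ∀ j, (lsub N θ (homogeneousComponent j p)).IsHomogeneous j := fun j => by
    have := (homogeneousComponent_isHomogeneous j p).aeval (n := 1) (fun i : Fin N => θ i.val) fun i => hθ i.val
    rwa [one_mul] at this
  conv_lhs => rw [← sum_homogeneousComponent p, map_sum, map_sum]
  rw [Finset.sum_congr rfl fun i _ => homogeneousComponent_of_mem ((mem_homogeneousSubmodule _ _).2 (h i)),
    Finset.sum_ite_eq]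
  split_ifs with hk
  · rfl
  · rw [homogeneousComponent_eq_zero k p (by simp only [Finset.mem_range, not_lt] at hk; omega), map_zero]

/-- `b` is a basis of `I / J` over the polynomial ring of the linear forms. -/
structure IsRelBasis (I J : Ideal (MvPolynomial σ K)) {κ : Type} [Fintype κ] (b : κ → MvPolynomial σ K)
    (e : κ → ℕ) : Prop where
  mem : ∀ i, b i ∈ I
  homog : ∀ i, (b i).IsHomogeneous (e i)
  spans : ∀ x ∈ I, ∃ p : κ → MvPolynomial (Fin N) K, x - ∑ i, lsub N θ (p i) * b i ∈ J
  indep : ∀ p : κ → MvPolynomial (Fin N) K, ∑ i, lsub N θ (p i) * b i ∈ J → ∀ i, p i = 0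

/-- `I / J` is free with a finite homogeneous basis. -/
def FreeRel (I J : Ideal (MvPolynomial σ K)) : Prop :=
  ∃ (κ : Type) (_ : Fintype κ) (b : κ → MvPolynomial σ K) (e : κ → ℕ), IsRelBasis N θ I J b e

variable {N θ}

theorem freeRel_refl {I : Ideal (MvPolynomial σ K)} : FreeRel N θ I I :=
  ⟨Fin 0, inferInstance, fun i => i.elim0, fun i => i.elim0,
    ⟨fun i => i.elim0, fun i => i.elim0, fun x hx => ⟨fun i => i.elim0, by simpa using hx⟩,
      fun _ _ i => i.elim0⟩⟩

theorem IsRelBasis.append {I I' J : Ideal (MvPolynomial σ K)} (h₁ : I' ≤ I) (h₂ : J ≤ I') {κ κ' : Type}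
    [Fintype κ] [Fintype κ'] {b : κ → MvPolynomial σ K} {b' : κ' → MvPolynomial σ K} {e : κ → ℕ} {e' : κ' → ℕ}
    (hb : IsRelBasis N θ I I' b e) (hb' : IsRelBasis N θ I' J b' e') :
    IsRelBasis N θ I J (Sum.elim b b') (Sum.elim e e') := by
  refine ⟨fun i => ?_, fun i => ?_, fun x hx => ?_, fun p hp => ?_⟩
  · rcases i with i | i
    · exact hb.mem i
    · exact h₁ (hb'.mem i)
  · rcases i with i | i
    · exact hb.homog i
    · exact hb'.homog i
  · obtain ⟨p, hp⟩ := hb.spans x hx
    obtain ⟨p', hp'⟩ := hb'.spans _ hp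
    refine ⟨Sum.elim p p', ?_⟩
    rw [Fintype.sum_sum_type, ← sub_sub]
    exact hp'
  · rw [Fintype.sum_sum_type] at hp
    have hB : ∑ i, lsub N θ (p (Sum.inr i)) * b' i ∈ I' :=
      Submodule.sum_mem _ fun i _ => Ideal.mul_mem_left _ _ (hb'.mem i)
    have h1 := hb.indep (fun i => p (Sum.inl i)) (by simpa using sub_mem (h₂ hp) hB)
    have h2 := hb'.indep (fun i => p (Sum.inr i)) (by simpa [h1] using hp)
    rintro (i | i)
    · exact h1 i
    · exact h2 i

theorem FreeRel.trans {I I' J : Ideal (MvPolynomial σ K)} (h₁ : I' ≤ I) (h₂ : J ≤ I')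
    (h : FreeRel N θ I I') (h' : FreeRel N θ I' J) : FreeRel N θ I J := by
  obtain ⟨κ, _, b, e, hb⟩ := h
  obtain ⟨κ', _, b', e', hb'⟩ := h'
  exact ⟨κ ⊕ κ', inferInstance, _, _, hb.append h₁ h₂ hb'⟩

theorem FreeRel.of_sup {A B : Ideal (MvPolynomial σ K)} (hA : IsHom A) (hB : IsHom B)
    (h : FreeRel N θ (A ⊔ B) B) : FreeRel N θ A (A ⊓ B) := by
  obtain ⟨κ, _, b, e, hb⟩ := h
  have hsplit : ∀ i, ∃ u, (u ∈ A ∧ u.IsHomogeneous (e i)) ∧ b i - u ∈ B := fun i => by
    obtain ⟨u, hu, v, hv, huv⟩ := Submodule.mem_sup.1 (hb.mem i)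
    refine ⟨homogeneousComponent (e i) u, ⟨hA u hu _, homogeneousComponent_isHomogeneous _ _⟩, ?_⟩
    have : b i = homogeneousComponent (e i) u + homogeneousComponent (e i) v := by
      rw [← map_add, huv, homogeneousComponent_of_mem ((mem_homogeneousSubmodule _ _).2 (hb.homog i)), if_pos rfl]
    rw [this, add_sub_cancel_left]
    exact hB v hv _
  choose u hu huB using hsplit
  have hdiff : ∀ p : κ → MvPolynomial (Fin N) K,
      (∑ i, lsub N θ (p i) * b i) - ∑ i, lsub N θ (p i) * u i ∈ B := fun p => by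
    rw [← Finset.sum_sub_distrib]
    exact Submodule.sum_mem _ fun i _ => by rw [← mul_sub]; exact Ideal.mul_mem_left _ _ (huB i)
  refine ⟨κ, inferInstance, u, e, fun i => (hu i).1, fun i => (hu i).2, fun x hx => ?_, fun p hp => ?_⟩
  · obtain ⟨p, hp⟩ := hb.spans x (Ideal.mem_sup_left hx)
    refine ⟨p, ⟨sub_mem hx (Submodule.sum_mem _ fun i _ => Ideal.mul_mem_left _ _ (hu i).1), ?_⟩⟩
    simpa using add_mem hp (hdiff p)
  · exact hb.indep p (by simpa using add_mem (hdiff p) hp.2)

theorem IsRelBasis.lift [IsDomain K] (hθ : ∀ k, (θ k).IsHomogeneous 1) {J : Ideal (MvPolynomial σ K)}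
    (hJ : IsHom J) {κ : Type} [Fintype κ] {b : κ → MvPolynomial σ K} {e : κ → ℕ}
    (hb : IsRelBasis N θ ⊤ (J ⊔ Ideal.span {θ N}) b e) (hreg : ∀ x, θ N * x ∈ J → x ∈ J) :
    IsRelBasis (N + 1) θ ⊤ J b e := by
  classical
  refine ⟨fun _ => trivial, hb.homog, ?_, ?_⟩
  · have hadd : ∀ {x y}, (∃ p : κ → MvPolynomial (Fin (N + 1)) K, x - ∑ i, lsub (N + 1) θ (p i) * b i ∈ J) →
        (∃ p : κ → MvPolynomial (Fin (N + 1)) K, y - ∑ i, lsub (N + 1) θ (p i) * b i ∈ J) →
        ∃ p : κ → MvPolynomial (Fin (N + 1)) K, (x + y) - ∑ i, lsub (N + 1) θ (p i) * b i ∈ J := by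
      rintro x y ⟨p, hp⟩ ⟨q, hq⟩
      refine ⟨p + q, ?_⟩
      simp only [Pi.add_apply, map_add, add_mul, Finset.sum_add_distrib]
      rw [add_sub_add_comm]
      exact add_mem hp hq
    have hhom : ∀ D x, x.IsHomogeneous D →
        ∃ p : κ → MvPolynomial (Fin (N + 1)) K, x - ∑ i, lsub (N + 1) θ (p i) * b i ∈ J := by
      intro D
      induction D using Nat.strong_induction_on with
      | _ D ih =>
      intro x hx
      obtain ⟨p, hp⟩ := hb.spans x trivial
      obtain ⟨j, hj, z, hz, hjz⟩ := Submodule.mem_sup.1 hp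
      obtain ⟨y, rfl⟩ := Ideal.mem_span_singleton'.1 hz
      have hxeq : x = (∑ i, lsub N θ (p i) * b i) + (j + θ N * y) := by
        rw [mul_comm (θ N), hjz]; ring
      have hx' := congrArg (homogeneousComponent D) hxeq
      rw [homogeneousComponent_of_mem ((mem_homogeneousSubmodule _ _).2 hx), if_pos rfl, map_add, map_sum, map_add,
        comp_mul_of_homog (hθ N)] at hx'
      rw [hx']
      refine hadd ?_ (hadd ⟨0, by simpa using hJ j hj D⟩ ?_)
      · refine ⟨fun i => if e i ≤ D then rename Fin.castSucc (homogeneousComponent (D - e i) (p i)) else 0, ?_⟩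
        rw [← Finset.sum_sub_distrib]
        refine Submodule.sum_mem _ fun i _ => ?_
        rw [mul_comm (lsub N θ (p i)), comp_mul_of_homog (hb.homog i), homogeneousComponent_lsub N θ hθ]
        dsimp only
        split_ifs
        · rw [lsub_rename, mul_comm, sub_self]; exact zero_mem _
        · simp
      · by_cases h1 : 1 ≤ D
        · rw [if_pos h1]
          obtain ⟨q, hq⟩ := ih (D - 1) (by omega) _ (homogeneousComponent_isHomogeneous (D - 1) y)
          refine ⟨fun i => X (Fin.last N) * q i, ?_⟩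
          simp only [map_mul, lsub_X_last, mul_assoc, ← Finset.mul_sum, ← mul_sub]
          exact Ideal.mul_mem_left _ _ hq
        · exact ⟨0, by simp [h1]⟩
    intro x _
    rw [← sum_homogeneousComponent x]
    refine Finset.sum_induction _ (fun x => ∃ p : κ → MvPolynomial (Fin (N + 1)) K,
      x - ∑ i, lsub (N + 1) θ (p i) * b i ∈ J) (fun _ _ => hadd) ⟨0, by simp⟩ fun i _ =>
      hhom i _ (homogeneousComponent_isHomogeneous i x)
  · intro p hp
    have hdvd : ∀ q : κ → MvPolynomial (Fin (N + 1)) K, ∑ i, lsub (N + 1) θ (q i) * b i ∈ J →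
        ∀ i, X (Fin.last N) ∣ q i := by
      intro q hq i
      choose q₀ q₁ hq01 using fun i => exists_split N (q i)
      have h0 : ∑ i, lsub N θ (q₀ i) * b i ∈ J ⊔ Ideal.span {θ N} := by
        have heq : ∑ i, lsub (N + 1) θ (q i) * b i =
            (∑ i, lsub N θ (q₀ i) * b i) + θ N * ∑ i, lsub (N + 1) θ (q₁ i) * b i := by
          rw [Finset.mul_sum, ← Finset.sum_add_distrib]
          refine Finset.sum_congr rfl fun i _ => ?_
          rw [hq01 i, map_add, map_mul, lsub_rename, lsub_X_last]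
          ring
        rw [eq_sub_of_add_eq heq.symm]
        exact sub_mem (Ideal.mem_sup_left hq)
          (Ideal.mem_sup_right (Ideal.mul_mem_right _ _ (Ideal.subset_span rfl)))
      rw [hq01 i, hb.indep q₀ h0 i, map_zero, zero_add]
      exact dvd_mul_right _ _
    have hpow : ∀ m : ℕ, ∃ q : κ → MvPolynomial (Fin (N + 1)) K, (∀ i, p i = X (Fin.last N) ^ m * q i) ∧
        ∑ i, lsub (N + 1) θ (q i) * b i ∈ J := by
      intro m
      induction m with
      | zero => exact ⟨p, fun i => by simp, hp⟩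
      | succ m ih =>
        obtain ⟨q, hq1, hq2⟩ := ih
        choose q' hq' using hdvd q hq2
        refine ⟨q', fun i => by rw [hq1 i, hq' i, pow_succ, mul_assoc], hreg _ ?_⟩
        simp only [hq', map_mul, lsub_X_last, mul_assoc, ← Finset.mul_sum] at hq2
        exact hq2
    intro i
    by_contra hne
    obtain ⟨q, hq, -⟩ := hpow ((p i).totalDegree + 1)
    have hq0 : q i ≠ 0 := fun h => hne (by rw [hq i, h, mul_zero])
    have := congrArg totalDegree (hq i)
    rw [totalDegree_mul_of_isDomain (pow_ne_zero _ (X_ne_zero _)) hq0, totalDegree_X_pow] at this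
    omega

theorem freeRel_step [IsDomain K] (hθ : ∀ k, (θ k).IsHomogeneous 1) {I J : Ideal (MvPolynomial σ K)}
    (hJ : IsHom J) (hI : J ⊔ Ideal.span {θ N} ≤ I) (hreg : ∀ x, θ N * x ∈ J → x ∈ J)
    (h₁ : FreeRel N θ ⊤ I) (h₂ : FreeRel N θ I (J ⊔ Ideal.span {θ N})) : FreeRel (N + 1) θ I J := by
  classical
  obtain ⟨κ, _, a, ea, ha⟩ := h₁
  obtain ⟨κ', _, b, eb, hb⟩ := h₂
  have hfull := (ha.append le_top hI hb).lift hθ hJ hreg
  have hT : θ N ∈ I := hI (Ideal.mem_sup_right (Ideal.subset_span rfl))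
  refine ⟨κ ⊕ κ', inferInstance, Sum.elim (fun i => θ N * a i) b, Sum.elim (fun i => 1 + ea i) eb, ?_, ?_, ?_, ?_⟩
  · rintro (i | i)
    · exact Ideal.mul_mem_right _ _ hT
    · exact hb.mem i
  · rintro (i | i)
    · exact (hθ N).mul (ha.homog i)
    · exact hb.homog i
  · intro x hx
    obtain ⟨p, hp⟩ := hfull.spans x trivial
    rw [Fintype.sum_sum_type] at hp
    simp only [Sum.elim_inl, Sum.elim_inr] at hp
    choose p₀ p₁ hp01 using fun i => exists_split N (p (Sum.inl i))
    have heq : ∑ i, lsub (N + 1) θ (p (Sum.inl i)) * a i =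
        (∑ i, lsub N θ (p₀ i) * a i) + ∑ i, lsub (N + 1) θ (p₁ i) * (θ N * a i) := by
      rw [← Finset.sum_add_distrib]
      refine Finset.sum_congr rfl fun i _ => ?_
      rw [hp01 i, map_add, map_mul, lsub_rename, lsub_X_last]
      ring
    have hzero : ∀ i, p₀ i = 0 := by
      refine ha.indep p₀ ?_
      have h1 : ∑ i, lsub (N + 1) θ (p₁ i) * (θ N * a i) ∈ I :=
        Submodule.sum_mem _ fun i _ => Ideal.mul_mem_left _ _ (Ideal.mul_mem_right _ _ hT)
      have h2 : ∑ i, lsub (N + 1) θ (p (Sum.inr i)) * b i ∈ I :=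
        Submodule.sum_mem _ fun i _ => Ideal.mul_mem_left _ _ (hb.mem i)
      have h3 := sub_mem hx (hI (Ideal.mem_sup_left hp))
      rw [sub_sub_cancel, heq] at h3
      have h4 := sub_mem (sub_mem h3 h2) h1
      rwa [add_sub_cancel_right, add_sub_cancel_right] at h4
    refine ⟨Sum.elim p₁ fun i => p (Sum.inr i), ?_⟩
    rw [Fintype.sum_sum_type]
    simp only [Sum.elim_inl, Sum.elim_inr]
    rw [heq] at hp
    simpa [hzero] using hp
  · intro p hp
    rw [Fintype.sum_sum_type] at hp
    simp only [Sum.elim_inl, Sum.elim_inr] at hp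
    have := hfull.indep (Sum.elim (fun i => X (Fin.last N) * p (Sum.inl i)) fun i => p (Sum.inr i)) (by
      rw [Fintype.sum_sum_type]
      simp only [Sum.elim_inl, Sum.elim_inr, map_mul, lsub_X_last]
      convert hp using 3 with i
      ring)
    rintro (i | i)
    · exact (mul_eq_zero.1 (this (Sum.inl i))).resolve_left (X_ne_zero _)
    · exact this (Sum.inr i)

theorem FreeRel.exists_free {J : Ideal (MvPolynomial σ K)} (h : FreeRel N θ ⊤ J) :
    letI : Algebra (MvPolynomial (Fin N) K) (MvPolynomial σ K ⧸ J) :=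
      ((Ideal.Quotient.mk J).comp (lsub N θ).toRingHom).toAlgebra
    Module.Finite (MvPolynomial (Fin N) K) (MvPolynomial σ K ⧸ J) ∧
      Module.Free (MvPolynomial (Fin N) K) (MvPolynomial σ K ⧸ J) := by
  letI : Algebra (MvPolynomial (Fin N) K) (MvPolynomial σ K ⧸ J) :=
    ((Ideal.Quotient.mk J).comp (lsub N θ).toRingHom).toAlgebra
  obtain ⟨κ, _, b, e, hb⟩ := h
  have hsum : ∀ p : κ → MvPolynomial (Fin N) K, (∑ i, p i • Ideal.Quotient.mk J (b i)) =
      Ideal.Quotient.mk J (∑ i, lsub N θ (p i) * b i) := fun p => by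
    rw [map_sum]; exact Finset.sum_congr rfl fun i _ => by rw [Algebra.smul_def, map_mul]; rfl
  have hli : LinearIndependent (MvPolynomial (Fin N) K) fun i => Ideal.Quotient.mk J (b i) :=
    Fintype.linearIndependent_iff.2 fun p hp => hb.indep p (Ideal.Quotient.eq_zero_iff_mem.1 ((hsum p).symm.trans hp))
  have hsp : ⊤ ≤ Submodule.span (MvPolynomial (Fin N) K) (Set.range fun i => Ideal.Quotient.mk J (b i)) := by
    rintro x -
    obtain ⟨x, rfl⟩ := Ideal.Quotient.mk_surjective x
    obtain ⟨p, hp⟩ := hb.spans x trivial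
    rw [Ideal.Quotient.eq.2 hp, ← hsum]
    exact Submodule.sum_mem _ fun i _ => Submodule.smul_mem _ _ (Submodule.subset_span ⟨i, rfl⟩)
  exact ⟨Module.Finite.of_basis (Module.Basis.mk hli hsp), Module.Free.of_basis (Module.Basis.mk hli hsp)⟩

end Groth.Agent.PlLib
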