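import Groth.Agent.PlLib.CM
import Groth.Agent.LC.Sop
import Groth.Agent.Alg6.AssDepth
import Mathlib.RingTheory.Regular.Flat
import Mathlib.Algebra.Module.Submodule.Union

/-! A cone which is Cohen–Macaulay at its vertex is Cohen–Macaulay. -/

universe u v

namespace Groth.Agent.PlLib

open MvPolynomial RingTheory.Sequence IsLocalRing

theorem isHom_of_span {K : Type u} [CommRing K] {σ : Type v} (T : Set (MvPolynomial σ K))
    (hT : ∀ f ∈ T, ∃ k, f.IsHomogeneous k) : IsHom (Ideal.span T) := by
  intro f hf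
  refine Submodule.span_induction ?_ ?_ ?_ ?_ hf
  · intro x hx k
    obtain ⟨e, he⟩ := hT x hx
    rw [homogeneousComponent_of_mem ((mem_homogeneousSubmodule _ _).2 he)]
    split_ifs
    · exact Ideal.subset_span hx
    · exact zero_mem _
  · intro k; rw [map_zero]; exact zero_mem _
  · intro x y _ _ hx hy k; rw [map_add]; exact add_mem (hx k) (hy k)
  · intro a x _ hx k
    rw [smul_eq_mul, mul_comm, ← sum_homogeneousComponent x, Finset.sum_mul, map_sum]
    refine Submodule.sum_mem _ fun i _ => ?_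
    rw [comp_mul_of_homog (homogeneousComponent_isHomogeneous i x)]
    split_ifs
    · exact Ideal.mul_mem_right _ _ (hx i)
    · exact zero_mem _

theorem isHom_sup {K : Type u} [CommRing K] {σ : Type v} {A B : Ideal (MvPolynomial σ K)} (hA : IsHom A)
    (hB : IsHom B) : IsHom (A ⊔ B) := by
  intro f hf k
  obtain ⟨a, ha, b, hb, rfl⟩ := Submodule.mem_sup.1 hf
  rw [map_add]
  exact add_mem (Ideal.mem_sup_left (hA a ha k)) (Ideal.mem_sup_right (hB b hb k))

theorem lsub_congr {K : Type u} [CommRing K] {σ : Type v} {N : ℕ} {θ θ' : ℕ → MvPolynomial σ K}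
    (h : ∀ k, k < N → θ k = θ' k) : lsub N θ = lsub N θ' := by
  rw [lsub, lsub]
  congr 1
  funext k
  exact h k.val k.isLt

theorem IsRelBasis.congr_forms {K : Type u} [CommRing K] {σ : Type v} {N : ℕ} {θ θ' : ℕ → MvPolynomial σ K}
    (h : ∀ k, k < N → θ k = θ' k) {I J : Ideal (MvPolynomial σ K)} {κ : Type} [Fintype κ]
    {b : κ → MvPolynomial σ K} {e : κ → ℕ} (hb : IsRelBasis N θ I J b e) : IsRelBasis N θ' I J b e := by
  refine ⟨hb.mem, hb.homog, ?_, ?_⟩ <;> rw [← lsub_congr h]
  · exact hb.spans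
  · exact hb.indep

/-- A homogeneous ideal containing powers of all the variables has a finite homogeneous monomial complement. -/
theorem freeRel_zero_of_pow_mem {K : Type u} [Field K] {N : ℕ} {J : Ideal (MvPolynomial (Fin N) K)}
    (θ : ℕ → MvPolynomial (Fin N) K) (h : ∀ i, ∃ k : ℕ, (X i : MvPolynomial (Fin N) K) ^ k ∈ J) :
    FreeRel 0 θ ⊤ J := by
  classical
  choose k hk using h
  let v : ((i : Fin N) → Fin (k i + 1)) → MvPolynomial (Fin N) K ⧸ J := fun e =>
    Ideal.Quotient.mk J (monomial (Finsupp.equivFunOnFinite.symm fun i => (e i : ℕ)) 1)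
  have hspan : ∀ f : MvPolynomial (Fin N) K, Ideal.Quotient.mk J f ∈ Submodule.span K (Set.range v) := by
    intro f
    induction f using MvPolynomial.induction_on' with
    | monomial e a =>
      rw [show monomial e a = a • monomial e (1 : K) by rw [smul_monomial, smul_eq_mul, mul_one],
        ← Ideal.Quotient.mkₐ_eq_mk K, map_smul]
      refine Submodule.smul_mem _ _ ?_
      by_cases he : ∀ i, e i ≤ k i
      · refine Submodule.subset_span ⟨fun i => ⟨e i, by have := he i; omega⟩, ?_⟩
        simp only [v, Ideal.Quotient.mkₐ_eq_mk]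
        congr 2
        ext i
        simp
      · push Not at he
        obtain ⟨i, hi⟩ := he
        have : Ideal.Quotient.mkₐ K J (monomial e (1 : K)) = 0 := by
          rw [Ideal.Quotient.mkₐ_eq_mk, Ideal.Quotient.eq_zero_iff_mem]
          have hle : Finsupp.single i (k i) ≤ e := Finsupp.single_le_iff.2 hi.le
          rw [show monomial e (1 : K) = X i ^ k i * monomial (e - Finsupp.single i (k i)) 1 by
            rw [X_pow_eq_monomial, monomial_mul, one_mul, add_tsub_cancel_of_le hle]]
          exact Ideal.mul_mem_right _ _ (hk i)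
        rw [this]
        exact zero_mem _
    | add p q hp hq => rw [map_add]; exact add_mem hp hq
  obtain ⟨κ, a, ha, hsp, hli⟩ := exists_linearIndependent' K v
  haveI : Fintype κ := Fintype.ofInjective a ha
  have hC : ∀ p : MvPolynomial (Fin 0) K, lsub 0 θ p = C (constantCoeff p) := fun p => by
    obtain ⟨c, rfl⟩ : ∃ c, p = C c := ⟨_, eq_C_of_isEmpty p⟩
    simp [lsub]
  have hmk : ∀ p : κ → K, Ideal.Quotient.mk J (∑ i, C (p i) *
      monomial (Finsupp.equivFunOnFinite.symm fun j => ((a i) j : ℕ)) 1) = ∑ i, p i • v (a i) := fun p => by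
    rw [map_sum]
    refine Finset.sum_congr rfl fun i _ => ?_
    rw [← smul_eq_C_mul]
    exact map_smul (Ideal.Quotient.mkₐ K J) _ _
  refine ⟨κ, inferInstance, fun i => monomial (Finsupp.equivFunOnFinite.symm fun j => ((a i) j : ℕ)) 1,
    fun i => (Finsupp.equivFunOnFinite.symm fun j => ((a i) j : ℕ)).degree,
    ⟨fun _ => trivial, fun i => isHomogeneous_monomial _ rfl, fun x _ => ?_, fun p hp => ?_⟩⟩
  · have hx := hspan x
    rw [← hsp, Submodule.mem_span_range_iff_exists_fun] at hx
    obtain ⟨p, hp⟩ := hx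
    refine ⟨fun i => C (p i), ?_⟩
    rw [← Ideal.Quotient.eq]
    simp only [hC, constantCoeff_C]
    rw [hmk]
    exact hp.symm
  · simp only [hC] at hp
    rw [← Ideal.Quotient.eq_zero_iff_mem, hmk] at hp
    intro i
    rw [eq_C_of_isEmpty (p i), ← constantCoeff_eq, Fintype.linearIndependent_iff.1 hli _ hp i, map_zero]

theorem exists_pow_mem_of_cm_local {R A : Type u} [CommRing R] [CommRing A] [IsNoetherianRing A] [IsLocalRing A]
    [Algebra R A] (m : Ideal R) [m.IsPrime] [IsLocalization.AtPrime A m]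
    {D : ℕ} (hD : Module.supportDim A A = D) {L : List R} (hreg : IsWeaklyRegular R L) (hmem : ∀ r ∈ L, r ∈ m)
    (hlen : L.length = D) {x : R} (hx : x ∈ m) : ∃ k : ℕ, ∃ s ∈ m.primeCompl, s * x ^ k ∈ Ideal.ofList L := by
  set Q := Ideal.ofList (L.map (algebraMap R A)) with hQ
  have hregA : IsRegular A (L.map (algebraMap R A)) := hreg.isRegular_of_isLocalization_of_mem A m hmem
  have hdim := Module.supportDim_add_length_eq_supportDim_of_isRegular _ hregA
  rw [hD, List.length_map, hlen] at hdim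
  haveI : Nontrivial (A ⧸ (Q • ⊤ : Submodule A A)) :=
    Submodule.Quotient.nontrivial_iff.2 hregA.top_ne_smul.symm
  obtain ⟨e, he⟩ := LC.exists_supportDim_eq_nat (R := A) (A ⧸ (Q • ⊤ : Submodule A A))
  rw [he] at hdim
  have hed : e + D = D := by exact_mod_cast hdim
  have h0 : Module.supportDim A (A ⧸ (Q • ⊤ : Submodule A A)) = 0 := by rw [he, show e = 0 by omega]; rfl
  have hsupp := support_of_supportDim_eq_zero (R := A) (N := A ⧸ (Q • ⊤ : Submodule A A)) h0
  rw [Module.support_eq_zeroLocus, smul_eq_mul, Ideal.mul_top, Ideal.annihilator_quotient,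
    PrimeSpectrum.zeroLocus_eq_iff] at hsupp
  have hx' : algebraMap R A x ∈ Q.radical := by
    rw [hsupp, (maximalIdeal.isMaximal A).isPrime.isRadical.radical]
    exact (IsLocalization.AtPrime.to_map_mem_maximal_iff A m _).2 hx
  obtain ⟨k, hk⟩ := hx'
  rw [← map_pow, hQ, ← Ideal.map_ofList, IsLocalization.algebraMap_mem_map_algebraMap_iff m.primeCompl] at hk
  exact ⟨k, hk⟩

theorem notMem_ass_of_cm_local {R A : Type u} [CommRing R] [CommRing A] [IsNoetherianRing R] [IsNoetherianRing A]
    [IsLocalRing A] [Algebra R A] (m : Ideal R) [m.IsPrime] [IsLocalization.AtPrime A m]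
    (hCMA : LocCoh.IsCohenMacaulayModule A A)
    {D : ℕ} (hD : Module.supportDim A A = D) {L : List R} (hreg : IsWeaklyRegular R L) (hmem : ∀ r ∈ L, r ∈ m)
    (hlen : L.length < D) : m ∉ associatedPrimes R (R ⧸ (Ideal.ofList L • ⊤ : Submodule R R)) := by
  intro hass
  set L' := L.map (algebraMap R A)
  have hregA : IsRegular A L' := hreg.isRegular_of_isLocalization_of_mem A m hmem
  have hmemA : ∀ r ∈ L', r ∈ maximalIdeal A := fun r hr => by
    obtain ⟨r', hr', rfl⟩ := List.mem_map.1 hr
    exact (IsLocalization.AtPrime.to_map_mem_maximal_iff A m _).2 (hmem r' hr')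
  have hCM' := LC.isCM_quot_ofList A hCMA hregA.toIsWeaklyRegular hmemA
  have hdim := Module.supportDim_add_length_eq_supportDim_of_isRegular L' hregA
  rw [hD, hCM', List.length_map] at hdim
  haveI := LC.nontrivial_of_isCM _ hCM'
  obtain ⟨e, he⟩ := LC.exists_depth_eq_nat (R := A) (A ⧸ (Ideal.ofList L' • ⊤ : Submodule A A))
  rw [he] at hdim
  have hed : e + L.length = D := by exact_mod_cast hdim
  have hdepth : (1 : ℕ∞) ≤ LocCoh.depth A (A ⧸ (Ideal.ofList L' • ⊤ : Submodule A A)) := by
    rw [he]; exact_mod_cast (by omega : 1 ≤ e)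
  refine Alg6.one_le_depth_iff.1 hdepth (Alg6.mem_ass_iff.2 ⟨inferInstance, ?_⟩)
  obtain ⟨-, z, hz⟩ := Alg6.mem_ass_iff.1 hass
  obtain ⟨z, rfl⟩ := Submodule.Quotient.mk_surjective _ z
  refine ⟨Submodule.Quotient.mk (algebraMap R A z), fun a => ?_⟩
  have hmemQ : ∀ b : R, algebraMap R A b ∈ (Ideal.ofList L' • ⊤ : Submodule A A) ↔
      ∃ s ∈ m.primeCompl, s * b ∈ Ideal.ofList L := fun b => by
    rw [smul_eq_mul, Ideal.mul_top, ← Ideal.map_ofList,
      IsLocalization.algebraMap_mem_map_algebraMap_iff m.primeCompl]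
  have hzmem : ∀ b : R, b ∈ m ↔ b * z ∈ Ideal.ofList L := fun b => by
    rw [hz, ← Submodule.Quotient.mk_smul, Submodule.Quotient.mk_eq_zero, smul_eq_mul, smul_eq_mul, Ideal.mul_top]
  obtain ⟨⟨b, t⟩, hbt⟩ := IsLocalization.surj m.primeCompl a
  have hu := IsLocalization.map_units A t
  rw [← Submodule.Quotient.mk_smul, Submodule.Quotient.mk_eq_zero, smul_eq_mul,
    ← Ideal.mul_unit_mem_iff_mem (maximalIdeal A) hu, hbt, IsLocalization.AtPrime.to_map_mem_maximal_iff A m,
    smul_eq_mul, Ideal.mul_top, ← Ideal.mul_unit_mem_iff_mem (Ideal.ofList L') hu, mul_right_comm, hbt,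
    ← map_mul, ← Ideal.mul_top (Ideal.ofList L'), ← smul_eq_mul (Ideal.ofList L'), hmemQ]
  constructor
  · exact fun hb => ⟨1, one_mem _, by rw [one_mul]; exact (hzmem b).1 hb⟩
  · rintro ⟨s, hs, h⟩
    rw [← mul_assoc, ← hzmem] at h
    exact (Ideal.IsPrime.mem_or_mem ‹_› h).resolve_left hs

variable {K : Type u} [Field K] [Infinite K] {N : ℕ}

theorem isCM_of_vertex (I : Ideal (MvPolynomial (Fin N) K)) (hI : IsHom I)
    (m : Ideal (MvPolynomial (Fin N) K ⧸ I)) [m.IsPrime]
    (hm : m = (RingHom.ker (constantCoeff : MvPolynomial (Fin N) K →+* K)).map (Ideal.Quotient.mk I))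
    (hCM : LocCoh.IsCohenMacaulayLocalRing (Localization.AtPrime m)) :
    LocCoh.IsCohenMacaulayRing (MvPolynomial (Fin N) K ⧸ I) := by
  classical
  haveI := hCM
  let mk := Ideal.Quotient.mk I
  let R := MvPolynomial (Fin N) K ⧸ I
  let A := Localization.AtPrime m
  have hmmax : m.IsMaximal := by
    haveI : (RingHom.ker (constantCoeff : MvPolynomial (Fin N) K →+* K)).IsMaximal :=
      RingHom.ker_isMaximal_of_surjective _ fun c => ⟨C c, constantCoeff_C _ c⟩
    rcases Ideal.map_eq_top_or_isMaximal_of_surjective mk Ideal.Quotient.mk_surjective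
      (RingHom.ker_isMaximal_of_surjective (constantCoeff : MvPolynomial (Fin N) K →+* K)
        fun c => ⟨C c, constantCoeff_C _ c⟩) with h | h
    · exact absurd (hm.trans h) (Ideal.IsPrime.ne_top ‹_›)
    · rwa [hm]
  have hcc : ∀ f, constantCoeff f = 0 → mk f ∈ m := fun f hf => hm ▸ Ideal.mem_map_of_mem _ hf
  have hXm : ∀ i, mk (X i) ∈ m := fun i => hcc _ (constantCoeff_X (R := K) i)
  have hCMA : LocCoh.IsCohenMacaulayModule A A := LocCoh.IsCohenMacaulayLocalRing.supportDim_eq_depth
  obtain ⟨D, hD⟩ := LC.exists_supportDim_eq_nat (R := A) A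
  suffices key : ∀ (j : ℕ) (ls : List (MvPolynomial (Fin N) K)), (∀ l ∈ ls, l.IsHomogeneous 1) →
      IsWeaklyRegular R (ls.map mk) → ls.length + j = D →
      ∃ θ : ℕ → MvPolynomial (Fin N) K, (∀ k, (θ k).IsHomogeneous 1) ∧ FreeRel j θ ⊤ (I ⊔ Ideal.ofList ls) by
    obtain ⟨θ, -, h⟩ := key D [] (by simp) (IsWeaklyRegular.nil _ _) (by simp)
    rw [Ideal.ofList_nil, sup_bot_eq] at h
    exact isCM_of_freeRel h
  intro j
  induction j with
  | zero =>
    intro ls hls hreg hlen
    refine ⟨fun _ => 0, fun _ => isHomogeneous_zero _ _ _, freeRel_zero_of_pow_mem _ fun i => ?_⟩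
    have hmem : ∀ r ∈ ls.map mk, r ∈ m := fun r hr => by
      obtain ⟨l, hl, rfl⟩ := List.mem_map.1 hr
      refine hcc l ?_
      rw [constantCoeff_eq]
      exact (hls l hl).coeff_eq_zero (by simp)
    obtain ⟨k, s, hs, hsk⟩ := exists_pow_mem_of_cm_local (A := A) m hD hreg hmem
      (by rw [List.length_map]; omega) (hXm i)
    obtain ⟨s, rfl⟩ := Ideal.Quotient.mk_surjective s
    refine ⟨k, ?_⟩
    rw [← map_pow, ← map_mul, ← Ideal.map_ofList, Ideal.mem_quotient_iff_mem_sup, sup_comm] at hsk
    have hhom : IsHom (I ⊔ Ideal.ofList ls) := isHom_sup hI (isHom_of_span _ fun f hf => ⟨1, hls f hf⟩)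
    have := hhom _ hsk k
    rw [mul_comm, comp_mul_of_homog ((isHomogeneous_X K i).pow k), if_pos (by simp), one_mul, Nat.sub_self,
      homogeneousComponent_zero] at this
    have hs0 : constantCoeff s ≠ 0 := fun h => hs (hcc s h)
    rw [constantCoeff_eq] at hs0
    have := Ideal.mul_mem_right (C (coeff 0 s)⁻¹) _ this
    rwa [mul_assoc, ← C_mul, mul_inv_cancel₀ hs0, C_1, mul_one] at this
  | succ j ih =>
    intro ls hls hreg hlen
    let M := R ⧸ (Ideal.ofList (ls.map mk) • ⊤ : Submodule R R)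
    have hmem : ∀ r ∈ ls.map mk, r ∈ m := fun r hr => by
      obtain ⟨l, hl, rfl⟩ := List.mem_map.1 hr
      refine hcc l ?_
      rw [constantCoeff_eq]
      exact (hls l hl).coeff_eq_zero (by simp)
    have hass : m ∉ associatedPrimes R M :=
      notMem_ass_of_cm_local (A := A) m hCMA hD hreg hmem (by rw [List.length_map]; omega)
    haveI : Finite {p : Ideal R // p ∈ associatedPrimes R M} := (associatedPrimes.finite R M).to_subtype
    obtain ⟨v, hv⟩ := Submodule.exists_forall_notMem_of_forall_ne_top (K := K)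
      (M := homogeneousSubmodule (Fin N) K 1)
      (ι := {p : Ideal R // p ∈ associatedPrimes R M})
      (fun p => (p.1.restrictScalars K).comap ((Ideal.Quotient.mkₐ K I).toLinearMap.comp (Submodule.subtype _))) (by
        rintro ⟨p, hp⟩ htop
        refine hass ?_
        have hXp : ∀ i, mk (X i) ∈ p := fun i =>
          (Submodule.eq_top_iff'.1 htop ⟨X i, (mem_homogeneousSubmodule _ _).2 (isHomogeneous_X K i)⟩ : _)
        have hle : m ≤ p := by
          rw [hm, Ideal.map_le_iff_le_comap]
          intro f hf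
          rw [RingHom.mem_ker] at hf
          have : ∀ f : MvPolynomial (Fin N) K, mk (f - C (constantCoeff f)) ∈ p := fun f => by
            induction f using MvPolynomial.induction_on with
            | C a => simp
            | add p' q' h1 h2 => rw [map_add, map_add, add_sub_add_comm, map_add]; exact add_mem h1 h2
            | mul_X p' i _ => simpa using p.mul_mem_left (mk p') (hXp i)
          simpa [hf] using this f
        rwa [hmmax.eq_of_le hp.isPrime.ne_top hle])
    have hv1 : v.1.IsHomogeneous 1 := (mem_homogeneousSubmodule _ _).1 v.2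
    have hvreg : IsSMulRegular M (mk v.1) :=
      Alg6.isSMulRegular_iff_forall_ass.2 fun p hp hvp => hv ⟨p, hp⟩ hvp
    obtain ⟨θ, hθ, κ, inst, b, e, hb⟩ := ih (ls ++ [v.1]) (fun l hl => by
        rcases List.mem_append.1 hl with h | h
        · exact hls l h
        · rw [List.mem_singleton] at h; rw [h]; exact hv1)
      (by rw [List.map_append, isWeaklyRegular_append_iff]
          exact ⟨hreg, (isWeaklyRegular_singleton_iff _ _).2 hvreg⟩)
      (by rw [List.length_append, List.length_singleton]; omega)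
    let θ' : ℕ → MvPolynomial (Fin N) K := fun k => if k = j then v.1 else θ k
    have hθ' : ∀ k, (θ' k).IsHomogeneous 1 := fun k => by
      simp only [θ']; split_ifs
      · exact hv1
      · exact hθ k
    refine ⟨θ', hθ', κ, inst, b, e, ?_⟩
    have hb' := hb.congr_forms (θ' := θ') fun k hk => by simp [θ', hk.ne]
    rw [Ideal.ofList_append, Ideal.ofList_singleton, ← sup_assoc, show v.1 = θ' j by simp [θ']] at hb'
    refine hb'.lift hθ' (isHom_sup hI (isHom_of_span _ fun f hf => ⟨1, hls f hf⟩)) fun x hx => ?_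
    rw [show θ' j = v.1 by simp [θ']] at hx
    change v.1 * x ∈ I ⊔ Ideal.ofList ls at hx
    show x ∈ I ⊔ Ideal.ofList ls
    rw [sup_comm, ← Ideal.mem_quotient_iff_mem_sup, Ideal.map_ofList] at hx ⊢
    have h0 : Submodule.Quotient.mk (p := (Ideal.ofList (ls.map mk) • ⊤ : Submodule R R)) (mk x) = 0 := by
      refine hvreg ?_
      show mk v.1 • _ = mk v.1 • (0 : M)
      rw [smul_zero, ← Submodule.Quotient.mk_smul, Submodule.Quotient.mk_eq_zero, smul_eq_mul, smul_eq_mul,
        Ideal.mul_top, ← map_mul]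
      exact hx
    rwa [Submodule.Quotient.mk_eq_zero, smul_eq_mul, Ideal.mul_top] at h0

end Groth.Agent.PlLib
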