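import Groth.Agent.LC.ExtDim
import Groth.Agent.Alg6.LocLoc
import Groth.Agent.VarDim.Basic
import Groth.Agent.Proj16.Graded
import Groth.Agent.S0321
import Mathlib.RingTheory.Localization.Ideal
import Mathlib.RingTheory.GradedAlgebra.Radical

/-! Cohen–Macaulayness at the vertex of an intersection of two graded Cohen–Macaulay quotients. -/

universe u v

namespace Groth.Agent.PlLib

open IsLocalRing

/-- Dimension and depth of the quotient of a localization at a prime. -/
theorem dim_depth_quot_localization {A : Type u} [CommRing A] (M : Ideal A) [M.IsPrime] (Q : Ideal A)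
    (hQ : Q ≤ M) (p : Ideal (A ⧸ Q)) [p.IsPrime] (hp : p = M.map (Ideal.Quotient.mk Q)) :
    ringKrullDim (Localization.AtPrime M ⧸ Q.map (algebraMap A (Localization.AtPrime M))) = p.height ∧
    LocCoh.depth (Localization.AtPrime M) (Localization.AtPrime M ⧸ Q.map (algebraMap A (Localization.AtPrime M))) =
      LocCoh.depth (Localization.AtPrime p) (Localization.AtPrime p) := by
  let L₀ := Localization.AtPrime M
  let Q' := Q.map (algebraMap A L₀)
  have hpM : p.primeCompl = Algebra.algebraMapSubmonoid (A ⧸ Q) M.primeCompl := by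
    have hc : p.comap (Ideal.Quotient.mk Q) = M := by
      rw [hp, Ideal.comap_map_of_surjective _ Ideal.Quotient.mk_surjective, ← RingHom.ker_eq_comap_bot, Ideal.mk_ker,
        sup_eq_left.2 hQ]
    ext x
    obtain ⟨x, rfl⟩ := Ideal.Quotient.mk_surjective x
    constructor
    · intro hx
      exact ⟨x, fun h => hx (by rw [hp]; exact Ideal.mem_map_of_mem _ h), rfl⟩
    · rintro ⟨y, hy, hyx⟩ hx
      refine hy ?_
      rw [← hc]
      show Ideal.Quotient.mk Q y ∈ p
      rw [show Ideal.Quotient.mk Q y = Ideal.Quotient.mk Q x from hyx]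
      exact hx
  haveI : IsLocalization p.primeCompl (L₀ ⧸ Q') := hpM ▸ inferInstance
  let e : Localization.AtPrime p ≃ₐ[A ⧸ Q] L₀ ⧸ Q' := IsLocalization.algEquiv p.primeCompl _ _
  refine ⟨?_, ?_⟩
  · rw [← ringKrullDim_eq_of_ringEquiv e.toRingEquiv, IsLocalization.AtPrime.ringKrullDim_eq_height p]
  · refine Alg6.depth_eq_of_semilinear (e.symm.toRingEquiv.toRingHom.comp (Ideal.Quotient.mk Q'))
      (e.symm.surjective.comp Ideal.Quotient.mk_surjective) e.symm.toAddEquiv fun r x => ?_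
    show e.symm (r • x) = e.symm (Ideal.Quotient.mk Q' r) * e.symm x
    rw [← map_mul]
    rfl

variable {K : Type u} [Field K] {A : Type v} [CommRing A] [Algebra K A] [IsNoetherianRing A]
  (𝒜 : ℕ → Submodule K A) [GradedAlgebra 𝒜]

include 𝒜 in
theorem finiteType_of_noetherian (h0 : ∀ a ∈ 𝒜 0, ∃ c : K, algebraMap K A c = a) : Algebra.FiniteType K A := by
  haveI hft : Algebra.FiniteType (𝒜 0) A := (Proj16.irrelevant_fg_iff 𝒜).1 (IsNoetherian.noetherian _)
  obtain ⟨s, hs⟩ := hft.out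
  refine ⟨s, eq_top_iff.2 fun x _ => ?_⟩
  have hx : x ∈ Algebra.adjoin (𝒜 0) (s : Set A) := hs ▸ Algebra.mem_top
  clear * - hx h0
  induction hx using Algebra.adjoin_induction with
  | mem y hy => exact Algebra.subset_adjoin hy
  | algebraMap a =>
    obtain ⟨c, hc⟩ := h0 a.1 a.2
    rw [show algebraMap (𝒜 0) A a = algebraMap K A c from hc.symm]
    exact Subalgebra.algebraMap_mem _ c
  | add a b _ _ ha hb => exact add_mem ha hb
  | mul a b _ _ ha hb => exact mul_mem ha hb

theorem irrelevant_isMaximal [Nontrivial A] (h0 : ∀ a ∈ 𝒜 0, ∃ c : K, algebraMap K A c = a)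
    (h1 : (HomogeneousIdeal.irrelevant 𝒜).toIdeal ≠ ⊤) : (HomogeneousIdeal.irrelevant 𝒜).toIdeal.IsMaximal := by
  refine Ideal.isMaximal_iff.2 ⟨fun h => h1 ((Ideal.eq_top_iff_one _).2 h), fun J x hJ hx hxJ => ?_⟩
  have hx0 : GradedRing.proj 𝒜 0 x ≠ 0 := hx
  obtain ⟨c, hc⟩ := h0 (GradedRing.proj 𝒜 0 x) (SetLike.coe_mem _)
  have hc0 : c ≠ 0 := fun h => hx0 (by rw [← hc, h, map_zero])
  have hsub : x - algebraMap K A c ∈ (HomogeneousIdeal.irrelevant 𝒜).toIdeal := by
    show GradedRing.proj 𝒜 0 (x - algebraMap K A c) = 0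
    rw [map_sub, hc]
    have : GradedRing.proj 𝒜 0 (GradedRing.proj 𝒜 0 x) = GradedRing.proj 𝒜 0 x := by
      rw [GradedRing.proj_apply 𝒜 0 (GradedRing.proj 𝒜 0 x),
        DirectSum.decompose_of_mem_same 𝒜 (show GradedRing.proj 𝒜 0 x ∈ 𝒜 0 from SetLike.coe_mem _)]
    rw [this, sub_self]
  have := J.sub_mem hxJ (hJ hsub)
  rw [sub_sub_cancel] at this
  have := J.mul_mem_left (algebraMap K A c⁻¹) this
  rwa [← map_mul, inv_mul_cancel₀ hc0, map_one] at this

theorem le_irrelevant (h0 : ∀ a ∈ 𝒜 0, ∃ c : K, algebraMap K A c = a) {Q : Ideal A} (hQ : Q.IsHomogeneous 𝒜)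
    (hne : Q ≠ ⊤) : Q ≤ (HomogeneousIdeal.irrelevant 𝒜).toIdeal := fun a ha => by
  show GradedRing.proj 𝒜 0 a = 0
  by_contra h
  obtain ⟨c, hc⟩ := h0 (GradedRing.proj 𝒜 0 a) (SetLike.coe_mem _)
  have hc0 : c ≠ 0 := fun h' => h (by rw [← hc, h', map_zero])
  have hmem : GradedRing.proj 𝒜 0 a ∈ Q := hQ 0 ha
  rw [← hc] at hmem
  exact hne (Ideal.eq_top_of_isUnit_mem _ hmem ((Ne.isUnit hc0).map _))

theorem height_vertex (h0 : ∀ a ∈ 𝒜 0, ∃ c : K, algebraMap K A c = a) {Q : Ideal A} (hQ : Q.IsHomogeneous 𝒜)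
    (p : Ideal (A ⧸ Q)) [p.IsPrime]
    (hp : p = (HomogeneousIdeal.irrelevant 𝒜).toIdeal.map (Ideal.Quotient.mk Q)) :
    (p.height : WithBot ℕ∞) = ringKrullDim (A ⧸ Q) := by
  classical
  refine le_antisymm Ideal.height_le_ringKrullDim_of_isPrime (iSup_le fun l => ?_)
  haveI := finiteType_of_noetherian 𝒜 h0
  let f := Ideal.Quotient.mk Q
  have hQne : Q ≠ ⊤ := fun h => by
    haveI : Subsingleton (A ⧸ Q) := Ideal.Quotient.subsingleton_iff.2 h
    exact Ideal.IsPrime.ne_top ‹p.IsPrime› (Subsingleton.elim _ _)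
  have hQP : Q ≤ (PrimeSpectrum.comap f l.head).asIdeal := fun x hx => by
    show f x ∈ l.head.asIdeal
    rw [Ideal.Quotient.eq_zero_iff_mem.2 hx]
    exact zero_mem _
  obtain ⟨P, hP, hPle⟩ := Ideal.exists_minimalPrimes_le hQP
  have hPhom : P.IsHomogeneous 𝒜 := by
    have hle : Q ≤ (P.homogeneousCore 𝒜).toIdeal :=
      (Ideal.homogeneousCore.gc 𝒜 (⟨Q, hQ⟩ : HomogeneousIdeal 𝒜) P).1 hP.1.2
    have hge : (P.homogeneousCore 𝒜).toIdeal ≤ P := Ideal.toIdeal_homogeneousCore_le _ _
    exact (Ideal.IsHomogeneous.iff_eq _ _).2 (le_antisymm hge (hP.2 ⟨hP.1.1.homogeneousCore, hle⟩ hge))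
  haveI := hP.1.1
  have hPM : P ≤ (HomogeneousIdeal.irrelevant 𝒜).toIdeal := le_irrelevant 𝒜 h0 hPhom hP.1.1.ne_top
  haveI : Algebra.FiniteType K (A ⧸ P) :=
    Algebra.FiniteType.of_surjective (Ideal.Quotient.mkₐ K P) Ideal.Quotient.mk_surjective
  let K' := ULift.{v} K
  let B' := ULift.{u} (A ⧸ P)
  letI : Algebra K' B' := ((algebraMap K B').comp (ULift.ringEquiv : K' ≃+* K).toRingHom).toAlgebra
  haveI : Algebra.FiniteType K B' := Algebra.FiniteType.equiv inferInstance ULift.algEquiv.symm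
  haveI : Algebra.FiniteType K' B' := RingHom.finiteType_algebraMap.1
    (RingHom.FiniteType.comp (RingHom.finiteType_algebraMap.2 (inferInstance : Algebra.FiniteType K B'))
      (RingHom.FiniteType.of_surjective (ULift.ringEquiv : K' ≃+* K).toRingHom (ULift.ringEquiv : K' ≃+* K).surjective))
  haveI : IsDomain B' := MulEquiv.isDomain (A ⧸ P) (ULift.ringEquiv : B' ≃+* A ⧸ P).toMulEquiv
  let eB : B' ≃+* A ⧸ P := ULift.ringEquiv
  obtain ⟨n, hn', -⟩ := VarDim.exists_dim_eq_trdeg K' B'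
  have hn : ringKrullDim (A ⧸ P) = n := (ringKrullDim_eq_of_ringEquiv eB).symm.trans hn'
  haveI hpmax : p.IsMaximal := by
    haveI : Nontrivial A := ⟨⟨1, 0, fun h => hQne ((Ideal.eq_top_iff_one _).2 (h ▸ zero_mem Q))⟩⟩
    have hne : (HomogeneousIdeal.irrelevant 𝒜).toIdeal ≠ ⊤ := fun h => Ideal.IsPrime.ne_top ‹p.IsPrime›
      (by rw [hp, h, Ideal.map_top])
    rcases Ideal.map_eq_top_or_isMaximal_of_surjective f Ideal.Quotient.mk_surjective
      (irrelevant_isMaximal 𝒜 h0 hne) with h | h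
    · exact absurd (hp.trans h) (Ideal.IsPrime.ne_top ‹_›)
    · rwa [hp]
  let g : A ⧸ Q →+* A ⧸ P := Ideal.Quotient.factor hP.1.2
  have hg : Function.Surjective g := Ideal.Quotient.factor_surjective hP.1.2
  have hmapmax : (p.map g).IsMaximal := by
    rcases Ideal.map_eq_top_or_isMaximal_of_surjective g hg hpmax with h | h
    · exfalso
      rw [hp, Ideal.map_map, show g.comp (Ideal.Quotient.mk Q) = Ideal.Quotient.mk P from Ideal.Quotient.factor_comp_mk _] at h
      have h' := congrArg (Ideal.comap (Ideal.Quotient.mk P)) h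
      rw [Ideal.comap_map_of_surjective _ Ideal.Quotient.mk_surjective, ← RingHom.ker_eq_comap_bot, Ideal.mk_ker,
        sup_eq_left.2 hPM, Ideal.comap_top] at h'
      refine Ideal.IsPrime.ne_top ‹p.IsPrime› ?_
      rw [hp, h', Ideal.map_top]
    · exact h
  let pP : PrimeSpectrum (A ⧸ P) := ⟨p.map g, hmapmax.isPrime⟩
  have hco : Order.coheight pP = 0 := by
    rw [Order.coheight_eq_zero]
    exact fun q hq => le_of_eq (PrimeSpectrum.ext (hmapmax.eq_of_le q.2.ne_top hq).symm)
  have hht : Order.height pP = n := by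
    have hord : Order.height pP + Order.coheight pP = n := by
      let o : PrimeSpectrum (A ⧸ P) ≃o PrimeSpectrum B' := PrimeSpectrum.comapEquiv eB.symm
      rw [← Order.height_orderIso o, ← Order.coheight_orderIso o]
      exact VarDim.height_add_coheight_eq K' n B' hn' (o pP)
    rwa [hco, add_zero] at hord
  have hlen : (l.length : WithBot ℕ∞) ≤ ringKrullDim (A ⧸ P) := by
    rw [ringKrullDim_quotient]
    refine le_iSup_of_le (f := fun c : LTSeries (PrimeSpectrum.zeroLocus (P : Set A)) => (c.length : WithBot ℕ∞))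
      { length := l.length
        toFun := fun i => ⟨PrimeSpectrum.comap f (l.toFun i), (PrimeSpectrum.mem_zeroLocus _ _).2
          (hPle.trans (Ideal.comap_mono (show l.head.asIdeal ≤ (l.toFun i).asIdeal from l.head_le i)))⟩
        step := fun i => lt_of_le_of_ne (Ideal.comap_mono (l.step i).le) fun h => by
          have h' : Ideal.comap f (l.toFun i.castSucc).asIdeal = Ideal.comap f (l.toFun i.succ).asIdeal := by
            simpa [Subtype.ext_iff, PrimeSpectrum.ext_iff] using h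
          exact (l.step i).ne (PrimeSpectrum.ext (Ideal.comap_injective_of_surjective f Ideal.Quotient.mk_surjective h')) } le_rfl
  refine hlen.trans ?_
  rw [hn, show p.height = Order.height (⟨p, inferInstance⟩ : PrimeSpectrum (A ⧸ Q)) from PrimeSpectrum.height_eq_orderHeight ⟨p, inferInstance⟩]
  have hcomap : PrimeSpectrum.comap g pP = ⟨p, inferInstance⟩ :=
    PrimeSpectrum.ext (hpmax.eq_of_le (Ideal.comap_ne_top _ hmapmax.ne_top) (Ideal.le_comap_map)).symm
  have hmono : StrictMono (PrimeSpectrum.comap g) := fun a b hab => lt_of_le_of_ne (Ideal.comap_mono hab.le) fun h =>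
    hab.ne (PrimeSpectrum.ext (Ideal.comap_injective_of_surjective g hg (congrArg PrimeSpectrum.asIdeal h)))
  have := Order.height_le_height_apply_of_strictMono _ hmono pP
  rw [hcomap, hht] at this
  exact_mod_cast this

end Groth.Agent.PlLib
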