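import Groth.Agent.PlLib.Smt
import Groth.Agent.PlLib.FftSL

/-! The opposite Schubert divisor on a Schubert variety. -/

universe u

namespace Groth.Agent.PlLib

open W4bk4grassmannian MvPolynomial

variable (K : Type u) [CommRing K] (d n : ℕ)

/-- Kill the top entries of the last column. -/
noncomputable def cut : MatRing K d n →ₐ[K] MatRing K d n :=
  aeval fun p : Fin n × Fin d => if p.2.val + 1 = d ∧ p.1.val < d then 0 else X p

variable {K d n}

theorem constantCoeff_cut (f : MatRing K d n) : constantCoeff (cut K d n f) = constantCoeff f := by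
  induction f using MvPolynomial.induction_on with
  | C a => simp [cut]
  | add p q hp hq => simp [hp, hq]
  | mul_X p i hp =>
    rw [map_mul, map_mul, map_mul, hp, constantCoeff_X]
    simp only [cut, aeval_X]
    split_ifs <;> simp

theorem mask_cut (θ : Idx d n) (f : MatRing K d n) : mask K θ (cut K d n f) = cut K d n (mask K θ f) := by
  suffices h : (mask K θ).comp (cut K d n) = (cut K d n).comp (mask K θ) from AlgHom.congr_fun h f
  refine MvPolynomial.algHom_ext fun p => ?_
  simp only [AlgHom.comp_apply, cut, mask, aeval_X]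
  split_ifs <;> simp_all

theorem le_last_of_ne_bot (hd : 0 < d) (hdn : d ≤ n) {w : Idx d n} (hw : w ≠ botIdx hdn) :
    d ≤ (w.1 ⟨d - 1, by omega⟩ : ℕ) := by
  by_contra hlt
  have hall : ∀ t, (w.1 t : ℕ) < d := fun t => by
    have : (w.1 t : ℕ) ≤ w.1 ⟨d - 1, by omega⟩ := w.2.monotone (Fin.le_def.2 (by simp only; omega))
    omega
  refine hw (le_antisymm (fun t => Fin.le_def.2 ?_) fun t => Fin.le_def.2 (val_le_emb w.2 t))
  have := le_topIdx (le_refl d) ⟨fun t => ⟨(w.1 t : ℕ), hall t⟩, fun a b h => Fin.lt_def.2 (w.2 h)⟩ t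
  simp only [topIdx, botIdx, Fin.le_def] at this ⊢
  omega

theorem cut_X_self_mul_cancel (hd : 0 < d) (hdn : d ≤ n) {w : Idx d n} (hw : w ≠ botIdx hdn) {f : MatRing K d n}
    (h : cut K d n (psi K w (X w)) * f = 0) : f = 0 := by
  have : cut K d n (psi K w (X w)) = psi K w (X w) := by
    rw [psi_X_self, map_prod]
    refine Finset.prod_congr rfl fun t _ => ?_
    rw [cut, aeval_X, if_neg]
    rintro ⟨h1, h2⟩
    have := le_last_of_ne_bot hd hdn hw
    have ht : t = (⟨d - 1, by omega⟩ : Fin d) := Fin.ext (by simp only at h1 ⊢; omega)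
    rw [← ht] at this
    simp only at h2
    omega
  rw [this] at h
  exact psi_X_self_mul_cancel h

variable (K) in
theorem sum_cut_eq_zero (hd : 0 < d) (hdn : d ≤ n) : ∀ (w : Idx d n) (D : ℕ) (s : Finset (Std w)) (a : Std w → K),
    (∀ x ∈ s, x.1 ≤ D) → (∀ x ∈ s, ∀ k, x.2.1 k ≠ botIdx hdn) → ∑ x ∈ s, a x • cut K d n (psi K w (chainMon K x.2.1)) = 0 → ∀ x ∈ s, a x = 0 := by
  classical
  intro w
  induction w using (IsWellFounded.wf (r := ((· < ·) : Idx d n → Idx d n → Prop))).induction with
  | _ w ihw =>
  intro D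
  induction D with
  | zero =>
    intro s a hD hbot hsum x hx
    have h0 := congrArg constantCoeff hsum
    rw [map_sum, map_zero, Finset.sum_eq_single x] at h0
    · obtain ⟨m, c, hc⟩ := x
      obtain rfl : m = 0 := Nat.le_zero.1 (hD _ hx)
      simpa [chainMon, constantCoeff_cut] using h0
    · intro y hy hyx
      exfalso
      apply hyx
      obtain ⟨m, c, hc⟩ := x
      obtain ⟨m', c', hc'⟩ := y
      obtain rfl : m = 0 := Nat.le_zero.1 (hD _ hx)
      obtain rfl : m' = 0 := Nat.le_zero.1 (hD _ hy)
      exact Sigma.ext rfl (heq_of_eq (Subtype.ext (funext fun k => k.elim0)))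
    · exact fun h => absurd hx h
  | succ D ihD =>
    intro s a hD hbot hsum
    -- the monomials lying below some `θ < w`
    have hsmall : ∀ (θ : Idx d n), θ < w → ∀ x ∈ s, (∀ k, x.2.1 k ≤ θ) → a x = 0 := by
      intro θ hθ x hx hxθ
      have hsum' : ∑ y ∈ s, a y • cut K d n (psi K θ (chainMon K y.2.1)) = 0 := by
        have := congrArg (mask K θ) hsum
        simpa [map_sum, map_smul, mask_cut, mask_psi K hθ.le] using this
      let incl : Std θ → Std w := fun y => ⟨y.1, y.2.1, y.2.2.1, fun k => (y.2.2.2 k).trans hθ.le⟩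
      have hincl : Function.Injective incl := by
        rintro ⟨m, c, hc⟩ ⟨m', c', hc'⟩ he
        simp only [incl, Sigma.mk.injEq] at he
        obtain ⟨rfl, he⟩ := he
        have := congrArg Subtype.val (eq_of_heq he)
        dsimp only at this
        subst this
        rfl
      have key := ihw θ hθ ((s.preimage incl hincl.injOn).sup fun y => y.1) (s.preimage incl hincl.injOn)
        (a ∘ incl) (fun y hy => Finset.le_sup (f := fun y : Std θ => y.1) hy)
        (fun y hy => hbot _ (Finset.mem_preimage.1 hy)) ?_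
      · exact key ⟨x.1, x.2.1, x.2.2.1, hxθ⟩ (Finset.mem_preimage.2 (by exact hx))
      · rw [← hsum']
        refine (Finset.sum_preimage incl s hincl.injOn (fun y => a y • cut K d n (psi K θ (chainMon K y.2.1))) ?_)
        intro y _ hy
        rw [psi_chainMon_eq_zero (fun h => hy ⟨⟨y.1, y.2.1, y.2.2.1, h⟩, rfl⟩), map_zero, smul_zero]
    -- the empty monomial
    have hempty : ∀ x ∈ s, x.1 = 0 → a x = 0 := by
      intro x hx hx0
      have h0 := congrArg constantCoeff hsum
      rw [map_sum, map_zero, Finset.sum_eq_single x] at h0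
      · obtain ⟨m, c, hc⟩ := x
        obtain rfl : m = 0 := hx0
        simpa [chainMon, constantCoeff_cut] using h0
      · intro y _ hyx
        obtain ⟨m', c', hc'⟩ := y
        cases m' with
        | zero =>
          exfalso
          apply hyx
          obtain ⟨m, c, hc⟩ := x
          obtain rfl : m = 0 := hx0
          exact Sigma.ext rfl (heq_of_eq (Subtype.ext (funext fun k => k.elim0)))
        | succ m' => simp [chainMon_succ, constantCoeff_psi_X hd, smul_eq_C_mul, constantCoeff_cut]
      · exact fun h => absurd hx h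
    -- strip the leading `w`
    let cons : Std w → Std w := fun y => ⟨y.1 + 1, Fin.cons w y.2.1, by
      intro i j hij
      cases j using Fin.cases with
      | zero => rw [Fin.le_zero_iff.1 hij]
      | succ j =>
        cases i using Fin.cases with
        | zero => simpa using y.2.2.2 j
        | succ i => simpa using y.2.2.1 (Fin.succ_le_succ_iff.1 hij), fun k => by
      cases k using Fin.cases with
      | zero => simp
      | succ k => simpa using y.2.2.2 k⟩
    have hcons : Function.Injective cons := by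
      rintro ⟨m, c, hc⟩ ⟨m', c', hc'⟩ he
      simp only [cons, Sigma.mk.injEq, Nat.add_right_cancel_iff] at he
      obtain ⟨rfl, he⟩ := he
      have := (Fin.cons_right_injective (α := fun _ : Fin (m + 1) => Idx d n) w)
        (congrArg Subtype.val (eq_of_heq he))
      subst this
      rfl
    have hrange : ∀ x ∈ s, x ∉ Set.range cons → a x = 0 := by
      rintro ⟨m, c, hc⟩ hx hnot
      cases m with
      | zero => exact hempty _ hx rfl
      | succ m =>
        have htop : c 0 < w := lt_of_le_of_ne (hc.2 0) fun e =>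
          hnot ⟨⟨m, Fin.tail c, fun i j h => hc.1 (Fin.succ_le_succ_iff.2 h), fun k => hc.2 _⟩,
            Sigma.ext rfl (heq_of_eq (Subtype.ext (by
              show Fin.cons w (Fin.tail c) = c
              rw [← e, Fin.cons_self_tail])))⟩
        exact hsmall _ htop _ hx fun k => hc.1 (Fin.zero_le k)
    have hs' : ∑ y ∈ s.preimage cons hcons.injOn, a (cons y) • cut K d n (psi K w (chainMon K y.2.1)) = 0 := by
      rcases (s.preimage cons hcons.injOn).eq_empty_or_nonempty with he | ⟨y₀, hy₀⟩
      · rw [he, Finset.sum_empty]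
      have hwb : w ≠ botIdx hdn := by simpa [cons] using hbot _ (Finset.mem_preimage.1 hy₀) (0 : Fin (y₀.1 + 1))
      refine cut_X_self_mul_cancel hd hdn hwb ?_
      rw [Finset.mul_sum, ← hsum, ← Finset.sum_preimage cons s hcons.injOn
        (fun y => a y • cut K d n (psi K w (chainMon K y.2.1))) fun y hy hy' => by rw [hrange y hy hy', zero_smul]]
      refine Finset.sum_congr rfl fun y _ => ?_
      rw [mul_smul_comm, ← map_mul, ← map_mul]
      show _ = a (cons y) • cut K d n (psi K w (chainMon K (Fin.cons w y.2.1)))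
      rw [chainMon_succ (Fin.cons w y.2.1)]
      simp
    have hkey := ihD _ (a ∘ cons) (fun y hy => by
      have := hD _ (Finset.mem_preimage.1 hy)
      simp only [cons] at this
      omega) (fun y hy k => by simpa [cons] using hbot _ (Finset.mem_preimage.1 hy) (Fin.succ k : Fin (y.1 + 1))) hs'
    intro x hx
    by_cases hr : x ∈ Set.range cons
    · obtain ⟨y, rfl⟩ := hr
      exact hkey y (Finset.mem_preimage.2 hx)
    · exact hrange x hx hr

theorem cut_psi_X_bot (hd : 0 < d) (hdn : d ≤ n) (w : Idx d n) :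
    cut K d n (psi K w (X (botIdx hdn))) = 0 := by
  rw [psi, ev_X, AlgHom.map_det]
  refine Matrix.det_eq_zero_of_column_eq_zero ⟨d - 1, by omega⟩ fun i => ?_
  simp only [AlgHom.mapMatrix_apply, Matrix.map_apply, Matrix.submatrix_apply, id_eq, stair, Matrix.of_apply]
  split_ifs
  · rw [cut, aeval_X, if_pos ⟨by simp only; omega, by simp [botIdx, i.2]⟩]
  · exact map_zero _

theorem ker_cut_psi (hd : 0 < d) (hdn : d ≤ n) (w : Idx d n) :
    RingHom.ker ((cut K d n).comp (psi K w)).toRingHom = plIdeal K w ⊔ Ideal.span {X (botIdx hdn)} := by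
  classical
  refine le_antisymm (fun f hf => ?_) (sup_le (fun f hf => ?_) ?_)
  · replace hf : cut K d n (psi K w f) = 0 := hf
    obtain ⟨l, hl⟩ := exists_std_decomp f
    set P := fun x : AllStd d n => (∀ k, x.2.1 k ≤ w) ∧ ∀ k, x.2.1 k ≠ botIdx hdn
    have hbad : ∀ x : AllStd d n, ¬ P x → l x • chainMon K x.2.1 ∈ plIdeal K w ⊔ Ideal.span {X (botIdx hdn)} := by
      intro x hx
      by_cases hw : ∀ k, x.2.1 k ≤ w
      · obtain ⟨k, hk⟩ : ∃ k, x.2.1 k = botIdx hdn := by simpa [P, hw] using hx
        refine Ideal.mem_sup_right (Submodule.smul_of_tower_mem _ _ ?_)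
        rw [chainMon, ← Finset.mul_prod_erase _ _ (Finset.mem_univ k), hk]
        exact Ideal.mul_mem_right _ _ (Ideal.subset_span rfl)
      · exact Ideal.mem_sup_left (Submodule.smul_of_tower_mem _ _ (chainMon_mem_plIdeal hw))
    have hzero : ∀ g ∈ plIdeal K w ⊔ Ideal.span {X (botIdx hdn)}, cut K d n (psi K w g) = 0 := by
      intro g hg
      obtain ⟨j, hj, z, hz, rfl⟩ := Submodule.mem_sup.1 hg
      obtain ⟨y, rfl⟩ := Ideal.mem_span_singleton'.1 hz
      rw [map_add, map_add, show psi K w j = 0 from plIdeal_le_ker_psi w hj, map_zero, zero_add, map_mul,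
        map_mul, cut_psi_X_bot hd hdn, mul_zero]
    have hl' : f - ∑ x ∈ l.support.filter P, l x • chainMon K x.2.1 ∈ plIdeal K w ⊔ Ideal.span {X (botIdx hdn)} := by
      have h2 : f - ∑ x ∈ l.support, l x • chainMon K x.2.1 ∈ plIdeal K w ⊔ Ideal.span {X (botIdx hdn)} :=
        Ideal.mem_sup_left (plIdealTop_le_plIdeal w hl)
      rw [← Finset.sum_filter_add_sum_filter_not l.support P] at h2
      have h3 : ∑ x ∈ l.support.filter fun x => ¬ P x, l x • chainMon K x.2.1 ∈
          plIdeal K w ⊔ Ideal.span {X (botIdx hdn)} :=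
        Submodule.sum_mem _ fun x hx => hbad x (Finset.mem_filter.1 hx).2
      have h4 := add_mem h2 h3
      rwa [show f - (∑ x ∈ l.support.filter P, l x • chainMon K x.2.1 + ∑ x ∈ l.support.filter (fun x => ¬ P x),
        l x • chainMon K x.2.1) + ∑ x ∈ l.support.filter (fun x => ¬ P x), l x • chainMon K x.2.1
        = f - ∑ x ∈ l.support.filter P, l x • chainMon K x.2.1 by abel] at h4
    have hsum := hzero _ hl'
    rw [map_sub, map_sub, hf, zero_sub, neg_eq_zero, map_sum, map_sum] at hsum
    have hcoeff : ∀ x ∈ l.support.filter P, l x = 0 := by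
      intro x hx
      let incl : Std w → AllStd d n := fun y => ⟨y.1, y.2.1, y.2.2.1⟩
      have hincl : Function.Injective incl := by
        rintro ⟨m, c, hc⟩ ⟨m', c', hc'⟩ he
        simp only [incl, Sigma.mk.injEq] at he
        obtain ⟨rfl, he⟩ := he
        have := congrArg Subtype.val (eq_of_heq he)
        dsimp only at this
        subst this
        rfl
      refine sum_cut_eq_zero K hd hdn w (((l.support.filter P).preimage incl hincl.injOn).sup fun y => y.1)
        ((l.support.filter P).preimage incl hincl.injOn) (l ∘ incl)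
        (fun y hy => Finset.le_sup (f := fun y : Std w => y.1) hy)
        (fun y hy k => (Finset.mem_filter.1 (Finset.mem_preimage.1 hy)).2.2 k) ?_
        ⟨x.1, x.2.1, x.2.2, (Finset.mem_filter.1 hx).2.1⟩ (Finset.mem_preimage.2 hx)
      rw [← hsum]
      simp only [map_smul, Function.comp_apply]
      refine Finset.sum_preimage incl _ hincl.injOn (fun y => l y • cut K d n (psi K w (chainMon K y.2.1))) ?_
      intro y hy hy'
      exact absurd ⟨⟨y.1, y.2.1, y.2.2, (Finset.mem_filter.1 hy).2.1⟩, rfl⟩ hy'
    rw [Finset.sum_eq_zero fun x hx => by rw [hcoeff x hx, zero_smul], sub_zero] at hl'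
    exact hl'
  · show cut K d n (psi K w f) = 0
    rw [show psi K w f = 0 from plIdeal_le_ker_psi w hf, map_zero]
  · rw [Ideal.span_singleton_le_iff_mem]
    exact cut_psi_X_bot hd hdn w

theorem prime_mk_X_bot [IsDomain K] (hd : 0 < d) (hdn : d ≤ n) (w : Idx d n) :
    Prime (Ideal.Quotient.mk (plIdeal K w) (X (botIdx hdn))) := by
  have hne : Ideal.Quotient.mk (plIdeal K w) (X (botIdx hdn)) ≠ 0 := fun h => by
    have h' : psi K w (X (botIdx hdn)) = 0 := plIdeal_le_ker_psi w (Ideal.Quotient.eq_zero_iff_mem.1 h)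
    have h'' := congrArg (mask K (botIdx hdn)) h'
    rw [mask_psi K (fun t => Fin.le_def.2 (val_le_emb w.2 t)), map_zero, psi_X_self] at h''
    exact Finset.prod_ne_zero_iff.2 (fun t _ => X_ne_zero _) h''
  rw [← Ideal.span_singleton_prime hne, show Ideal.span {Ideal.Quotient.mk (plIdeal K w) (X (botIdx hdn))} =
      (plIdeal K w ⊔ Ideal.span {X (botIdx hdn)}).map (Ideal.Quotient.mk (plIdeal K w)) by
    rw [Ideal.map_sup, Ideal.map_quotient_self, bot_sup_eq, Ideal.map_span, Set.image_singleton]]
  haveI : (plIdeal K w ⊔ Ideal.span {X (botIdx hdn)}).IsPrime := by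
    rw [← ker_cut_psi hd hdn w]
    exact RingHom.ker_isPrime _
  exact Ideal.map_isPrime_of_surjective Ideal.Quotient.mk_surjective (by rw [Ideal.mk_ker]; exact le_sup_left)

end Groth.Agent.PlLib
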