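import Groth.Agent.PlLib.DetBasis
import Groth.Agent.PlLib.Basic

/-! Invariant theory of pairs of matrices. -/

universe u

namespace Groth.Agent.PlLib

open W4bk4grassmannian MvPolynomial

variable {K : Type u} [Field K] {m n q : ℕ}

/-- Evaluation of a function of pairs of matrices. -/
noncomputable def evPair (U : Matrix (Fin m) (Fin n) K) (W : Matrix (Fin n) (Fin q) K) :
    PairRing K n m q →ₐ[K] K :=
  aeval (Sum.elim (fun p => U p.1 p.2) fun p => W p.1 p.2)

theorem evPair_pairingMap (U : Matrix (Fin m) (Fin n) K) (W : Matrix (Fin n) (Fin q) K)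
    (P : MvPolynomial (Fin m × Fin q) K) :
    evPair U W (pairingMap K n m q P) = eval (fun p => (U * W) p.1 p.2) P := by
  rw [← AlgHom.comp_apply, evPair, pairingMap, comp_aeval]
  simp [aeval_eq_eval, Matrix.mul_apply]

theorem evPair_glTranslate (U : Matrix (Fin m) (Fin n) K) (W : Matrix (Fin n) (Fin q) K) (A : GL (Fin n) K)
    (f : PairRing K n m q) :
    evPair U W (glTranslate K n m q A f) =
      evPair (U * ((A⁻¹ : GL (Fin n) K) : Matrix (Fin n) (Fin n) K)) ((A : Matrix (Fin n) (Fin n) K) * W) f := by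
  rw [← AlgHom.comp_apply, evPair, glTranslate, comp_aeval, evPair]
  refine AlgHom.congr_fun (MvPolynomial.algHom_ext fun p => ?_) f
  rcases p with p | p <;> simp [Matrix.mul_apply]

theorem pair_funext [Infinite K] {f g : PairRing K n m q}
    (h : ∀ (U : Matrix (Fin m) (Fin n) K) (W : Matrix (Fin n) (Fin q) K), evPair U W f = evPair U W g) :
    f = g := by
  refine MvPolynomial.funext fun x => ?_
  have := h (Matrix.of fun i k => x (Sum.inl (i, k))) (Matrix.of fun k j => x (Sum.inr (k, j)))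
  have hx : (Sum.elim (fun p : Fin m × Fin n => x (Sum.inl (p.1, p.2)))
      fun p : Fin n × Fin q => x (Sum.inr (p.1, p.2))) = x := by ext (p | p) <;> rfl
  simpa [evPair, aeval_eq_eval, hx] using this

theorem pairingMap_minor_eq_zero (R : Type u) [CommRing R] {a : Fin (n + 1) → Fin m} {b : Fin (n + 1) → Fin q} :
    pairingMap R n m q ((genMatrix R m q).submatrix a b).det = 0 := by
  rw [AlgHom.map_det]
  let U' : Matrix (Fin (n + 1)) (Fin (n + 1)) (PairRing R n m q) :=
    Matrix.of fun x => Fin.snoc (fun k => X (Sum.inl (a x, k))) 0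
  let W' : Matrix (Fin (n + 1)) (Fin (n + 1)) (PairRing R n m q) :=
    Matrix.of fun k y => Fin.snoc (α := fun _ => PairRing R n m q) (fun k => X (Sum.inr (k, b y))) 0 k
  have h : (pairingMap R n m q).mapMatrix ((genMatrix R m q).submatrix a b) = U' * W' := by
    refine Matrix.ext fun x y => ?_
    simp only [Matrix.mul_apply, Fin.sum_univ_castSucc]
    simp [U', W', pairingMap, genMatrix]
  rw [h, Matrix.det_mul, Matrix.det_eq_zero_of_column_eq_zero (Fin.last n) (fun x => by simp [U']), zero_mul]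

theorem exists_factor {Z : Matrix (Fin m) (Fin q) K} (hZ : minorsVanish (n + 1) Z) :
    ∃ (U : Matrix (Fin m) (Fin n) K) (W : Matrix (Fin n) (Fin q) K), Z = U * W := by
  classical
  set N := Submodule.span K (Set.range Z.transpose) with hN
  have hrank : Module.finrank K N ≤ n := by
    by_contra hlt
    obtain ⟨κ, b, hb, hsp, hli⟩ := exists_linearIndependent' K Z.transpose
    haveI : Finite κ := Finite.of_injective b hb
    cases nonempty_fintype κ
    have hcard : n + 1 ≤ Fintype.card κ := by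
      have h1 : Module.finrank K (Submodule.span K (Set.range (Z.transpose ∘ b))) = Fintype.card κ :=
        finrank_span_eq_card hli
      rw [hsp, ← hN] at h1
      omega
    let e : Fin (n + 1) → κ := fun x => (Fintype.equivFin κ).symm (Fin.castLE hcard x)
    have he : Function.Injective e := (Fintype.equivFin κ).symm.injective.comp (Fin.castLE_injective _)
    obtain ⟨a, ha⟩ := exists_minor_ne_zero (Z.submatrix id (b ∘ e))
      (by exact hli.comp e he)
    exact ha (hZ a (b ∘ e))
  let e := Module.finBasis K N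
  refine ⟨Matrix.of fun i l => if h : l.val < Module.finrank K N then (e ⟨l.val, h⟩).1 i else 0,
    Matrix.of fun l j => if h : l.val < Module.finrank K N then
      e.repr ⟨Z.transpose j, Submodule.subset_span ⟨j, rfl⟩⟩ ⟨l.val, h⟩ else 0, ?_⟩
  refine Matrix.ext fun i j => ?_
  have hcol := congrArg (fun v : N => (v : Fin m → K) i) (e.sum_repr ⟨Z.transpose j, Submodule.subset_span ⟨j, rfl⟩⟩)
  simp only [Submodule.coe_sum, Submodule.coe_smul, Finset.sum_apply, Pi.smul_apply, smul_eq_mul] at hcol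
  rw [show Z i j = Z.transpose j i from rfl, ← hcol, Matrix.mul_apply]
  refine Finset.sum_of_injOn (Fin.castLE hrank) (Fin.castLE_injective _).injOn
    (fun _ _ => Finset.mem_coe.2 (Finset.mem_univ _)) (fun l _ hl => ?_) (fun l _ => ?_)
  · simp only [Matrix.of_apply]
    rw [dif_neg]
    · exact zero_mul _
    · exact fun h => hl ⟨⟨l.val, h⟩, Finset.mem_coe.2 (Finset.mem_univ _), Fin.ext rfl⟩
  · simp only [Matrix.of_apply, Fin.val_castLE]
    rw [dif_pos l.isLt, dif_pos l.isLt, Fin.eta, mul_comm]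

theorem eval_revRows (Z : Matrix (Fin m) (Fin q) K) (f : MvPolynomial (Fin m × Fin q) K) :
    eval (fun p => Z p.1 p.2) (revRows K m q f) = eval (fun p => Z p.1.rev p.2) f := by
  show (aeval fun p : Fin m × Fin q => Z p.1 p.2) (revRows K m q f) = _
  rw [revRows, ← AlgHom.comp_apply, comp_aeval]
  simp [aeval_eq_eval]

/-- The Schubert index of the matrices of rank at most `n`. -/
abbrev rankIdx (m n q : ℕ) : Idx q (q + m) :=
  cellPhi q m (min n (min m q)) ((min_le_right _ _).trans (min_le_right _ _))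
    ((min_le_right _ _).trans (min_le_left _ _))

theorem exists_factor_of_cond {w : Idx q (q + m)} (hw : w ≤ rankIdx m n q) {Z : Matrix (Fin m) (Fin q) K}
    (hZ : ∀ θ : Idx q (q + m), ¬ θ ≤ w → ((blockMat Z).submatrix θ.1 id).det = 0) :
    ∃ (U : Matrix (Fin m) (Fin n) K) (W : Matrix (Fin n) (Fin q) K),
      (Matrix.of fun i j => Z i.rev j) = U * W := by
  refine exists_factor fun a b => ?_
  have hmem : ((genMatrix K m q).submatrix (Fin.rev ∘ a) b).det ∈ cellIdeal K (rankIdx m n q) := by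
    rw [cellIdeal_cellPhi K _ _ (t := n + 1) fun s hs hs' => by omega]
    exact Ideal.subset_span ⟨(Fin.rev ∘ a, b), rfl⟩
  have := eval_mem_cellIdeal (fun θ hθ => hZ θ fun h => hθ (h.trans hw)) hmem
  rw [RingHom.map_det] at this
  rw [← this]
  congr 1
  ext x y : 1
  simp [genMatrix]

theorem exists_bitab_decomp (P : MvPolynomial (Fin m × Fin q) K) :
    ∃ l : Bitab m q (n + 1) →₀ K,
      P - ∑ x ∈ l.support, l x • ∏ i, minorOf K (x.2.1 i) ∈ CAlgX.minorIdeal (genMatrix K m q) (n + 1) := by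
  have h := span_bitab (m := m) (n := q) K (σ := min n (min m q)) (t := n + 1)
    ((min_le_right _ _).trans (min_le_right _ _)) ((min_le_right _ _).trans (min_le_left _ _))
    fun s hs hs' => by omega
  have hP : Ideal.Quotient.mk (CAlgX.minorIdeal (genMatrix K m q) (n + 1)) P ∈ (⊤ : Submodule K _) :=
    Submodule.mem_top
  rw [← h] at hP
  obtain ⟨l, hl⟩ := Finsupp.mem_span_range_iff_exists_finsupp.1 hP
  refine ⟨l, ?_⟩
  rw [← Ideal.Quotient.eq, map_sum, ← hl]
  exact Finset.sum_congr rfl fun x _ => (map_smul (Ideal.Quotient.mkₐ K _) (l x) _).symm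

theorem pairingMap_eq_zero_of_mem {f : MvPolynomial (Fin m × Fin q) K}
    (hf : f ∈ CAlgX.minorIdeal (genMatrix K m q) (n + 1)) : pairingMap K n m q f = 0 := by
  refine (Ideal.span_le (I := RingHom.ker (pairingMap K n m q).toRingHom)).2 ?_ hf
  rintro _ ⟨⟨a, b⟩, rfl⟩
  exact pairingMap_minor_eq_zero K

theorem ker_pairingMap [Infinite K] (m n q : ℕ) :
    RingHom.ker (pairingMap K n m q).toRingHom = CAlgX.minorIdeal (genMatrix K m q) (n + 1) := by
  refine le_antisymm (fun P hP => ?_) fun P hP => pairingMap_eq_zero_of_mem hP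
  replace hP : pairingMap K n m q P = 0 := hP
  rcases Nat.eq_zero_or_pos q with rfl | hq
  · rw [eq_C_of_isEmpty P, ← MvPolynomial.algebraMap_eq, AlgHom.commutes, map_eq_zero] at hP
    rw [eq_C_of_isEmpty P, hP, map_zero]
    exact zero_mem _
  obtain ⟨l, hl⟩ := exists_bitab_decomp (n := n) P
  suffices h : ∀ x ∈ l.support, l x = 0 by
    rwa [Finset.sum_eq_zero fun x hx => by rw [h x hx, zero_smul], sub_zero] at hl
  intro x hx
  refine coeff_eq_zero_bitab hq (w := rankIdx m n q) l.support l (fun Z hZ => ?_) x hx fun i => ?_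
  · obtain ⟨U, W, hUW⟩ := exists_factor_of_cond le_rfl hZ
    rw [eval_revRows, show (fun p : Fin m × Fin q => Z p.1.rev p.2) = fun p => (U * W) p.1 p.2 by rw [← hUW]; rfl,
      ← evPair_pairingMap]
    have := pairingMap_eq_zero_of_mem hl
    rw [map_sub, hP, zero_sub, neg_eq_zero] at this
    rw [this, map_zero]
  · rw [le_cellPhi_iff, upperSize_minorTheta]
    have hs := x.2.2.1 i
    have ha : (x.2.1 i).1 + 1 ≤ m := by simpa using Fintype.card_le_of_injective _ (x.2.1 i).2.1.2.injective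
    have hb : (x.2.1 i).1 + 1 ≤ q := by simpa using Fintype.card_le_of_injective _ (x.2.1 i).2.2.2.injective
    omega

section Fft

variable [Infinite K] {k : ℕ}

/-- The leading minor of size `k + 1`. -/
def leadMinor (hm : k + 1 ≤ m) (hq : k + 1 ≤ q) : MinorIdx m q :=
  ⟨k, ⟨Fin.castLE hm, fun _ _ h => h⟩, ⟨Fin.castLE hq, fun _ _ h => h⟩⟩

theorem minorGE_leadMinor (hm : k + 1 ≤ m) (hq : k + 1 ≤ q) {M : MinorIdx m q} (h : M.1 ≤ k) :
    MinorGE M (leadMinor hm hq) := by
  refine ⟨h, fun j j' hj => ⟨Fin.le_def.2 ?_, Fin.le_def.2 ?_⟩⟩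
  · show j'.val ≤ _
    rw [← hj]; exact val_le_emb M.2.1.2 j
  · show j'.val ≤ _
    rw [← hj]; exact val_le_emb M.2.2.2 j

theorem evPair_lead (hm : k + 1 ≤ m) (hq : k + 1 ≤ q) (U : Matrix (Fin m) (Fin (k + 1)) K)
    (W : Matrix (Fin (k + 1)) (Fin q) K) :
    evPair U W (pairingMap K (k + 1) m q (minorOf K (leadMinor hm hq))) =
      (U.submatrix (Fin.castLE hm) id).det * (W.submatrix id (Fin.castLE hq)).det := by
  rw [evPair_pairingMap]
  show eval _ ((genMatrix K m q).submatrix (Fin.castLE hm) (Fin.castLE hq)).det = _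
  rw [RingHom.map_det, ← Matrix.det_mul]
  congr 1
  ext x y : 1
  simp [genMatrix, Matrix.mul_apply]

theorem pairingMap_lead_ne_zero (hm : k + 1 ≤ m) (hq : k + 1 ≤ q) :
    pairingMap K (k + 1) m q (minorOf K (leadMinor hm hq)) ≠ 0 := by
  intro h
  have := evPair_lead (K := K) hm hq (Matrix.of fun i l => if i.val = l.val then 1 else 0)
    (Matrix.of fun l j => if l.val = j.val then 1 else 0)
  rw [h, map_zero] at this
  have h1 : (Matrix.of fun (i : Fin m) (l : Fin (k + 1)) => if i.val = l.val then (1 : K) else 0).submatrix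
      (Fin.castLE hm) id = 1 := by ext x y : 1; simp [Matrix.one_apply, Fin.ext_iff]
  have h2 : (Matrix.of fun (l : Fin (k + 1)) (j : Fin q) => if l.val = j.val then (1 : K) else 0).submatrix
      id (Fin.castLE hq) = 1 := by ext x y : 1; simp [Matrix.one_apply, Fin.ext_iff]
  rw [h1, h2, Matrix.det_one, one_mul] at this
  exact zero_ne_one this

theorem exists_pairing_eq_pow_mul (hm : k + 1 ≤ m) (hq : k + 1 ≤ q) {f : PairRing K (k + 1) m q}
    (hf : ∀ A : GL (Fin (k + 1)) K, glTranslate K (k + 1) m q A f = f) :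
    ∃ (N : ℕ) (P : MvPolynomial (Fin m × Fin q) K), pairingMap K (k + 1) m q P =
      pairingMap K (k + 1) m q (minorOf K (leadMinor hm hq)) ^ N * f := by
  classical
  set N := f.totalDegree
  set D := minorOf K (leadMinor (k := k) hm hq) with hD
  let sub : (Fin m × Fin (k + 1)) ⊕ (Fin (k + 1) × Fin q) → MvPolynomial (Fin m × Fin q) K :=
    Sum.elim (fun p => ((genMatrix K m q).submatrix (Function.update (Fin.castLE hm) p.2 p.1) (Fin.castLE hq)).det)
      fun p => X (Fin.castLE hm p.1, p.2)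
  let exc : ((Fin m × Fin (k + 1)) ⊕ (Fin (k + 1) × Fin q) →₀ ℕ) → ℕ :=
    fun e => ∑ p ∈ e.support, if p.isLeft then e p else 0
  refine ⟨N, ∑ e ∈ f.support, f.coeff e • ((∏ p ∈ e.support, sub p ^ e p) * D ^ (N - exc e)), ?_⟩
  refine mul_left_cancel₀ (pairingMap_lead_ne_zero hm hq) (pair_funext fun U W => ?_)
  rw [map_mul, map_mul (evPair U W), evPair_lead, map_mul, map_pow, evPair_lead, evPair_pairingMap]
  set U0 := U.submatrix (Fin.castLE hm) id with hU0
  set W0 := W.submatrix id (Fin.castLE hq) with hW0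
  by_cases h0 : U0.det * W0.det = 0
  · rw [h0, zero_mul, zero_mul]
  congr 1
  have hu : U0.det ≠ 0 := left_ne_zero_of_mul h0
  have hw : W0.det ≠ 0 := right_ne_zero_of_mul h0
  let g : GL (Fin (k + 1)) K := Matrix.GeneralLinearGroup.mkOfDetNeZero U0 hu
  have hginv : ((g⁻¹ : GL (Fin (k + 1)) K) : Matrix (Fin (k + 1)) (Fin (k + 1)) K) = U0⁻¹ :=
    Matrix.coe_units_inv g
  have hfA : evPair U W f = evPair (U * U0⁻¹) (U0 * W) f := by
    rw [← hginv, show U0 = (g : Matrix (Fin (k + 1)) (Fin (k + 1)) K) from rfl, ← evPair_glTranslate, hf g]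
  let MS : Matrix (Fin m) (Fin (k + 1)) K := (U * W).submatrix id (Fin.castLE hq)
  have hMS : MS.submatrix (Fin.castLE hm) id = U0 * W0 := by
    ext x y : 1
    simp [MS, hU0, hW0, Matrix.mul_apply]
  have hMSdet : (MS.submatrix (Fin.castLE hm) id).det = U0.det * W0.det := by rw [hMS, Matrix.det_mul]
  have hUinv : U * U0⁻¹ = MS * (MS.submatrix (Fin.castLE hm) id)⁻¹ := by
    rw [hMS, Matrix.mul_inv_rev, show MS = U * W0 from rfl, Matrix.mul_assoc, ← Matrix.mul_assoc W0,
      Matrix.mul_nonsing_inv W0 (Ne.isUnit hw), Matrix.one_mul]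
  have hsub : ∀ p, Sum.elim (fun p : Fin m × Fin (k + 1) => (U * U0⁻¹) p.1 p.2)
      (fun p : Fin (k + 1) × Fin q => (U0 * W) p.1 p.2) p =
      eval (fun p : Fin m × Fin q => (U * W) p.1 p.2) (sub p) * if p.isLeft then (U0.det * W0.det)⁻¹ else 1 := by
    rintro (p | p)
    · simp only [Sum.elim_inl, Sum.isLeft_inl, if_true, sub]
      rw [RingHom.map_det, hUinv, eq_mul_inv_iff_mul_eq₀ h0, ← hMSdet,
        mul_inv_apply MS _ (hMSdet.symm ▸ h0) p.1 p.2]
      congr 1
      ext x y : 1
      simp [MS, genMatrix]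
    · simp only [Sum.elim_inr, Sum.isLeft_inr, Bool.false_eq_true, if_false, mul_one, sub, eval_X]
      simp [hU0, Matrix.mul_apply]
  rw [hfA, evPair, aeval_eq_eval, map_sum, eval_eq, Finset.mul_sum]
  refine Finset.sum_congr rfl fun e he => ?_
  have hexc : exc e ≤ N := by
    refine le_trans (Finset.sum_le_sum fun p _ => ?_) (le_totalDegree he)
    split_ifs
    · exact le_rfl
    · exact Nat.zero_le _
  have hDev : eval (fun p : Fin m × Fin q => (U * W) p.1 p.2) D = U0.det * W0.det := by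
    rw [← evPair_pairingMap, hD, evPair_lead]
  rw [smul_eval, map_mul, map_prod, map_pow, hDev]
  generalize U0.det * W0.det = Δ at h0 hsub ⊢
  simp only [hsub, map_pow, mul_pow, Finset.prod_mul_distrib]
  have hinv : (∏ p ∈ e.support, (if p.isLeft then Δ⁻¹ else (1 : K)) ^ e p) = (Δ ^ exc e)⁻¹ := by
    rw [← inv_pow, ← Finset.prod_pow_eq_pow_sum]
    refine Finset.prod_congr rfl fun p _ => ?_
    split_ifs <;> simp
  rw [hinv, pow_sub₀ Δ h0 hexc]
  ring

theorem exists_pairing_eq_of_mul (hm : k + 1 ≤ m) (hq : k + 1 ≤ q) {h : PairRing K (k + 1) m q}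
    {P : MvPolynomial (Fin m × Fin q) K}
    (hP : pairingMap K (k + 1) m q P = pairingMap K (k + 1) m q (minorOf K (leadMinor hm hq)) * h) :
    ∃ P', pairingMap K (k + 1) m q P' = h := by
  classical
  obtain ⟨l, hl⟩ := exists_bitab_decomp (n := k + 1) P
  have hsum : pairingMap K (k + 1) m q (∑ x ∈ l.support, l x • ∏ i, minorOf K (x.2.1 i)) =
      pairingMap K (k + 1) m q P := by
    have := pairingMap_eq_zero_of_mem hl
    rw [map_sub, sub_eq_zero] at this
    exact this.symm
  set lead := minorTheta (leadMinor (k := k) hm hq) with hlead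
  have hle : ∀ M : MinorIdx m q, M.1 ≤ k → minorTheta M ≤ lead := fun M hM =>
    (minorTheta_le_iff _ _).2 (minorGE_leadMinor hm hq hM)
  have hleadPhi : lead ≤ rankIdx m (k + 1) q := by
    rw [hlead, le_cellPhi_iff, upperSize_minorTheta]
    simp only [leadMinor]
    omega
  have hzero : ∀ x ∈ l.support, (∀ i, x.2.1 i ≠ leadMinor hm hq) → l x = 0 := by
    intro x hx hne
    obtain ⟨w, hw, hxw⟩ : ∃ w, w < lead ∧ ∀ i, minorTheta (x.2.1 i) ≤ w := by
      obtain ⟨_ | j, c, hc1, hc2⟩ := x
      · exact ⟨cbot q m, lt_of_le_of_ne (cbot_le _) (minorTheta_ne_cbot _).symm, fun i => i.elim0⟩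
      · refine ⟨minorTheta (c (Fin.last j)), lt_of_le_of_ne (hle _ ?_)
          (fun e => hne (Fin.last j) (minorTheta_injective e)), fun i => ?_⟩
        · have := hc1 (Fin.last j); omega
        · rcases eq_or_lt_of_le (Fin.le_last i) with rfl | hi
          · exact le_rfl
          · exact (minorTheta_le_iff _ _).2 (hc2 _ _ hi)
    refine coeff_eq_zero_bitab (by omega) (w := w) l.support l (fun Z hZ => ?_) x hx hxw
    obtain ⟨U, W, hUW⟩ := exists_factor_of_cond (n := k + 1) (hw.le.trans hleadPhi) hZ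
    have hD0 : eval (fun p : Fin m × Fin q => Z p.1 p.2) (revRows K m q (minorOf K (leadMinor hm hq))) = 0 := by
      rw [revRows_minorOf, smul_eval, eval_dehom, ev_X]
      exact mul_eq_zero_of_right _ (hZ lead (not_le_of_gt hw))
    rw [eval_revRows, show (fun p : Fin m × Fin q => Z p.1.rev p.2) = fun p => (U * W) p.1 p.2 by rw [← hUW]; rfl,
      ← evPair_pairingMap] at hD0
    rw [eval_revRows, show (fun p : Fin m × Fin q => Z p.1.rev p.2) = fun p => (U * W) p.1 p.2 by rw [← hUW]; rfl,
      ← evPair_pairingMap, hsum, hP, map_mul, hD0, zero_mul]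
  have hdvd : minorOf K (leadMinor hm hq) ∣ ∑ x ∈ l.support, l x • ∏ i, minorOf K (x.2.1 i) := by
    refine Finset.dvd_sum fun x hx => ?_
    by_cases hk : ∃ i, x.2.1 i = leadMinor hm hq
    · obtain ⟨i, hi⟩ := hk
      rw [smul_eq_C_mul]
      refine Dvd.dvd.mul_left ?_ _
      rw [← hi]
      exact Finset.dvd_prod_of_mem _ (Finset.mem_univ i)
    · push Not at hk
      rw [hzero x hx hk, zero_smul]
      exact dvd_zero _
  obtain ⟨P', hP'⟩ := hdvd
  refine ⟨P', mul_left_cancel₀ (pairingMap_lead_ne_zero hm hq) ?_⟩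
  rw [← map_mul, ← hP', hsum, hP]

theorem mem_range_of_invariant_aux (hm : k + 1 ≤ m) (hq : k + 1 ≤ q) {f : PairRing K (k + 1) m q}
    (hf : ∀ A : GL (Fin (k + 1)) K, glTranslate K (k + 1) m q A f = f) :
    f ∈ (pairingMap K (k + 1) m q).range := by
  obtain ⟨N, P, hP⟩ := exists_pairing_eq_pow_mul hm hq hf
  induction N generalizing P with
  | zero => exact ⟨P, by simpa using hP⟩
  | succ N ih =>
    rw [pow_succ', mul_assoc] at hP
    obtain ⟨P', hP'⟩ := exists_pairing_eq_of_mul hm hq hP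
    exact ih P' hP'

theorem mem_range_of_invariant {f : PairRing K n m q}
    (hf : ∀ A : GL (Fin n) K, glTranslate K n m q A f = f) : f ∈ (pairingMap K n m q).range := by
  classical
  cases n with
  | zero =>
    haveI : IsEmpty ((Fin m × Fin 0) ⊕ (Fin 0 × Fin q)) := ⟨fun p => p.elim (fun p => p.2.elim0) fun p => p.1.elim0⟩
    rw [eq_C_of_isEmpty f, ← MvPolynomial.algebraMap_eq]
    exact Subalgebra.algebraMap_mem _ _
  | succ k =>
    set m' := max m (k + 1)
    set q' := max q (k + 1)
    have hmm : m ≤ m' := le_max_left _ _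
    have hqq : q ≤ q' := le_max_left _ _
    let ι : (Fin m × Fin (k + 1)) ⊕ (Fin (k + 1) × Fin q) → (Fin m' × Fin (k + 1)) ⊕ (Fin (k + 1) × Fin q') :=
      Sum.map (Prod.map (Fin.castLE hmm) id) (Prod.map id (Fin.castLE hqq))
    let ret : PairRing K (k + 1) m' q' →ₐ[K] PairRing K (k + 1) m q :=
      aeval (Sum.elim (fun p => if h : p.1.val < m then X (Sum.inl (⟨p.1.val, h⟩, p.2)) else 0)
        fun p => if h : p.2.val < q then X (Sum.inr (p.1, ⟨p.2.val, h⟩)) else 0)
    let ret₀ : MvPolynomial (Fin m' × Fin q') K →ₐ[K] MvPolynomial (Fin m × Fin q) K :=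
      aeval fun p => if h : p.1.val < m then (if h' : p.2.val < q then X (⟨p.1.val, h⟩, ⟨p.2.val, h'⟩) else 0) else 0
    have hret : ∀ g, ret (rename ι g) = g := fun g => by
      refine AlgHom.congr_fun (φ₁ := ret.comp (rename ι)) (φ₂ := AlgHom.id K _)
        (MvPolynomial.algHom_ext fun p => ?_) g
      rcases p with ⟨i, l⟩ | ⟨l, j⟩ <;> simp [ret, ι]
    have hinv : ∀ A : GL (Fin (k + 1)) K, glTranslate K (k + 1) m' q' A (rename ι f) = rename ι f := fun A => by
      conv_rhs => rw [← hf A]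
      refine AlgHom.congr_fun (φ₁ := (glTranslate K (k + 1) m' q' A).comp (rename ι))
        (φ₂ := (rename ι).comp (glTranslate K (k + 1) m q A)) (MvPolynomial.algHom_ext fun p => ?_) f
      rcases p with ⟨i, l⟩ | ⟨l, j⟩ <;> simp [glTranslate, ι]
    obtain ⟨P, hP⟩ := mem_range_of_invariant_aux (K := K) (le_max_right m (k + 1)) (le_max_right q (k + 1)) hinv
    refine ⟨ret₀ P, ?_⟩
    rw [← hret f, ← hP]
    refine AlgHom.congr_fun (φ₁ := (pairingMap K (k + 1) m q).comp ret₀)
      (φ₂ := ret.comp (pairingMap K (k + 1) m' q')) (MvPolynomial.algHom_ext fun p => ?_) P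
    simp only [AlgHom.comp_apply, ret₀, ret, pairingMap, aeval_X, map_sum, map_mul, Sum.elim_inl, Sum.elim_inr]
    by_cases h : p.1.val < m
    · by_cases h' : p.2.val < q <;> simp [h, h', pairingMap]
    · simp [h]

theorem glTranslate_pairingMap (A : GL (Fin n) K) (P : MvPolynomial (Fin m × Fin q) K) :
    glTranslate K n m q A (pairingMap K n m q P) = pairingMap K n m q P := by
  refine pair_funext fun U W => ?_
  rw [evPair_glTranslate, evPair_pairingMap, evPair_pairingMap, Matrix.mul_assoc,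
    ← Matrix.mul_assoc _ (A : Matrix (Fin n) (Fin n) K) W, ← Units.val_mul, inv_mul_cancel, Units.val_one,
    Matrix.one_mul]

end Fft

end Groth.Agent.PlLib
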