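import Groth.Agent.PlLib.Coord
import Groth.Agent.PlLib.FftSL
import Mathlib.LinearAlgebra.Matrix.Determinant.Basic

/-! The Plücker quadrics cut out the Grassmannian. -/

universe u

namespace Groth.Agent.PlLib

open W4bk4grassmannian MvPolynomial

variable {K : Type u} [Field K] {e n : ℕ}

theorem eval_coord_det (A : Matrix (Fin n) (Fin (e + 1)) K) (q : Idx (e + 1) n → K)
    (h : ∀ θ, q θ = (A.submatrix θ.1 id).det) (a : Fin (e + 1) → Fin n) :
    eval q (coord K (e + 1) n a) = (A.submatrix a id).det := by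
  rw [← ev_coord (K := K) A a, show q = fun θ => (A.submatrix θ.1 id).det from funext h]
  rfl

/-- The alternating combination of the rows of an `(e+2) × (e+1)` matrix with its maximal minors vanishes. -/
theorem sum_minor_smul_row (B : Matrix (Fin (e + 2)) (Fin (e + 1)) K) (c : Fin (e + 1)) :
    ∑ h : Fin (e + 2), (-1 : K) ^ h.val * B h c * (B.submatrix h.succAbove id).det = 0 := by
  let M : Matrix (Fin (e + 2)) (Fin (e + 2)) K := Matrix.of fun h => Fin.cons (B h c) (B h)
  have hM : M.det = 0 := by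
    refine Matrix.det_zero_of_column_eq (i := 0) (j := c.succ) (Fin.succ_ne_zero c).symm fun h => ?_
    simp [M]
  rw [Matrix.det_succ_column_zero] at hM
  rw [← hM]
  refine Finset.sum_congr rfl fun h _ => ?_
  congr 1

theorem det_updateRow_finset_sum {k : ℕ} {ι : Type*} (M : Matrix (Fin k) (Fin k) K) (j : Fin k) (s : Finset ι)
    (v : ι → Fin k → K) : (M.updateRow j (∑ x ∈ s, v x)).det = ∑ x ∈ s, (M.updateRow j (v x)).det := by
  classical
  induction s using Finset.induction_on with
  | empty =>
    rw [Finset.sum_empty, Finset.sum_empty]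
    exact Matrix.det_eq_zero_of_row_eq_zero j fun _ => by rw [Matrix.updateRow_self]; rfl
  | insert a t ha ih => rw [Finset.sum_insert ha, Finset.sum_insert ha, Matrix.det_updateRow_add, ih]

theorem eval_quadric_of_minors (A : Matrix (Fin n) (Fin (e + 1)) K) (q : Idx (e + 1) n → K)
    (h : ∀ θ, q θ = (A.submatrix θ.1 id).det) (i' : Idx e n) (j' : Idx (e + 2) n) :
    eval q (quadric K i' j') = 0 := by
  rw [quadric, map_sum]
  simp only [map_mul, map_pow, map_neg, map_one, eval_coord_det A q h]
  let M : Matrix (Fin (e + 1)) (Fin (e + 1)) K :=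
    A.submatrix (Fin.snoc (α := fun _ => Fin n) i'.1 (j'.1 0)) id
  have hrow : ∀ x, (A.submatrix (Fin.snoc i'.1 x) id).det =
      ∑ c, A x c * (M.updateRow (Fin.last e) (Pi.single c 1)).det := by
    intro x
    have hx : A.submatrix (Fin.snoc i'.1 x) id = M.updateRow (Fin.last e) (A x) := by
      ext r s
      refine Fin.lastCases ?_ (fun r => ?_) r
      · simp
      · rw [Matrix.updateRow_ne (Fin.castSucc_ne_last r)]
        simp [M]
    rw [hx]
    conv_lhs => rw [show A x = ∑ c, A x c • (Pi.single c 1 : Fin (e + 1) → K) from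
      (pi_eq_sum_univ' (A x))]
    rw [det_updateRow_finset_sum]
    exact Finset.sum_congr rfl fun c _ => Matrix.det_updateRow_smul _ _ _ _
  simp only [hrow, Finset.mul_sum, Finset.sum_mul]
  rw [Finset.sum_comm]
  refine Finset.sum_eq_zero fun c _ => ?_
  have hz := sum_minor_smul_row (A.submatrix j'.1 id) c
  calc ∑ x : Fin (e + 2), (-1 : K) ^ (x.val + 1) * (A (j'.1 x) c * (M.updateRow (Fin.last e) (Pi.single c 1)).det) *
        (A.submatrix (j'.1 ∘ x.succAbove) id).det
      = (-(M.updateRow (Fin.last e) (Pi.single c 1)).det) * ∑ x : Fin (e + 2), (-1 : K) ^ x.val *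
          (A.submatrix j'.1 id) x c * ((A.submatrix j'.1 id).submatrix x.succAbove id).det := by
        rw [Finset.mul_sum]
        refine Finset.sum_congr rfl fun x _ => ?_
        rw [Matrix.submatrix_apply, id_eq, Matrix.submatrix_submatrix, Function.id_comp, pow_succ]
        ring
    _ = 0 := by rw [hz, mul_zero]

/-- The rows of an index outside a given one. -/
def outside (θ₀ θ : Idx (e + 1) n) : Finset (Fin (e + 1)) :=
  Finset.univ.filter fun s => θ.1 s ∉ Finset.univ.image θ₀.1

theorem card_outside (θ₀ θ : Idx (e + 1) n) :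
    (outside θ₀ θ).card = (Finset.univ.image θ.1 \ Finset.univ.image θ₀.1).card := by
  rw [outside, ← Finset.card_image_of_injective _ θ.2.injective]
  congr 1
  ext x
  simp only [Finset.mem_image, Finset.mem_filter, Finset.mem_univ, true_and, Finset.mem_sdiff]
  constructor
  · rintro ⟨s, hs, rfl⟩; exact ⟨⟨s, rfl⟩, hs⟩
  · rintro ⟨⟨s, rfl⟩, hs⟩; exact ⟨s, hs, rfl⟩

theorem eq_of_agree {Q Q' : Idx (e + 1) n → K} {θ₀ : Idx (e + 1) n}
    (hQ : ∀ i' j', eval Q (quadric K i' j') = 0) (hQ' : ∀ i' j', eval Q' (quadric K i' j') = 0)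
    (h₀ : Q θ₀ ≠ 0) (h1 : ∀ θ, (outside θ₀ θ).card ≤ 1 → Q θ = Q' θ) (θ : Idx (e + 1) n) : Q θ = Q' θ := by
  classical
  induction hN : (outside θ₀ θ).card using Nat.strong_induction_on generalizing θ with
  | _ N ih =>
  subst hN
  by_cases hle : (outside θ₀ θ).card ≤ 1
  · exact h1 θ hle
  obtain ⟨s₀, hs₀⟩ : (outside θ₀ θ).Nonempty := Finset.card_pos.1 (by omega)
  simp only [outside, Finset.mem_filter, Finset.mem_univ, true_and] at hs₀
  set S₀ := Finset.univ.image θ₀.1
  set x := θ.1 s₀ with hx
  have hcard : (insert x S₀).card = e + 2 := by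
    rw [Finset.card_insert_of_notMem hs₀, Finset.card_image_of_injective _ θ₀.2.injective, Finset.card_univ,
      Fintype.card_fin]
  let j' : Idx (e + 2) n := ⟨(insert x S₀).orderEmbOfFin hcard, ((insert x S₀).orderEmbOfFin hcard).strictMono⟩
  obtain ⟨p, hp⟩ : ∃ p, j'.1 p = x := by
    have : x ∈ Finset.univ.image j'.1 := by
      rw [Finset.image_orderEmbOfFin_univ]; exact Finset.mem_insert_self _ _
    obtain ⟨p, -, hp⟩ := Finset.mem_image.1 this
    exact ⟨p, hp⟩
  have hmem₀ : ∀ h, h ≠ p → j'.1 h ∈ S₀ := fun h hh =>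
    (Finset.mem_insert.1 ((insert x S₀).orderEmbOfFin_mem hcard h)).resolve_left fun he =>
      hh (j'.2.injective (he.trans hp.symm))
  have hjp : j'.1 ∘ p.succAbove = θ₀.1 := by
    have hc : S₀.card = e + 1 := by
      rw [Finset.card_image_of_injective _ θ₀.2.injective, Finset.card_univ, Fintype.card_fin]
    exact (Finset.orderEmbOfFin_unique hc (fun y => hmem₀ _ (Fin.succAbove_ne p y))
      (j'.2.comp (Fin.strictMono_succAbove p))).trans
      (Finset.orderEmbOfFin_unique hc (fun y => Finset.mem_image_of_mem _ (Finset.mem_univ y)) θ₀.2).symm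
  let i' : Idx e n := ⟨θ.1 ∘ s₀.succAbove, θ.2.comp (Fin.strictMono_succAbove s₀)⟩
  have hsnoc : ∃ π : Equiv.Perm (Fin (e + 1)), Fin.snoc i'.1 x = θ.1 ∘ π := by
    refine ⟨Equiv.ofBijective (Fin.snoc (α := fun _ => Fin (e + 1)) s₀.succAbove s₀)
      (Finite.injective_iff_bijective.1 (Fin.snoc_injective_iff.2 ⟨Fin.succAbove_right_injective, ?_⟩)), ?_⟩
    · rintro ⟨y, hy⟩; exact Fin.succAbove_ne s₀ y hy
    · funext t
      refine Fin.lastCases ?_ (fun t => ?_) t <;> simp [i', hx]
  have hfac : ∀ h, h ≠ p → eval Q (coord K (e + 1) n (Fin.snoc i'.1 (j'.1 h))) =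
      eval Q' (coord K (e + 1) n (Fin.snoc i'.1 (j'.1 h))) := by
    intro h hh
    by_cases hinj : Function.Injective (Fin.snoc i'.1 (j'.1 h) : Fin (e + 1) → Fin n)
    · obtain ⟨σ, φ, hφ⟩ := exists_eq_sortIdx_comp hinj
      rw [hφ, coord_comp, map_mul, map_mul, map_intCast, map_intCast, eval_X, eval_X]
      congr 1
      refine ih _ ?_ φ rfl
      rw [card_outside, card_outside]
      have him : Finset.univ.image φ.1 = Finset.univ.image (Fin.snoc i'.1 (j'.1 h) : Fin (e + 1) → Fin n) := by
        rw [hφ, ← Finset.image_image, Finset.image_univ_equiv]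
      refine Finset.card_lt_card ((Finset.ssubset_iff_of_subset ?_).2 ⟨x, ?_, ?_⟩)
      · intro y hy
        rw [Finset.mem_sdiff, him] at hy
        obtain ⟨⟨t, -, rfl⟩, hy2⟩ := And.intro (Finset.mem_image.1 hy.1) hy.2
        induction t using Fin.lastCases with
        | last => rw [Fin.snoc_last] at hy2; exact absurd (hmem₀ h hh) hy2
        | cast t =>
          rw [Fin.snoc_castSucc] at hy2 ⊢
          exact Finset.mem_sdiff.2 ⟨Finset.mem_image_of_mem _ (Finset.mem_univ _), hy2⟩
      · exact Finset.mem_sdiff.2 ⟨Finset.mem_image_of_mem _ (Finset.mem_univ _), hs₀⟩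
      · rw [Finset.mem_sdiff, him]
        rintro ⟨hmem, -⟩
        obtain ⟨t, -, ht⟩ := Finset.mem_image.1 hmem
        induction t using Fin.lastCases with
        | last => rw [Fin.snoc_last] at ht; exact hs₀ (by rw [← ht]; exact hmem₀ h hh)
        | cast t =>
          rw [Fin.snoc_castSucc] at ht
          exact Fin.succAbove_ne s₀ t (θ.2.injective ht)
    · rw [coord_of_not_injective hinj, map_zero, map_zero]
  have hfac2 : ∀ h : Fin (e + 2), eval Q (coord K (e + 1) n (j'.1 ∘ h.succAbove)) =
      eval Q' (coord K (e + 1) n (j'.1 ∘ h.succAbove)) := by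
    intro h
    let φ : Idx (e + 1) n := ⟨j'.1 ∘ h.succAbove, j'.2.comp (Fin.strictMono_succAbove h)⟩
    show eval Q (coord K (e + 1) n φ.1) = eval Q' (coord K (e + 1) n φ.1)
    rw [coord_idx, eval_X, eval_X]
    refine h1 φ ?_
    rw [card_outside]
    calc _ ≤ ({x} : Finset (Fin n)).card := Finset.card_le_card fun y hy => by
          rw [Finset.mem_sdiff, Finset.mem_image] at hy
          obtain ⟨⟨t, -, rfl⟩, hy2⟩ := hy
          exact Finset.mem_singleton.2
            ((Finset.mem_insert.1 ((insert x S₀).orderEmbOfFin_mem hcard _)).resolve_right hy2)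
      _ = 1 := Finset.card_singleton x
  have hdiff := (hQ i' j').trans (hQ' i' j').symm
  simp only [quadric, map_sum, map_mul, map_pow, map_neg, map_one] at hdiff
  rw [← Finset.add_sum_erase _ _ (Finset.mem_univ p), ← Finset.add_sum_erase _ _ (Finset.mem_univ p),
    Finset.sum_congr rfl fun h hh => by rw [hfac h (Finset.ne_of_mem_erase hh), hfac2 h]] at hdiff
  replace hdiff := add_right_cancel hdiff
  obtain ⟨π, hπ⟩ := hsnoc
  rw [hp, hπ, hjp, coord_comp, coord_idx] at hdiff
  simp only [map_mul, map_intCast, eval_X] at hdiff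
  rw [← h1 θ₀ (by simp [card_outside])] at hdiff
  replace hdiff := mul_right_cancel₀ h₀ hdiff
  have hne : ((-1 : K) ^ (p.val + 1) * ((Equiv.Perm.sign π : ℤ) : K)) ≠ 0 := by
    rcases Int.units_eq_one_or (Equiv.Perm.sign π) with hu | hu <;> simp [hu]
  rw [← mul_assoc, ← mul_assoc] at hdiff
  exact mul_left_cancel₀ hne hdiff

theorem exists_matrix_of_quadrics {q : Idx (e + 1) n → K} (hq : q ≠ 0)
    (h : ∀ i' j', eval q (quadric K i' j') = 0) :
    ∃ A : Matrix (Fin n) (Fin (e + 1)) K, ∀ θ, q θ = (A.submatrix θ.1 id).det := by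
  classical
  obtain ⟨θ₀, hθ₀⟩ := Function.ne_iff.1 hq
  simp only [Pi.zero_apply] at hθ₀
  let B : Matrix (Fin n) (Fin (e + 1)) K :=
    Matrix.of fun i k => eval q (coord K (e + 1) n (Function.update θ₀.1 k i)) / q θ₀
  let Dg : Matrix (Fin (e + 1)) (Fin (e + 1)) K := Matrix.diagonal fun k => if k = 0 then q θ₀ else 1
  have hdetD : Dg.det = q θ₀ := by
    rw [Matrix.det_diagonal, Finset.prod_ite_eq' Finset.univ (0 : Fin (e + 1)), if_pos (Finset.mem_univ _)]
  have hdet : ∀ a, ((B * Dg).submatrix a id).det = q θ₀ * (B.submatrix a id).det := fun a => by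
    rw [show (B * Dg).submatrix a id = B.submatrix a id * Dg from rfl, Matrix.det_mul, hdetD, mul_comm]
  have hB1 : B.submatrix θ₀.1 id = 1 := by
    ext s t
    show eval q (coord K (e + 1) n (Function.update θ₀.1 t (θ₀.1 s))) / q θ₀ = _
    by_cases hst : s = t
    · subst hst; rw [Function.update_eq_self, coord_idx, eval_X, div_self hθ₀, Matrix.one_apply_eq]
    · rw [coord_of_not_injective, map_zero, zero_div, Matrix.one_apply_ne hst]
      intro hinj
      exact hst (hinj (show Function.update θ₀.1 t (θ₀.1 s) s = Function.update θ₀.1 t (θ₀.1 s) t by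
        rw [Function.update_self, Function.update_of_ne hst]))
  have hupd : ∀ i k, ((B * Dg).submatrix (Function.update θ₀.1 k i) id).det =
      eval q (coord K (e + 1) n (Function.update θ₀.1 k i)) := by
    intro i k
    rw [hdet, ← mul_inv_apply B θ₀.1 (by rw [hB1, Matrix.det_one]; exact one_ne_zero) i k, hB1, Matrix.det_one,
      mul_one, inv_one, Matrix.mul_one]
    show q θ₀ * (_ / q θ₀) = _
    field_simp
  refine ⟨B * Dg, fun θ => ?_⟩
  refine eq_of_agree h (eval_quadric_of_minors (B * Dg) _ fun _ => rfl) hθ₀ (fun φ hφ => ?_) θ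
  -- an index with at most one row outside is a permutation of an updated tuple
  obtain ⟨k, i, π, hπ⟩ : ∃ (k : Fin (e + 1)) (i : Fin n) (π : Equiv.Perm (Fin (e + 1))),
      Function.update θ₀.1 k i = φ.1 ∘ π := by
    rw [card_outside] at hφ
    set S₀ := Finset.univ.image θ₀.1
    set S := Finset.univ.image φ.1
    have hS₀ : S₀.card = e + 1 := by
      rw [Finset.card_image_of_injective _ θ₀.2.injective, Finset.card_univ, Fintype.card_fin]
    have hS : S.card = e + 1 := by
      rw [Finset.card_image_of_injective _ φ.2.injective, Finset.card_univ, Fintype.card_fin]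
    have hcard : (S₀ \ S).card = (S \ S₀).card := by
      have h1 := Finset.card_sdiff_add_card_inter S₀ S
      have h2 := Finset.card_sdiff_add_card_inter S S₀
      rw [Finset.inter_comm] at h2
      omega
    obtain ⟨k, i, hki, hi⟩ : ∃ k i, (∀ y ∈ S₀, y ≠ θ₀.1 k → y ∈ S) ∧ i ∈ S ∧ (i ∈ S₀ → i = θ₀.1 k) := by
      rcases Nat.eq_zero_or_pos (S \ S₀).card with h0 | h0
      · have hsub : S ⊆ S₀ := Finset.sdiff_eq_empty_iff_subset.1 (Finset.card_eq_zero.1 h0)
        have heq : S = S₀ := Finset.eq_of_subset_of_card_le hsub (by omega)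
        exact ⟨0, θ₀.1 0, fun y hy _ => heq ▸ hy, heq ▸ Finset.mem_image_of_mem _ (Finset.mem_univ 0),
          fun _ => rfl⟩
      · obtain ⟨y₀, hy₀⟩ := Finset.card_eq_one.1 (show (S₀ \ S).card = 1 by omega)
        obtain ⟨i, hi⟩ := Finset.card_pos.1 h0
        rw [Finset.mem_sdiff] at hi
        have hy₀' : y₀ ∈ S₀ \ S := hy₀ ▸ Finset.mem_singleton_self y₀
        obtain ⟨k, -, hk⟩ := Finset.mem_image.1 (Finset.mem_sdiff.1 hy₀').1
        refine ⟨k, i, fun y hy hne => ?_, hi.1, fun h' => absurd h' hi.2⟩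
        by_contra hyS
        exact hne (hk ▸ Finset.mem_singleton.1 (hy₀ ▸ Finset.mem_sdiff.2 ⟨hy, hyS⟩))
    set u := Function.update θ₀.1 k i with hu
    have hinj : Function.Injective u := by
      intro a b hab
      by_contra hne
      rcases eq_or_ne a k with rfl | ha
      · rw [hu, Function.update_self, Function.update_of_ne (Ne.symm hne)] at hab
        have := hi.2 (hab ▸ Finset.mem_image_of_mem _ (Finset.mem_univ b))
        exact hne (θ₀.2.injective (this.symm.trans hab))
      rcases eq_or_ne b k with rfl | hb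
      · rw [hu, Function.update_self, Function.update_of_ne ha] at hab
        have := hi.2 (hab ▸ Finset.mem_image_of_mem _ (Finset.mem_univ a))
        exact ha (θ₀.2.injective (hab.trans this))
      rw [hu, Function.update_of_ne ha, Function.update_of_ne hb] at hab
      exact hne (θ₀.2.injective hab)
    obtain ⟨π, ψ, hψ⟩ := exists_eq_sortIdx_comp hinj
    refine ⟨k, i, π, ?_⟩
    have : ψ = φ := by
      have hsub : ∀ y, ψ.1 y ∈ S := by
        intro y
        obtain ⟨z, rfl⟩ := π.surjective y
        have := congrFun hψ z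
        simp only [Function.comp_apply] at this
        rw [← this, hu]
        rcases eq_or_ne z k with rfl | hz
        · rw [Function.update_self]; exact hi.1
        · rw [Function.update_of_ne hz]
          exact hki _ (Finset.mem_image_of_mem _ (Finset.mem_univ z)) fun e => hz (θ₀.2.injective e)
      exact Subtype.ext ((Finset.orderEmbOfFin_unique hS hsub ψ.2).trans
        (Finset.orderEmbOfFin_unique hS (fun y => Finset.mem_image_of_mem _ (Finset.mem_univ y)) φ.2).symm)
    rw [← this]; exact hψ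
  have hh := hupd i k
  rw [hπ, coord_comp, map_mul, map_intCast, eval_X,
    show (B * Dg).submatrix (φ.1 ∘ π) id = ((B * Dg).submatrix φ.1 id).submatrix π id from rfl,
    Matrix.det_permute] at hh
  refine (mul_left_cancel₀ ?_ hh).symm
  rcases Int.units_eq_one_or (Equiv.Perm.sign π) with hs | hs <;> simp [hs]

end Groth.Agent.PlLib
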