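import Mathlib.RingTheory.MvPolynomial.Ideal
import Mathlib.RingTheory.MvPolynomial.Homogeneous
import Mathlib.Algebra.Order.Antidiag.FinsuppEquiv
import Mathlib.RingTheory.Ideal.Quotient.Operations
import Mathlib.LinearAlgebra.Dimension.Constructions
import Mathlib.Algebra.BigOperators.Finprod
import Mathlib.Order.Preorder.Chain
import Mathlib.Order.Lattice

/-! Hilbert functions of Stanley–Reisner rings of order complexes. -/

universe u v

namespace Groth.Agent.PlLib

open MvPolynomial

theorem card_pos_antidiag {L : Type v} [Fintype L] [DecidableEq L] (C : Finset L) (hC : C.Nonempty) (m : ℕ)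
    (hm : 1 ≤ m) :
    ((Finset.finsuppAntidiag (Finset.univ : Finset L) m).filter fun e => e.support = C).card =
      Nat.choose (m - 1) (C.card - 1) := by
  classical
  have hpos := hC.card_pos
  rcases Nat.lt_or_ge m C.card with hlt | hge
  · rw [Nat.choose_eq_zero_of_lt (by omega), Finset.card_eq_zero, Finset.filter_eq_empty_iff]
    intro e he hsupp
    rw [Finset.mem_finsuppAntidiag] at he
    have : C.card ≤ ∑ x ∈ C, e x := by
      rw [Finset.card_eq_sum_ones]
      exact Finset.sum_le_sum fun x hx => Nat.one_le_iff_ne_zero.2 (Finsupp.mem_support_iff.1 (hsupp ▸ hx))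
    have h2 : ∑ x ∈ C, e x ≤ m := he.1 ▸ Finset.sum_le_univ_sum_of_nonneg (fun x => Nat.zero_le _)
    omega
  · rw [show Nat.choose (m - 1) (C.card - 1) = (Finset.finsuppAntidiag C (m - C.card)).card by
      rw [Finset.card_finsuppAntidiag_nat_eq_choose, show C.card + (m - C.card) - 1 = m - 1 by omega,
        ← Nat.choose_symm (n := m - 1) (k := C.card - 1) (by omega)]
      congr 1
      omega]
    let one : L →₀ ℕ := ∑ x ∈ C, Finsupp.single x 1
    have hone : ∀ x, one x = if x ∈ C then 1 else 0 := fun x => by
      simp [one, Finsupp.finsetSum_apply, Finsupp.single_apply]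
    refine Finset.card_bij' (fun e _ => e - one) (fun g _ => g + one) (fun e he => ?_) (fun g hg => ?_)
      (fun e he => ?_) (fun g _ => ?_)
    · simp only [Finset.mem_filter, Finset.mem_finsuppAntidiag] at he ⊢
      obtain ⟨⟨hsum, -⟩, hsupp⟩ := he
      have hle : ∀ x ∈ C, 1 ≤ e x := fun x hx =>
        Nat.one_le_iff_ne_zero.2 (Finsupp.mem_support_iff.1 (hsupp ▸ hx))
      refine ⟨?_, fun x hx => ?_⟩
      · have h1 : (∑ x ∈ C, (e - one) x) + ∑ x ∈ C, one x = ∑ x ∈ C, e x := by
          rw [← Finset.sum_add_distrib]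
          refine Finset.sum_congr rfl fun x hx => ?_
          rw [Finsupp.tsub_apply, hone, if_pos hx]
          have := hle x hx
          omega
        have h2 : ∑ x ∈ C, one x = C.card := by
          rw [Finset.card_eq_sum_ones]
          exact Finset.sum_congr rfl fun x hx => by rw [hone, if_pos hx]
        have h3 : ∑ x ∈ C, e x = m := by
          rw [← hsum]
          exact Finset.sum_subset (Finset.subset_univ C) fun x _ hx =>
            Finsupp.notMem_support_iff.1 (hsupp ▸ hx)
        exact (show (∑ x ∈ C, (e - one) x) = m - C.card by omega)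
      · rw [← hsupp]
        rw [Finsupp.mem_support_iff, Finsupp.tsub_apply] at hx
        rw [Finsupp.mem_support_iff]
        omega
    · simp only [Finset.mem_filter, Finset.mem_finsuppAntidiag] at hg ⊢
      obtain ⟨hsum, hsupp⟩ := hg
      have hs : (g + one).support = C := by
        ext x
        rw [Finsupp.mem_support_iff, Finsupp.add_apply, hone]
        by_cases hx : x ∈ C
        · simp [hx]
        · simp [hx, Finsupp.notMem_support_iff.1 fun h => hx (hsupp h)]
      refine ⟨⟨?_, Finset.subset_univ _⟩, hs⟩
      rw [← Finset.sum_subset (Finset.subset_univ C) fun x _ hx => Finsupp.notMem_support_iff.1 (hs ▸ hx)]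
      simp only [Finsupp.add_apply, Finset.sum_add_distrib, hsum]
      have h2 : ∑ x ∈ C, one x = C.card := by
        rw [Finset.card_eq_sum_ones]
        exact Finset.sum_congr rfl fun x hx => by rw [hone, if_pos hx]
      omega
    · simp only [Finset.mem_filter] at he
      refine tsub_add_cancel_of_le fun x => ?_
      rw [hone]
      split_ifs with hx
      · exact Nat.one_le_iff_ne_zero.2 (Finsupp.mem_support_iff.1 (he.2 ▸ hx))
      · exact Nat.zero_le _
    · exact add_tsub_cancel_right _ _

theorem finrank_sr_degree (K : Type u) [Field K] (L : Type v) [DistribLattice L] [Fintype L] (m : ℕ)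
    (hm : 1 ≤ m) :
    Module.finrank K ((MvPolynomial.homogeneousSubmodule L K m).map
        (Ideal.Quotient.mkₐ K (Ideal.span {f : MvPolynomial L K | ∃ a b : L, ¬ a ≤ b ∧ ¬ b ≤ a ∧
          f = MvPolynomial.X a * MvPolynomial.X b})).toLinearMap) =
      ∑ᶠ C : {C : Finset L // C.Nonempty ∧ IsChain (fun a b : L => a ≤ b) (↑C : Set L)},
        Nat.choose (m - 1) (C.1.card - 1) := by
  classical
  set I := Ideal.span {f : MvPolynomial L K | ∃ a b : L, ¬ a ≤ b ∧ ¬ b ≤ a ∧
          f = MvPolynomial.X a * MvPolynomial.X b} with hI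
  let bad : Set (L →₀ ℕ) := {e | ∃ a b : L, ¬ a ≤ b ∧ ¬ b ≤ a ∧ e = Finsupp.single a 1 + Finsupp.single b 1}
  have hI' : I = Ideal.span ((fun s => monomial s (1 : K)) '' bad) := by
    rw [hI]
    congr 1
    ext f
    constructor
    · rintro ⟨a, b, h1, h2, rfl⟩
      exact ⟨_, ⟨a, b, h1, h2, rfl⟩, by simp [X, monomial_mul]⟩
    · rintro ⟨_, ⟨a, b, h1, h2, rfl⟩, rfl⟩
      exact ⟨a, b, h1, h2, by simp [X, monomial_mul]⟩
  have hbad : ∀ e : L →₀ ℕ, (∃ s ∈ bad, s ≤ e) ↔ ¬ IsChain (fun a b : L => a ≤ b) (↑e.support : Set L) := by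
    intro e
    constructor
    · rintro ⟨_, ⟨a, b, h1, h2, rfl⟩, hle⟩ hchain
      have hab : a ≠ b := fun h => h1 (h ▸ le_rfl)
      have ha : a ∈ e.support := Finsupp.mem_support_iff.2 fun h => by
        have := hle a; simp [h, Finsupp.single_apply, hab.symm] at this
      have hb : b ∈ e.support := Finsupp.mem_support_iff.2 fun h => by
        have := hle b; simp [h, Finsupp.single_apply, hab] at this
      rcases hchain (Finset.mem_coe.2 ha) (Finset.mem_coe.2 hb) hab with h | h
      · exact h1 h
      · exact h2 h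
    · intro h
      simp only [IsChain, Set.Pairwise, Finset.mem_coe] at h
      push Not at h
      obtain ⟨a, ha, b, hb, hab, h1, h2⟩ := h
      refine ⟨_, ⟨a, b, h1, h2, rfl⟩, fun x => ?_⟩
      rw [Finsupp.mem_support_iff] at ha hb
      simp only [Finsupp.add_apply, Finsupp.single_apply]
      split_ifs with hxa hxb hxb
      · exact absurd (hxa.trans hxb.symm) hab
      · subst hxa; omega
      · subst hxb; omega
      · omega
  let good : Finset (L →₀ ℕ) := (Finset.finsuppAntidiag (Finset.univ : Finset L) m).filter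
    fun e => IsChain (fun a b : L => a ≤ b) (↑e.support : Set L)
  let φ := (Ideal.Quotient.mkₐ K I).toLinearMap
  have hli : LinearIndependent K fun e : good => φ (monomial e.1 1) := by
    refine linearIndependent_iff'.2 fun s a hsum e he => ?_
    have hmem : (∑ x ∈ s, a x • monomial x.1 (1 : K)) ∈ I := by
      rw [← Ideal.Quotient.eq_zero_iff_mem]
      show φ _ = 0
      rw [map_sum, ← hsum]
      simp
    rw [hI', mem_ideal_span_monomial_image] at hmem
    by_contra hne
    have hcoeff : e.1 ∈ (∑ x ∈ s, a x • monomial x.1 (1 : K)).support := by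
      rw [mem_support_iff, coeff_sum, Finset.sum_eq_single e]
      · simp [hne]
      · intro x _ hx
        simp [coeff_monomial, Subtype.coe_injective.ne hx]
      · exact fun h => absurd he h
    exact (hbad e.1).1 (hmem _ hcoeff) (Finset.mem_filter.1 e.2).2
  have hspan : (homogeneousSubmodule L K m).map φ = Submodule.span K (Set.range fun e : good => φ (monomial e.1 1)) := by
    refine le_antisymm ?_ ?_
    · rintro _ ⟨f, hf, rfl⟩
      rw [f.as_sum, map_sum]
      refine Submodule.sum_mem _ fun e he => ?_
      rw [show monomial e (f.coeff e) = f.coeff e • monomial e (1 : K) by rw [smul_monomial, smul_eq_mul, mul_one],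
        map_smul]
      refine Submodule.smul_mem _ _ ?_
      by_cases hc : IsChain (fun a b : L => a ≤ b) (↑e.support : Set L)
      · refine Submodule.subset_span ⟨⟨e, Finset.mem_filter.2 ⟨Finset.mem_finsuppAntidiag.2
          ⟨?_, Finset.subset_univ _⟩, hc⟩⟩, rfl⟩
        have hdeg : e.degree = m := by
          rw [Finsupp.degree_eq_weight_one]
          exact (mem_homogeneousSubmodule m f).1 hf (mem_support_iff.1 he)
        rw [Finsupp.degree_apply] at hdeg
        rw [← hdeg]
        exact (Finset.sum_subset (Finset.subset_univ _) fun x _ hx => Finsupp.notMem_support_iff.1 hx).symm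
      · rw [show φ (monomial e 1) = 0 from Ideal.Quotient.eq_zero_iff_mem.2 ?_]
        · exact Submodule.zero_mem _
        rw [hI', mem_ideal_span_monomial_image]
        intro x hx
        rw [support_monomial, if_neg one_ne_zero, Finset.mem_singleton] at hx
        exact hx ▸ (hbad e).2 hc
    · rw [Submodule.span_le]
      rintro _ ⟨e, rfl⟩
      refine ⟨_, isHomogeneous_monomial _ ?_, rfl⟩
      have h1 := (Finset.mem_finsuppAntidiag.1 (Finset.mem_filter.1 e.2).1).1
      rw [Finsupp.degree_apply, ← h1]
      exact Finset.sum_subset (Finset.subset_univ _) fun x _ hx => Finsupp.notMem_support_iff.1 hx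
  show Module.finrank K ((homogeneousSubmodule L K m).map φ) = _
  rw [hspan, finrank_span_eq_card hli, Fintype.card_coe, finsum_eq_sum_of_fintype,
    Finset.card_eq_sum_card_fiberwise (f := fun e => e.support)
      (t := (Finset.univ : Finset (Finset L)).filter fun C : Finset L => C.Nonempty ∧ IsChain (fun a b : L => a ≤ b) (↑C : Set L))]
  · rw [Finset.sum_subtype (p := fun C : Finset L => C.Nonempty ∧ IsChain (fun a b : L => a ≤ b) (↑C : Set L))
      _ (fun C => by simp)]
    refine Finset.sum_congr rfl fun C _ => ?_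
    rw [← card_pos_antidiag C.1 C.2.1 m hm]
    congr 1
    ext e
    simp only [good, Finset.mem_filter]
    constructor
    · rintro ⟨⟨h1, -⟩, h2⟩; exact ⟨h1, h2⟩
    · rintro ⟨h1, h2⟩; exact ⟨⟨h1, h2 ▸ C.2.2⟩, h2⟩
  · intro e he
    obtain ⟨h1, h2⟩ := Finset.mem_filter.1 (Finset.mem_coe.1 he)
    rw [Finset.mem_finsuppAntidiag] at h1
    refine Finset.mem_coe.2 (Finset.mem_filter.2 ⟨Finset.mem_univ _, ?_, h2⟩)
    by_contra hne
    rw [Finset.not_nonempty_iff_eq_empty, Finsupp.support_eq_empty] at hne
    rw [hne] at h1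
    simp at h1
    omega

end Groth.Agent.PlLib
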