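import Groth.Agent.PlLib.Coord
import Mathlib.LinearAlgebra.Alternating.Basic
import Mathlib.LinearAlgebra.StdBasis
import Mathlib.Algebra.BigOperators.Ring.Finset

/-! The shuffle relations vanish at the maximal minors of every matrix over every commutative ring. -/

universe u v

namespace Groth.Agent.PlLib

open W4bk4grassmannian

variable {L : Type v} [CommRing L] {d : ℕ} (r : Fin d) (u w : Fin d → Fin d → L)

theorem card_compl_of {A : Finset (Fin (d + 1))} (hA : A.card = r.val + 1) : Aᶜ.card = d - r.val := by
  rw [Finset.card_compl, hA, Fintype.card_fin]; omega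

/-- The rows of the first factor of a shuffle term. -/
def rowsI (A : Finset (Fin (d + 1))) (hA : A.card = r.val + 1) (m : Fin (d + 1) → Fin d → L) :
    Matrix (Fin d) (Fin d) L :=
  fun t => if h : t.val ≤ r.val then m (A.orderEmbOfFin hA ⟨t.val, by omega⟩) else u t

/-- The rows of the second factor of a shuffle term. -/
def rowsJ (A : Finset (Fin (d + 1))) (hA : A.card = r.val + 1) (m : Fin (d + 1) → Fin d → L) :
    Matrix (Fin d) (Fin d) L :=
  fun t => if h : t.val < r.val then w t
    else m (Aᶜ.orderEmbOfFin (card_compl_of r hA) ⟨t.val - r.val, by have := t.isLt; omega⟩)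

/-- One term of the abstract shuffle sum. -/
noncomputable def term (A : Finset (Fin (d + 1))) (m : Fin (d + 1) → Fin d → L) : L :=
  if hA : A.card = r.val + 1 then
    (-1) ^ shuffleSign r A * (rowsI r u A hA m).det * (rowsJ r w A hA m).det
  else 0

theorem val_le_of_strictMono {k N : ℕ} {f : Fin k → Fin N} (hf : StrictMono f) (i : Fin k) :
    i.val ≤ (f i).val := by
  obtain ⟨i, hi⟩ := i
  induction i with
  | zero => exact Nat.zero_le _
  | succ i ih =>
    have h1 := ih (by omega)
    have h2 : f ⟨i, by omega⟩ < f ⟨i + 1, hi⟩ := hf (by simp)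
    rw [Fin.lt_def] at h2
    dsimp only at h1 ⊢
    omega

theorem sum_le_of_card {A : Finset (Fin (d + 1))} (hA : A.card = r.val + 1) :
    r.val * (r.val + 1) / 2 ≤ A.sum fun a => a.val := by
  conv_rhs => rw [← Finset.map_orderEmbOfFin_univ A hA, Finset.sum_map]
  have h1 : r.val * (r.val + 1) / 2 = ∑ i : Fin (r.val + 1), i.val := by
    rw [Fin.sum_univ_eq_sum_range (fun i => i) (r.val + 1), Finset.sum_range_id, Nat.add_sub_cancel,
      mul_comm]
  rw [h1]
  exact Finset.sum_le_sum fun i _ => val_le_of_strictMono (A.orderEmbOfFin hA).strictMono i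

theorem map_swap_mem {A : Finset (Fin (d + 1))} (p q : Fin (d + 1)) (x : Fin (d + 1)) :
    x ∈ A.map (Equiv.swap p q).toEmbedding ↔ Equiv.swap p q x ∈ A := by
  rw [Finset.mem_map_equiv, Equiv.symm_swap]

theorem compl_map_swap (A : Finset (Fin (d + 1))) (p q : Fin (d + 1)) :
    (A.map (Equiv.swap p q).toEmbedding)ᶜ = Aᶜ.map (Equiv.swap p q).toEmbedding := by
  ext x
  simp [map_swap_mem]

theorem orderEmb_map_swap {A : Finset (Fin (d + 1))} {k : ℕ} (hA : A.card = k) (p q : Fin (d + 1))
    (hpq : q.val = p.val + 1) (hone : ¬ (p ∈ A ∧ q ∈ A))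
    (h' : (A.map (Equiv.swap p q).toEmbedding).card = k) (t : Fin k) :
    (A.map (Equiv.swap p q).toEmbedding).orderEmbOfFin h' t = Equiv.swap p q (A.orderEmbOfFin hA t) := by
  have hmono : StrictMono fun t => Equiv.swap p q (A.orderEmbOfFin hA t) := by
    intro s t hst
    have hlt : (A.orderEmbOfFin hA s).val < (A.orderEmbOfFin hA t).val :=
      (A.orderEmbOfFin hA).strictMono hst
    have hms := A.orderEmbOfFin_mem hA s
    have hmt := A.orderEmbOfFin_mem hA t
    have hp : p ≠ q := fun h => by rw [h] at hpq; omega
    rw [Fin.lt_def]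
    dsimp only
    rcases eq_or_ne (A.orderEmbOfFin hA s) p with hs | hs
    · have ht : A.orderEmbOfFin hA t ≠ q := fun h => hone ⟨hs ▸ hms, h ▸ hmt⟩
      have ht' : A.orderEmbOfFin hA t ≠ p := fun h => by rw [hs, h] at hlt; omega
      rw [hs, Equiv.swap_apply_left, Equiv.swap_apply_of_ne_of_ne ht' ht]
      rw [hs] at hlt
      have : (A.orderEmbOfFin hA t).val ≠ q.val := fun h => ht (Fin.ext h)
      omega
    · rcases eq_or_ne (A.orderEmbOfFin hA s) q with hs' | hs'
      · have ht : A.orderEmbOfFin hA t ≠ q := fun h => by rw [hs', h] at hlt; omega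
        have ht' : A.orderEmbOfFin hA t ≠ p := fun h => by rw [hs', h] at hlt; omega
        rw [hs', Equiv.swap_apply_right, Equiv.swap_apply_of_ne_of_ne ht' ht]
        rw [hs'] at hlt
        omega
      · rw [Equiv.swap_apply_of_ne_of_ne hs hs']
        rcases eq_or_ne (A.orderEmbOfFin hA t) p with ht | ht
        · rw [ht, Equiv.swap_apply_left]
          rw [ht] at hlt
          omega
        · rcases eq_or_ne (A.orderEmbOfFin hA t) q with ht' | ht'
          · rw [ht', Equiv.swap_apply_right]
            rw [ht'] at hlt
            have : (A.orderEmbOfFin hA s).val ≠ p.val := fun h => hs (Fin.ext h)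
            omega
          · rwa [Equiv.swap_apply_of_ne_of_ne ht ht']
  exact (congrFun (Finset.orderEmbOfFin_unique h'
    (fun x => (map_swap_mem p q _).2 (by simpa using A.orderEmbOfFin_mem hA x)) hmono) t).symm

theorem rowsI_eq_zero_of_mem {A : Finset (Fin (d + 1))} (hA : A.card = r.val + 1)
    (m : Fin (d + 1) → Fin d → L) {p q : Fin (d + 1)} (hne : p ≠ q) (hm : m p = m q)
    (hp : p ∈ A) (hq : q ∈ A) : (rowsI r u A hA m).det = 0 := by
  rw [← Finset.map_orderEmbOfFin_univ A hA] at hp hq
  obtain ⟨s, -, hs⟩ := Finset.mem_map.1 hp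
  obtain ⟨t, -, ht⟩ := Finset.mem_map.1 hq
  refine Matrix.det_zero_of_row_eq (i := ⟨s.val, by omega⟩) (j := ⟨t.val, by omega⟩)
    (fun h => hne ?_) ?_
  · rw [← hs, ← ht, show s = t from Fin.ext (by simpa using h)]
  · unfold rowsI
    rw [dif_pos (show s.val ≤ r.val by omega), dif_pos (show t.val ≤ r.val by omega)]
    exact (congrArg m hs).trans (hm.trans (congrArg m ht).symm)

theorem rowsJ_eq_zero_of_mem {A : Finset (Fin (d + 1))} (hA : A.card = r.val + 1)
    (m : Fin (d + 1) → Fin d → L) {p q : Fin (d + 1)} (hne : p ≠ q) (hm : m p = m q)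
    (hp : p ∉ A) (hq : q ∉ A) : (rowsJ r w A hA m).det = 0 := by
  rw [← Finset.mem_compl, ← Finset.map_orderEmbOfFin_univ Aᶜ (card_compl_of r hA)] at hp hq
  obtain ⟨s, -, hs⟩ := Finset.mem_map.1 hp
  obtain ⟨t, -, ht⟩ := Finset.mem_map.1 hq
  refine Matrix.det_zero_of_row_eq (i := ⟨r.val + s.val, by omega⟩) (j := ⟨r.val + t.val, by omega⟩)
    (fun h => hne ?_) ?_
  · rw [← hs, ← ht, show s = t from Fin.ext (by simpa using h)]
  · unfold rowsJ
    rw [dif_neg (by simp), dif_neg (by simp)]
    simp only [Nat.add_sub_cancel_left, Fin.eta]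
    exact (congrArg m hs).trans (hm.trans (congrArg m ht).symm)

theorem map_swap_eq_self (A : Finset (Fin (d + 1))) {p q : Fin (d + 1)} (h : p ∈ A ↔ q ∈ A) :
    A.map (Equiv.swap p q).toEmbedding = A := by
  ext x
  rw [map_swap_mem]
  rcases eq_or_ne x p with rfl | hx
  · rw [Equiv.swap_apply_left]; exact h.symm
  rcases eq_or_ne x q with rfl | hx'
  · rw [Equiv.swap_apply_right]; exact h
  rw [Equiv.swap_apply_of_ne_of_ne hx hx']

theorem term_eq_zero_of_mem_iff {A : Finset (Fin (d + 1))} {m : Fin (d + 1) → Fin d → L}
    {p q : Fin (d + 1)} (hne : p ≠ q) (hm : m p = m q) (h : p ∈ A ↔ q ∈ A) : term r u w A m = 0 := by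
  unfold term
  split_ifs with hA
  · by_cases hp : p ∈ A
    · rw [rowsI_eq_zero_of_mem r u hA m hne hm hp (h.1 hp), mul_zero, zero_mul]
    · rw [rowsJ_eq_zero_of_mem r w hA m hne hm hp (h.not.1 hp), mul_zero]
  · rfl

theorem term_add_term_swap (A : Finset (Fin (d + 1))) {m : Fin (d + 1) → Fin d → L}
    {p q : Fin (d + 1)} (hpq : q.val = p.val + 1) (hm : m p = m q) :
    term r u w A m + term r u w (A.map (Equiv.swap p q).toEmbedding) m = 0 := by
  have hne : p ≠ q := fun h => by rw [h] at hpq; omega
  by_cases hiff : p ∈ A ↔ q ∈ A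
  · rw [map_swap_eq_self A hiff, term_eq_zero_of_mem_iff r u w hne hm hiff, add_zero]
  wlog hp : p ∈ A generalizing A with H
  · have hq : q ∈ A := by tauto
    have h2 := H (A.map (Equiv.swap p q).toEmbedding)
      (by rw [map_swap_mem, map_swap_mem, Equiv.swap_apply_left, Equiv.swap_apply_right]; tauto)
      (by rw [map_swap_mem, Equiv.swap_apply_left]; exact hq)
    rw [Finset.map_map, show (Equiv.swap p q).toEmbedding.trans (Equiv.swap p q).toEmbedding =
      Function.Embedding.refl _ by ext x; simp, Finset.map_refl, add_comm] at h2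
    exact h2
  have hq : q ∉ A := by tauto
  unfold term
  simp only [Finset.card_map]
  split_ifs with hA
  swap
  · exact add_zero 0
  have hA' : (A.map (Equiv.swap p q).toEmbedding).card = r.val + 1 := by rwa [Finset.card_map]
  have hswap : ∀ x, m (Equiv.swap p q x) = m x := fun x => by
    rcases eq_or_ne x p with rfl | hx
    · rw [Equiv.swap_apply_left, hm]
    rcases eq_or_ne x q with rfl | hx'
    · rw [Equiv.swap_apply_right, hm]
    rw [Equiv.swap_apply_of_ne_of_ne hx hx']
  have hI : rowsI r u (A.map (Equiv.swap p q).toEmbedding) hA' m = rowsI r u A hA m := by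
    funext t
    unfold rowsI
    split_ifs with ht
    · rw [orderEmb_map_swap hA p q hpq (fun h => hq h.2), hswap]
    · rfl
  have hJ : rowsJ r w (A.map (Equiv.swap p q).toEmbedding) hA' m = rowsJ r w A hA m := by
    funext t
    unfold rowsJ
    split_ifs with ht
    · rfl
    · have hc : (Aᶜ.map (Equiv.swap p q).toEmbedding).card = d - r.val := by
        rw [Finset.card_map]; exact card_compl_of r hA
      simp only [compl_map_swap]
      rw [orderEmb_map_swap (card_compl_of r hA) p q hpq
        (fun h => (Finset.mem_compl.1 h.1) hp), hswap]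
  have hs : shuffleSign r (A.map (Equiv.swap p q).toEmbedding) = shuffleSign r A + 1 := by
    have hle := sum_le_of_card r hA
    have hsum : (A.map (Equiv.swap p q).toEmbedding).sum (fun a => a.val) = A.sum (fun a => a.val) + 1 := by
      rw [Finset.sum_map, ← Finset.add_sum_erase _ _ hp, ← Finset.add_sum_erase A (fun a => a.val) hp]
      rw [Finset.sum_congr rfl (g := fun a => a.val) fun x hx => by
        rw [Equiv.toEmbedding_apply, Equiv.swap_apply_of_ne_of_ne (Finset.ne_of_mem_erase hx)
          (fun h => hq (by rw [← h]; exact Finset.mem_of_mem_erase hx))]]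
      simp only [Equiv.toEmbedding_apply, Equiv.swap_apply_left]
      omega
    unfold shuffleSign
    omega
  rw [hI, hJ, hs, pow_succ]
  ring

theorem sum_term_of_adjacent {m : Fin (d + 1) → Fin d → L} {p q : Fin (d + 1)}
    (hpq : q.val = p.val + 1) (hm : m p = m q) :
    ∑ A : Finset (Fin (d + 1)), term r u w A m = 0 := by
  refine Finset.sum_involution (fun A _ => A.map (Equiv.swap p q).toEmbedding)
    (fun A _ => term_add_term_swap r u w A hpq hm) (fun A _ hne h => hne ?_) (fun A _ => Finset.mem_univ _)
    (fun A _ => ?_)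
  · refine term_eq_zero_of_mem_iff r u w (fun h' => by rw [h'] at hpq; omega) hm ?_
    conv_lhs => rw [← h, map_swap_mem, Equiv.swap_apply_left]
  · ext x
    simp [map_swap_mem]

theorem orderEmb_update {A : Finset (Fin (d + 1))} {k : ℕ} (hA : A.card = k) (m : Fin (d + 1) → Fin d → L)
    (x : Fin d → L) (t₀ t : Fin k) :
    Function.update m (A.orderEmbOfFin hA t₀) x (A.orderEmbOfFin hA t) =
      Function.update (fun s => m (A.orderEmbOfFin hA s)) t₀ x t :=
  congrFun (Function.update_comp_eq_of_injective m (A.orderEmbOfFin hA).injective t₀ x) t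

theorem exists_row (A : Finset (Fin (d + 1))) (hA : A.card = r.val + 1) (m : Fin (d + 1) → Fin d → L)
    (p : Fin (d + 1)) :
    (∃ t₀, (∀ x, rowsI r u A hA (Function.update m p x) = (rowsI r u A hA m).updateRow t₀ x) ∧
      ∀ x, rowsJ r w A hA (Function.update m p x) = rowsJ r w A hA m) ∨
    (∃ t₀, (∀ x, rowsJ r w A hA (Function.update m p x) = (rowsJ r w A hA m).updateRow t₀ x) ∧
      ∀ x, rowsI r u A hA (Function.update m p x) = rowsI r u A hA m) := by
  by_cases hp : p ∈ A
  · left
    have hp' := hp
    rw [← Finset.map_orderEmbOfFin_univ A hA] at hp'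
    obtain ⟨s, -, hs⟩ := Finset.mem_map.1 hp'
    replace hs : A.orderEmbOfFin hA s = p := hs
    refine ⟨⟨s.val, by omega⟩, fun x => funext fun t => ?_, fun x => funext fun t => ?_⟩
    · rcases eq_or_ne t ⟨s.val, by omega⟩ with rfl | ht
      · rw [Matrix.updateRow_self]
        unfold rowsI
        rw [dif_pos (show s.val ≤ r.val by omega)]
        simp [hs]
      · rw [Matrix.updateRow_ne ht]
        unfold rowsI
        split_ifs with h
        · rw [Function.update_of_ne]
          rw [← hs]
          intro he
          have := Fin.ext_iff.1 ((A.orderEmbOfFin hA).injective he)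
          exact ht (Fin.ext (by dsimp only at this ⊢; omega))
        · rfl
    · unfold rowsJ
      split_ifs with h
      · rfl
      · rw [Function.update_of_ne]
        intro he
        exact Finset.mem_compl.1 (he ▸ Finset.orderEmbOfFin_mem _ _ _) hp
  · right
    have hp' := Finset.mem_compl.2 hp
    rw [← Finset.map_orderEmbOfFin_univ Aᶜ (card_compl_of r hA)] at hp'
    obtain ⟨s, -, hs⟩ := Finset.mem_map.1 hp'
    replace hs : Aᶜ.orderEmbOfFin (card_compl_of r hA) s = p := hs
    refine ⟨⟨r.val + s.val, by omega⟩, fun x => funext fun t => ?_, fun x => funext fun t => ?_⟩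
    · rcases eq_or_ne t ⟨r.val + s.val, by omega⟩ with rfl | ht
      · rw [Matrix.updateRow_self]
        unfold rowsJ
        rw [dif_neg (by simp)]
        simp [hs]
      · rw [Matrix.updateRow_ne ht]
        unfold rowsJ
        split_ifs with h
        · rfl
        · rw [Function.update_of_ne]
          rw [← hs]
          intro he
          have := Fin.ext_iff.1 ((Aᶜ.orderEmbOfFin (card_compl_of r hA)).injective he)
          exact ht (Fin.ext (by dsimp only at this ⊢; omega))
    · unfold rowsI
      split_ifs with h
      · rw [Function.update_of_ne]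
        intro he
        exact hp (he ▸ Finset.orderEmbOfFin_mem _ _ _)
      · rfl

theorem term_update_add (A : Finset (Fin (d + 1))) (m : Fin (d + 1) → Fin d → L) (p : Fin (d + 1))
    (x y : Fin d → L) :
    term r u w A (Function.update m p (x + y)) =
      term r u w A (Function.update m p x) + term r u w A (Function.update m p y) := by
  unfold term
  split_ifs with hA
  · rcases exists_row r u w A hA m p with ⟨t₀, h1, h2⟩ | ⟨t₀, h1, h2⟩
    · simp only [h1, h2, Matrix.det_updateRow_add]; ring
    · simp only [h1, h2, Matrix.det_updateRow_add]; ring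
  · exact (add_zero 0).symm

theorem term_update_smul (A : Finset (Fin (d + 1))) (m : Fin (d + 1) → Fin d → L) (p : Fin (d + 1))
    (c : L) (x : Fin d → L) :
    term r u w A (Function.update m p (c • x)) = c * term r u w A (Function.update m p x) := by
  unfold term
  split_ifs with hA
  · rcases exists_row r u w A hA m p with ⟨t₀, h1, h2⟩ | ⟨t₀, h1, h2⟩
    · simp only [h1, h2, Matrix.det_updateRow_smul]; ring
    · simp only [h1, h2, Matrix.det_updateRow_smul]; ring
  · exact (mul_zero c).symm

/-- The shuffle sum as a multilinear map in the moving rows. -/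
noncomputable def shuffleMap : MultilinearMap L (fun _ : Fin (d + 1) => Fin d → L) L :=
  MultilinearMap.mk' (fun m => ∑ A : Finset (Fin (d + 1)), term r u w A m)
    (fun m p x y => by simp only [term_update_add, Finset.sum_add_distrib])
    (fun m p c x => by simp only [term_update_smul, smul_eq_mul, Finset.mul_sum])

theorem shuffleMap_apply (m : Fin (d + 1) → Fin d → L) :
    shuffleMap r u w m = ∑ A : Finset (Fin (d + 1)), term r u w A m := rfl

theorem shuffleMap_eq_zero_of_gap : ∀ (g : ℕ) (m : Fin (d + 1) → Fin d → L) (p q : Fin (d + 1)),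
    q.val = p.val + g + 1 → m p = m q → shuffleMap r u w m = 0 := by
  intro g
  induction g with
  | zero => exact fun m p q hpq hm => sum_term_of_adjacent r u w (by omega) hm
  | succ g ih =>
    intro m p q hpq hm
    let s : Fin (d + 1) := ⟨p.val + g + 1, by omega⟩
    have hsq : s ≠ q := fun h => by simp [s, Fin.ext_iff] at h; omega
    have hps : p ≠ s := fun h => by simp [s, Fin.ext_iff] at h; omega
    have hpq' : p ≠ q := fun h => by rw [h] at hpq; omega
    have hadj : ∀ z : Fin d → L, shuffleMap r u w (Function.update (Function.update m s z) q z) = 0 :=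
      fun z => sum_term_of_adjacent r u w (p := s) (q := q) (by simp [s]; omega)
        (by rw [Function.update_self, Function.update_of_ne hsq, Function.update_self])
    have hflip : shuffleMap r u w (Function.update (Function.update m s (m q)) q (m s)) = 0 :=
      ih _ p s (by simp [s]) (by
        rw [Function.update_of_ne hpq', Function.update_of_ne hps, Function.update_of_ne hsq,
          Function.update_self, hm])
    have e1 : ∀ (z x y : Fin d → L),
        shuffleMap r u w (Function.update (Function.update m s z) q (x + y)) =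
          shuffleMap r u w (Function.update (Function.update m s z) q x) +
            shuffleMap r u w (Function.update (Function.update m s z) q y) :=
      fun z x y => MultilinearMap.map_update_add _ _ _ _ _
    have e2 : ∀ (z x y : Fin d → L),
        shuffleMap r u w (Function.update (Function.update m s (x + y)) q z) =
          shuffleMap r u w (Function.update (Function.update m s x) q z) +
            shuffleMap r u w (Function.update (Function.update m s y) q z) := fun z x y => by
      simp only [Function.update_comm hsq]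
      exact MultilinearMap.map_update_add _ _ _ _ _
    have h0 := hadj (m s + m q)
    simp only [e1, e2, hadj, hflip, zero_add, add_zero] at h0
    simp only [Function.update_eq_self] at h0
    exact h0

/-- The shuffle sum as an alternating map in the moving rows. -/
noncomputable def shuffleAlt : (Fin d → L) [⋀^Fin (d + 1)]→ₗ[L] L where
  __ := shuffleMap r u w
  map_eq_zero_of_eq' m p q hm hne := by
    rcases lt_or_gt_of_ne hne with h | h
    · exact shuffleMap_eq_zero_of_gap r u w (q.val - p.val - 1) m p q (by omega) hm
    · exact shuffleMap_eq_zero_of_gap r u w (p.val - q.val - 1) m q p (by omega) hm.symm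

theorem sum_term_eq_zero (m : Fin (d + 1) → Fin d → L) :
    ∑ A : Finset (Fin (d + 1)), term r u w A m = 0 := by
  have h : shuffleAlt r u w = 0 := Module.Basis.ext_alternating (Pi.basisFun L (Fin d))
    fun v hv => absurd (Fintype.card_le_of_injective v hv) (by simp)
  exact congrArg (fun f : (Fin d → L) [⋀^Fin (d + 1)]→ₗ[L] L => f m) h

variable {K : Type u} [CommRing K] [Algebra K L] {n : ℕ}

theorem ev_shuffleRel (A : Matrix (Fin n) (Fin d) L) (i j : Idx d n) :
    ev (K := K) A (shuffleRel K i j r) = 0 := by
  rw [shuffleRel, map_sum]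
  refine Eq.trans (Finset.sum_congr rfl fun S _ => ?_)
    (sum_term_eq_zero r (fun t => A (i.1 t)) (fun t => A (j.1 t)) fun k => A (movingRows i j r k))
  unfold shuffleTerm term
  split_ifs with hS
  · rw [map_mul, map_mul, map_pow, map_neg, map_one, ev_coord, ev_coord]
    have hI : A.submatrix (shuffleI i j r S hS) id =
        rowsI r (fun t => A (i.1 t)) S hS (fun k => A (movingRows i j r k)) := by
      funext t c
      unfold rowsI shuffleI
      simp only [Matrix.submatrix_apply, id_eq]
      split_ifs <;> rfl
    have hJ : A.submatrix (shuffleJ i j r S hS) id =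
        rowsJ r (fun t => A (j.1 t)) S hS (fun k => A (movingRows i j r k)) := by
      funext t c
      unfold rowsJ shuffleJ
      simp only [Matrix.submatrix_apply, id_eq]
      split_ifs <;> rfl
    rw [hI, hJ]
  · rw [map_zero]

theorem plIdealTop_le_ker_ev (A : Matrix (Fin n) (Fin d) L) :
    plIdealTop (d := d) (n := n) K ≤ RingHom.ker (ev (K := K) A).toRingHom := by
  rw [plIdealTop, Ideal.span_le]
  rintro f ⟨i, j, r, -, rfl⟩
  exact ev_shuffleRel r A i j

end Groth.Agent.PlLib
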