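import Groth.Agent.PlLib.Normal
import Mathlib.RingTheory.UniqueFactorizationDomain.Kaplansky
import Mathlib.RingTheory.UniqueFactorizationDomain.Ideal

/-! Factoriality of Schubert varieties. -/

universe u v

namespace Groth.Agent.PlLib

open W4bk4grassmannian MvPolynomial

/-- Nagata's criterion along an embedding which becomes surjective after inverting `t`. -/
theorem ufm_of_prime {A : Type u} {P : Type v} [CommRing A] [IsDomain A] [CommRing P] [IsDomain P]
    [UniqueFactorizationMonoid P] (σ : A →+* P) (hσ : Function.Injective σ) (t : A) (ht : Prime t)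
    (hT : ¬ IsUnit (σ t)) (hloc : ∀ p : P, ∃ k, σ t ^ k * p ∈ σ.range) : UniqueFactorizationMonoid A := by
  classical
  have hT0 : σ t ≠ 0 := fun h => ht.ne_zero (hσ (h.trans (map_zero σ).symm))
  have key : ∀ x : P, x ≠ 0 → ∃ (i : ℕ) (g : A), σ g = σ t ^ i * x ∧
      ∃ qs : Multiset A, (∀ q ∈ qs, Prime q) ∧ Associated qs.prod g := by
    intro x
    induction x using UniqueFactorizationMonoid.induction_on_prime with
    | h₁ => exact fun h => absurd rfl h
    | h₂ u hu =>
      intro _
      obtain ⟨u, rfl⟩ := hu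
      obtain ⟨i, g, hg⟩ := hloc u
      obtain ⟨j, g', hg'⟩ := hloc (u⁻¹ : Pˣ)
      have hgg : g * g' = t ^ (i + j) := hσ (by
        rw [map_mul, hg, hg', map_pow, pow_add,
          show σ t ^ i * (u : P) * (σ t ^ j * ((u⁻¹ : Pˣ) : P)) = σ t ^ i * σ t ^ j * ((u : P) * ((u⁻¹ : Pˣ) : P)) by ring,
          Units.mul_inv, mul_one])
      obtain ⟨a, -, ha⟩ := (dvd_prime_pow ht (i + j)).1 (Dvd.intro g' hgg)
      exact ⟨i, g, hg, Multiset.replicate a t, fun q hq => (Multiset.eq_of_mem_replicate hq) ▸ ht,
        by rw [Multiset.prod_replicate]; exact ha.symm⟩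
    | h₃ x p hx hp ih =>
      intro _
      obtain ⟨i, g, hg, qs, hqs, hqg⟩ := ih hx
      obtain ⟨k, q, ⟨hq, hqp⟩ | hqp⟩ : ∃ k q, σ q = σ t ^ k * p ∧ Prime q ∨ (∃ u : Pˣ, p = u * σ t) := by
        by_cases hpT : ∃ u : Pˣ, p = u * σ t
        · exact ⟨0, 0, Or.inr hpT⟩
        have hex : ∃ k, σ t ^ k * p ∈ σ.range := hloc p
        obtain ⟨q, hq⟩ := Nat.find_spec hex
        refine ⟨Nat.find hex, q, Or.inl ⟨hq, ?_⟩⟩
        have htq : ¬ t ∣ q := by
          rintro ⟨q₁, rfl⟩
          rw [map_mul] at hq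
          rcases Nat.eq_zero_or_pos (Nat.find hex) with h0 | h0
          · rw [h0, pow_zero, one_mul] at hq
            rcases hp.irreducible.isUnit_or_isUnit hq.symm with h | h
            · exact hT h
            · exact hpT ⟨h.unit, by rw [← hq, mul_comm]; rfl⟩
          · refine Nat.find_min hex (m := Nat.find hex - 1) (by omega) ⟨q₁, mul_left_cancel₀ hT0 ?_⟩
            rw [hq, ← mul_assoc, ← pow_succ', Nat.sub_add_cancel h0]
        refine ⟨fun h => ?_, fun h => ?_, ?_⟩
        · rw [h, map_zero] at hq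
          exact mul_ne_zero (pow_ne_zero _ hT0) hp.ne_zero hq.symm
        · obtain ⟨u, rfl⟩ := h
          exact hp.not_unit (isUnit_of_mul_isUnit_right (hq ▸ (u.isUnit.map σ)))
        · intro a b hab
          have hp' : p ∣ σ a * σ b := by
            rw [← map_mul]
            obtain ⟨c, hc⟩ := hab
            exact ⟨σ t ^ Nat.find hex * σ c, by rw [hc, map_mul, hq]; ring⟩
          have hback : ∀ a : A, p ∣ σ a → q ∣ a := by
            rintro a ⟨y, hy⟩
            obtain ⟨m, g', hg'⟩ := hloc y
            have h1 : t ^ (m + Nat.find hex) * a = q * g' := hσ (by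
              rw [map_mul, map_pow, map_mul, hq, hg', hy, pow_add]; ring)
            have h2 : t ^ (m + Nat.find hex) ∣ g' :=
              ht.pow_dvd_of_dvd_mul_left _ htq ⟨a, h1.symm⟩
            obtain ⟨g'', rfl⟩ := h2
            exact ⟨g'', mul_left_cancel₀ (pow_ne_zero _ ht.ne_zero) (by rw [h1]; ring)⟩
          exact (hp.dvd_or_dvd hp').imp (hback a) (hback b)
      · exact ⟨i + k, g * q, by rw [map_mul, hg, hq, pow_add]; ring, q ::ₘ qs,
          fun r hr => (Multiset.mem_cons.1 hr).elim (fun h => h ▸ hqp) (hqs r),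
          by rw [Multiset.prod_cons, mul_comm g q]; exact hqg.mul_left q⟩
      · obtain ⟨u, rfl⟩ := hqp
        obtain ⟨j, gu, hgu⟩ := hloc u
        obtain ⟨l, gu', hgu'⟩ := hloc (u⁻¹ : Pˣ)
        have hgg : gu * gu' = t ^ (j + l) := hσ (by
          rw [map_mul, hgu, hgu', map_pow, pow_add,
            show σ t ^ j * (u : P) * (σ t ^ l * ((u⁻¹ : Pˣ) : P)) = σ t ^ j * σ t ^ l * ((u : P) * ((u⁻¹ : Pˣ) : P)) by ring,
            Units.mul_inv, mul_one])
        obtain ⟨a, -, ha⟩ := (dvd_prime_pow ht (j + l)).1 (Dvd.intro gu' hgg)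
        refine ⟨i + j, g * (gu * t), by rw [map_mul, map_mul, hg, hgu, pow_add]; ring,
          qs + Multiset.replicate (a + 1) t, fun r hr => ?_, ?_⟩
        · rcases Multiset.mem_add.1 hr with h | h
          · exact hqs r h
          · exact (Multiset.eq_of_mem_replicate h) ▸ ht
        · rw [Multiset.prod_add, Multiset.prod_replicate, pow_succ]
          exact hqg.mul_mul (ha.symm.mul_right t)
  rw [UniqueFactorizationMonoid.iff_exists_prime_mem_of_isPrime]
  intro I hI hIp
  obtain ⟨a, haI, ha0⟩ := Submodule.exists_mem_ne_zero_of_ne_bot hI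
  obtain ⟨i, g, hg, qs, hqs, hqg⟩ := key (σ a) (fun h => ha0 (hσ (h.trans (map_zero σ).symm)))
  have hgI : g ∈ I := by
    rw [show g = t ^ i * a from hσ (by rw [hg, map_mul, map_pow])]
    exact Ideal.mul_mem_left _ _ haI
  obtain ⟨u, hu⟩ := hqg
  rw [← hu] at hgI
  have hprod : qs.prod ∈ I := (hIp.mem_or_mem hgI).resolve_right fun h =>
    hIp.ne_top (Ideal.eq_top_of_isUnit_mem _ h u.isUnit)
  obtain ⟨q, hq, hqI⟩ := (hIp.multiset_prod_mem_iff_exists_mem qs).1 hprod
  exact ⟨q, hqI, hqs q hq⟩

variable {K : Type u} [Field K] [Infinite K] {d n : ℕ}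

theorem prime_iff_isPrime_sup {R : Type u} [CommRing R] (J : Ideal R) (x : R)
    (hx : Ideal.Quotient.mk J x ≠ 0) : Prime (Ideal.Quotient.mk J x) ↔ (J ⊔ Ideal.span {x}).IsPrime := by
  rw [← Ideal.span_singleton_prime hx]
  have h : (Ideal.span {Ideal.Quotient.mk J x}).comap (Ideal.Quotient.mk J) = J ⊔ Ideal.span {x} := by
    rw [show Ideal.span {Ideal.Quotient.mk J x} = (Ideal.span {x}).map (Ideal.Quotient.mk J) by
      rw [Ideal.map_span, Set.image_singleton], Ideal.comap_map_of_surjective _ Ideal.Quotient.mk_surjective,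
      ← RingHom.ker_eq_comap_bot, Ideal.mk_ker, sup_comm]
  constructor
  · intro hp
    rw [← h]
    exact Ideal.IsPrime.comap _
  · intro hp
    rw [← Ideal.map_comap_of_surjective _ Ideal.Quotient.mk_surjective (Ideal.span {Ideal.Quotient.mk J x}), h]
    exact Ideal.map_isPrime_of_surjective Ideal.Quotient.mk_surjective
      (by rw [Ideal.mk_ker]; exact le_sup_left)

theorem mk_X_ne_zero (hd : 0 < d) (w : Idx d n) : Ideal.Quotient.mk (plIdeal K w) (X w) ≠ 0 := fun h => by
  have h' : psi K w (X w) = 0 := plIdeal_le_ker_psi w (Ideal.Quotient.eq_zero_iff_mem.1 h)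
  rw [psi_X_self] at h'
  exact Finset.prod_ne_zero_iff.2 (fun t _ => X_ne_zero _) h'

theorem ufm_iff_prime (hd : 0 < d) (w : Idx d n) :
    UniqueFactorizationMonoid (PlRing K d n ⧸ plIdeal K w) ↔ Prime (Ideal.Quotient.mk (plIdeal K w) (X w)) := by
  classical
  haveI hp : (plIdeal K w).IsPrime := ker_psi (K := K) hd w ▸ RingHom.ker_isPrime _
  haveI : IsDomain (PlRing K d n ⧸ plIdeal K w) := Ideal.Quotient.isDomain _
  constructor
  · intro h
    refine (UniqueFactorizationMonoid.irreducible_iff_prime.1 ⟨fun hu => ?_, fun a b hab => ?_⟩)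
    · obtain ⟨y, hy⟩ := hu.exists_left_inv
      obtain ⟨y, rfl⟩ := Ideal.Quotient.mk_surjective y
      rw [← map_mul, ← map_one (Ideal.Quotient.mk (plIdeal K w)), Ideal.Quotient.eq] at hy
      have h1 : psi K w (y * X w - 1) = 0 := plIdeal_le_ker_psi w hy
      have := congrArg constantCoeff h1
      simp [constantCoeff_psi_X hd] at this
    obtain ⟨a, rfl⟩ := Ideal.Quotient.mk_surjective a
    obtain ⟨b, rfl⟩ := Ideal.Quotient.mk_surjective b
    rw [← map_mul, Ideal.Quotient.eq] at hab
    have h1 : psi K w (X w - a * b) = 0 := plIdeal_le_ker_psi w hab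
    rw [map_sub, sub_eq_zero, map_mul, psi_X_self,
      show (∏ t, X (w.1 t, t) : MatRing K d n) = monomial (∑ t, Finsupp.single (w.1 t, t) 1) 1 from
        (MvPolynomial.monomial_sum_one Finset.univ fun t => Finsupp.single (w.1 t, t) 1).symm] at h1
    set e₀ : (Fin n × Fin d) →₀ ℕ := ∑ t, Finsupp.single (w.1 t, t) 1
    have he₀ : e₀.degree = d := by simp [e₀, map_sum]
    have hdvd : ∀ a : PlRing K d n, psi K w a ∣ monomial e₀ (1 : K) →
        ∃ (e : (Fin n × Fin d) →₀ ℕ) (c : K), c ≠ 0 ∧ e ≤ e₀ ∧ psi K w a = monomial e c := by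
      intro a ha
      obtain ⟨e, c, he, hc, h⟩ := (dvd_monomial_iff_exists (one_ne_zero)).1 ha
      exact ⟨e, c, fun h0 => by rw [h0, zero_dvd_iff] at hc; exact one_ne_zero hc, he, h⟩
    obtain ⟨ea, ca, hca, hea, hA⟩ := hdvd a (Dvd.intro _ h1.symm)
    obtain ⟨eb, cb, hcb, heb, hB⟩ := hdvd b (Dvd.intro_left _ h1.symm)
    have hdiv : ∀ (a : PlRing K d n) (e : (Fin n × Fin d) →₀ ℕ) (c : K), c ≠ 0 →
        psi K w a = monomial e c → d ∣ e.degree := by
      intro a e c hc h
      by_contra hnd
      have hX : ∀ θ, (psi K w (X θ)).IsHomogeneous d := fun θ => by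
        rw [psi, ev_X, Matrix.det_apply]
        refine IsHomogeneous.sum _ _ _ fun σ _ => ?_
        have hprod : (∏ t, ((stair K w).submatrix θ.1 id) (σ t) t).IsHomogeneous d := by
          have := IsHomogeneous.prod (R := K) Finset.univ (fun t => ((stair K w).submatrix θ.1 id) (σ t) t) (fun _ => 1)
            fun t _ => by
              simp only [Matrix.submatrix_apply, id_eq, stair, Matrix.of_apply]
              split_ifs
              · exact isHomogeneous_X _ _
              · exact isHomogeneous_zero _ _ _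
          simpa using this
        rw [Units.smul_def, zsmul_eq_mul, ← map_intCast (C : K →+* MatRing K d n)]
        exact hprod.C_mul _
      have hj : ∀ j, (psi K w (homogeneousComponent j a)).IsHomogeneous (d * j) := fun j => by
        have := (homogeneousComponent_isHomogeneous j a).aeval (n := d) (fun θ => psi K w (X θ)) hX
        rwa [show (aeval fun θ => psi K w (X θ) : PlRing K d n →ₐ[K] MatRing K d n) = psi K w from
          MvPolynomial.algHom_ext fun θ => aeval_X _ _] at this
      have h2 := congrArg (homogeneousComponent e.degree) h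
      rw [homogeneousComponent_of_mem ((mem_homogeneousSubmodule _ _).2 (isHomogeneous_monomial c rfl)), if_pos rfl,
        ← sum_homogeneousComponent a, map_sum, map_sum,
        Finset.sum_eq_zero fun j _ => by
          rw [homogeneousComponent_of_mem ((mem_homogeneousSubmodule _ _).2 (hj j)),
            if_neg (fun e' => hnd ⟨j, e'⟩)]] at h2
      exact hc (monomial_eq_zero.1 h2.symm)
    have hunit : ∀ (a : PlRing K d n) (e : (Fin n × Fin d) →₀ ℕ) (c : K), c ≠ 0 →
        psi K w a = monomial e c → e.degree = 0 → IsUnit (Ideal.Quotient.mk (plIdeal K w) a) := by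
      intro a e c hc h h0
      have he : e = 0 := (Finsupp.degree_eq_zero_iff e).1 h0
      have hsub : a - C c ∈ plIdeal K w := mem_plIdeal_of_psi_eq_zero hd (by
        rw [map_sub, h, he, ← MvPolynomial.algebraMap_eq, AlgHom.commutes, MvPolynomial.algebraMap_eq, C_apply,
          sub_self])
      rw [Ideal.Quotient.eq.2 hsub]
      exact ((Ne.isUnit hc).map C).map _
    have hsum : ea + eb = e₀ := by
      rw [hA, hB, monomial_mul] at h1
      have := congrArg MvPolynomial.support h1
      rw [support_monomial, support_monomial, if_neg one_ne_zero, if_neg (mul_ne_zero hca hcb),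
        Finset.singleton_inj] at this
      exact this.symm
    have hdeg : ea.degree + eb.degree = d := by rw [← map_add, hsum, he₀]
    obtain ⟨ka, hka⟩ := hdiv a ea ca hca hA
    rcases Nat.eq_zero_or_pos ea.degree with h0 | h0
    · exact Or.inl (hunit a ea ca hca hA h0)
    · refine Or.inr (hunit b eb cb hcb hB ?_)
      have hka1 : 1 ≤ ka := Nat.one_le_iff_ne_zero.2 fun h' => by rw [hka, h', mul_zero] at h0; omega
      have := Nat.le_mul_of_pos_right d hka1
      omega
  · intro hprime
    let σ := Ideal.Quotient.lift (plIdeal K w) (ev (K := K) (cellParam K hd w)).toRingHom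
      fun f hf => (ev_cellParam_eq_zero_iff hd w).2 hf
    have ht : σ (Ideal.Quotient.mk _ (X w)) = X none := (ev_X _ w).trans (det_cellParam_self hd w)
    refine ufm_of_prime σ ?_ _ hprime ?_ fun p => ?_
    · rw [injective_iff_map_eq_zero]
      intro x hx
      obtain ⟨f, rfl⟩ := Ideal.Quotient.mk_surjective x
      exact Ideal.Quotient.eq_zero_iff_mem.2 ((ev_cellParam_eq_zero_iff hd w).1 hx)
    · rw [ht]
      intro h
      have := (h.map (constantCoeff : MvPolynomial (Option (CellVar w)) K →+* K)).ne_zero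
      simp at this
    · obtain ⟨k, f, hf⟩ := exists_pow_mul_eq_ev hd w p
      exact ⟨k, Ideal.Quotient.mk _ f, by rw [ht]; exact hf⟩

theorem prime_iff_subsingleton (hd : 0 < d) (w : Idx d n) :
    Prime (Ideal.Quotient.mk (plIdeal K w) (X w)) ↔ (divisors w).Subsingleton := by
  classical
  rw [prime_iff_isPrime_sup _ _ (mk_X_ne_zero hd w)]
  let D : Finset (Idx d n) := Finset.univ.filter fun s => s ∈ divisors w
  have hD : ∀ s, s ∈ D ↔ s ∈ divisors w := fun s => by simp [D]
  have hcover : ∀ θ, θ < w → ∃ s ∈ D, θ ≤ s := fun θ hθ => by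
    obtain ⟨s, hs, h⟩ := exists_divisor_ge hθ
    exact ⟨s, (hD s).2 hs, h⟩
  by_cases hne : D.Nonempty
  · rw [← unionIdeal_divisors hd D hD hne hcover]
    constructor
    · intro hp
      obtain ⟨k₀, hk₀, hle⟩ := hp.inf_le'.1 (show D.inf (plIdeal K) ≤ unionIdeal K D by
        rw [unionIdeal, Finset.inf_eq_iInf])
      have h : ∀ k ∈ divisors w, k = k₀ := fun k hk => by
        by_contra hne'
        have h1 : (X k : PlRing K d n) ∈ plIdeal K k₀ := Ideal.subset_span (Or.inr ⟨k, fun h => hne' ?_, rfl⟩)
        · have h2 : psi K k (X k) = 0 := plIdeal_le_ker_psi k (mem_unionIdeal.1 (hle h1) k ((hD k).2 hk))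
          rw [psi_X_self] at h2
          exact Finset.prod_ne_zero_iff.2 (fun t _ => X_ne_zero _) h2
        · refine (eq_or_lt_of_le h).resolve_right fun hlt => ?_
          have := codeg_lt_of_lt hlt
          have := hk.2
          have := ((hD k₀).1 hk₀).2
          omega
      exact fun a ha b hb => (h a ha).trans (h b hb).symm
    · intro h
      obtain ⟨s, hs⟩ := hne
      have he : unionIdeal K D = plIdeal K s := by
        refine le_antisymm (fun f hf => mem_unionIdeal.1 hf s hs) fun f hf => mem_unionIdeal.2 fun k hk => ?_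
        rwa [h ((hD k).1 hk) ((hD s).1 hs)]
      rw [he, ← ker_psi (K := K) hd s]
      exact RingHom.ker_isPrime _
  · have hempty : ∀ s, s ∉ divisors w := fun s hs => hne ⟨s, (hD s).2 hs⟩
    refine iff_of_true ?_ fun a ha => absurd ha (hempty a)
    have hall : ∀ θ, (X θ : PlRing K d n) ∈ plIdeal K w ⊔ Ideal.span {X w} := fun θ => by
      by_cases h : θ ≤ w
      · rcases eq_or_lt_of_le h with rfl | h'
        · exact Ideal.mem_sup_right (Ideal.subset_span rfl)
        · obtain ⟨s, hs, -⟩ := exists_divisor_ge h'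
          exact absurd hs (hempty s)
      · exact Ideal.mem_sup_left (Ideal.subset_span (Or.inr ⟨θ, h, rfl⟩))
    have hJ : plIdeal K w ⊔ Ideal.span {X w} = RingHom.ker (constantCoeff : PlRing K d n →+* K) := by
      refine le_antisymm (sup_le (fun f hf => ?_) ?_) fun f hf => ?_
      · have h1 : psi K w f = 0 := plIdeal_le_ker_psi w hf
        have h2 : ∀ g : PlRing K d n, constantCoeff (psi K w g) = constantCoeff g := fun g => by
          induction g using MvPolynomial.induction_on with
          | C a => rw [← MvPolynomial.algebraMap_eq, AlgHom.commutes, MvPolynomial.algebraMap_eq,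
              MvPolynomial.algebraMap_eq, constantCoeff_C, constantCoeff_C]
          | add p q hp hq => simp [hp, hq]
          | mul_X p i hp => simp [constantCoeff_psi_X hd]
        rw [RingHom.mem_ker, ← h2 f, h1, map_zero]
      · rw [Ideal.span_singleton_le_iff_mem, RingHom.mem_ker, constantCoeff_X]
      · have hker : ∀ f : PlRing K d n, f - C (constantCoeff f) ∈ plIdeal K w ⊔ Ideal.span {X w} := fun f => by
          induction f using MvPolynomial.induction_on with
          | C a => simp
          | add p q hp hq => rw [map_add, map_add, add_sub_add_comm]; exact add_mem hp hq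
          | mul_X p i hp => simpa using Ideal.mul_mem_left _ p (hall i)
        have := hker f
        rwa [RingHom.mem_ker.1 hf, map_zero, sub_zero] at this
    rw [hJ]
    exact RingHom.ker_isPrime _

theorem mem_divisors_update {w : Idx d n} {t : Fin d} {v : Fin n} (hv : (v : ℕ) + 1 = w.1 t)
    (hlo : ∀ r : Fin d, r < t → (w.1 r : ℕ) < v) (ht : (t : ℕ) ≤ v) :
    ∃ φ ∈ divisors w, φ.1 = Function.update w.1 t v := by
  classical
  have hmono : StrictMono (Function.update w.1 t v) := by
    intro r s hrs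
    have hw : (w.1 r : ℕ) < (w.1 s : ℕ) := w.2 hrs
    rcases eq_or_ne r t with rfl | hr
    · rw [Function.update_self, Function.update_of_ne hrs.ne', Fin.lt_def]
      omega
    · rw [Function.update_of_ne hr]
      rcases eq_or_ne s t with rfl | hs
      · rw [Function.update_self, Fin.lt_def]
        exact hlo r hrs
      · rw [Function.update_of_ne hs]
        exact w.2 hrs
  refine ⟨⟨_, hmono⟩, ⟨lt_of_le_of_ne (fun s => ?_) fun he => ?_, ?_⟩, rfl⟩
  · rcases eq_or_ne s t with rfl | hs
    · simp only [Function.update_self, Fin.le_def]; omega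
    · simp [Function.update_of_ne hs]
  · have := congrArg (fun z : Idx d n => (z.1 t : ℕ)) he
    simp only [Function.update_self] at this
    omega
  · simp only [codeg]
    rw [← Finset.add_sum_erase _ _ (Finset.mem_univ t),
      ← Finset.add_sum_erase Finset.univ (fun s => (w.1 s : ℕ) - (s : ℕ)) (Finset.mem_univ t),
      Finset.sum_congr rfl fun s hs => by rw [Function.update_of_ne (Finset.ne_of_mem_erase hs)],
      Function.update_self]
    omega

theorem exists_update_of_mem_divisors {w φ : Idx d n} (h : φ ∈ divisors w) :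
    ∃ t, (φ.1 t : ℕ) + 1 = w.1 t ∧ ∀ s, s ≠ t → φ.1 s = w.1 s := by
  classical
  have hle : ∀ t, (φ.1 t : ℕ) ≤ w.1 t := fun t => h.1.le t
  obtain ⟨t, ht⟩ : ∃ t, φ.1 t ≠ w.1 t := Function.ne_iff.1 fun e => h.1.ne (Subtype.ext e)
  have ht' : (φ.1 t : ℕ) < w.1 t := lt_of_le_of_ne (hle t) (Fin.val_ne_of_ne ht)
  have hsum := h.2
  simp only [codeg] at hsum
  rw [← Finset.add_sum_erase _ _ (Finset.mem_univ t),
    ← Finset.add_sum_erase Finset.univ (fun s => (w.1 s : ℕ) - (s : ℕ)) (Finset.mem_univ t)] at hsum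
  have hsle : ∑ s ∈ Finset.univ.erase t, ((φ.1 s : ℕ) - (s : ℕ)) ≤
      ∑ s ∈ Finset.univ.erase t, ((w.1 s : ℕ) - (s : ℕ)) :=
    Finset.sum_le_sum fun s _ => Nat.sub_le_sub_right (hle s) _
  have := val_le_idx φ t
  refine ⟨t, by omega, fun s hs => Fin.ext ?_⟩
  have := val_le_idx φ s
  have := hle s
  by_contra hne
  have : ∑ s ∈ Finset.univ.erase t, ((φ.1 s : ℕ) - (s : ℕ)) <
      ∑ s ∈ Finset.univ.erase t, ((w.1 s : ℕ) - (s : ℕ)) :=
    Finset.sum_lt_sum (fun s _ => Nat.sub_le_sub_right (hle s) _) ⟨s, Finset.mem_erase.2 ⟨hs, Finset.mem_univ s⟩, by omega⟩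
  omega

theorem subsingleton_iff_shape (w : Idx d n) : (divisors w).Subsingleton ↔
    ∃ s : ℕ, (∀ t : Fin d, t.val < s → (w.1 t).val = t.val) ∧
      ∀ t t' : Fin d, s ≤ t.val → t.val + 1 = t'.val → (w.1 t).val + 1 = (w.1 t').val := by
  classical
  constructor
  · intro h
    by_cases hex : ∃ t : Fin d, (w.1 t).val ≠ t.val
    · obtain ⟨a, ha, hmin⟩ := Finset.exists_min_image (Finset.univ.filter fun t : Fin d => (w.1 t).val ≠ t.val) id
        (by simpa [Finset.Nonempty] using hex)
      simp only [Finset.mem_filter, Finset.mem_univ, true_and, id_eq] at ha hmin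
      have hfix : ∀ t : Fin d, t < a → (w.1 t).val = t.val := fun t ht => by
        by_contra hne
        exact absurd (hmin t hne) (not_le.2 ht)
      refine ⟨a, fun t ht => hfix t ht, fun t t' hst htt => ?_⟩
      have ha' : (a : ℕ) < w.1 a := lt_of_le_of_ne (val_le_idx w a) (Ne.symm ha)
      by_contra hne
      have hlt : (w.1 t : ℕ) < w.1 t' := w.2 (Fin.lt_def.2 (by omega))
      obtain ⟨p, hp, hpw⟩ := mem_divisors_update (w := w) (t := a) (v := ⟨(w.1 a : ℕ) - 1, by omega⟩)
        (by simp only; omega) (fun r hr => by have := hfix r hr; have := Fin.lt_def.1 hr; simp only; omega)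
        (by simp only; omega)
      obtain ⟨q, hq, hqw⟩ := mem_divisors_update (w := w) (t := t') (v := ⟨(w.1 t' : ℕ) - 1, by omega⟩)
        (by simp only; omega)
        (fun r hr => by
          have : (w.1 r : ℕ) ≤ w.1 t := w.2.monotone (Fin.le_def.2 (by have := Fin.lt_def.1 hr; omega))
          simp only; omega)
        (by have := val_le_idx w t; simp only; omega)
      have hpq : (p.1 a : ℕ) = q.1 a := congrArg (fun z : Idx d n => (z.1 a : ℕ)) (h hp hq)
      rw [hpw, hqw, Function.update_self, Function.update_of_ne (fun e => by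
        have := congrArg Fin.val e; omega)] at hpq
      simp only at hpq
      omega
    · push Not at hex
      exact ⟨d, fun t _ => hex t, fun t t' ht _ => absurd t.2 (not_lt.2 ht)⟩
  · rintro ⟨s, hs1, hs2⟩ p hp q hq
    obtain ⟨a, ha, ha'⟩ := exists_update_of_mem_divisors hp
    obtain ⟨b, hb, hb'⟩ := exists_update_of_mem_divisors hq
    have key : ∀ (φ : Idx d n) (t : Fin d), (φ.1 t : ℕ) + 1 = w.1 t → (∀ r, r ≠ t → φ.1 r = w.1 r) →
        (t : ℕ) = s := by
      intro φ t ht ht'
      have h0 := val_le_idx φ t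
      have h1 : ¬ (t : ℕ) < s := fun h => by have := hs1 t h; omega
      by_contra hne
      have h2 := hs2 ⟨(t : ℕ) - 1, by omega⟩ t (by simp only; omega) (by simp only; omega)
      have h3 : (φ.1 ⟨(t : ℕ) - 1, by omega⟩ : ℕ) < φ.1 t := φ.2 (Fin.lt_def.2 (by simp only; omega))
      rw [ht' _ (fun e => by have := congrArg Fin.val e; simp only at this; omega)] at h3
      omega
    obtain rfl : a = b := Fin.ext ((key p a ha ha').trans (key q b hb hb').symm)
    refine Subtype.ext (funext fun r => ?_)
    rcases eq_or_ne r a with rfl | hr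
    · exact Fin.ext (by omega)
    · rw [ha' r hr, hb' r hr]

end Groth.Agent.PlLib
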